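import Groth.Agent.RegImm10.BlowLocal
import Groth.Agent.Div89.BlowRees
import Mathlib.AlgebraicGeometry.ProjectiveSpectrum.Proper

/-! Local models of blow-ups: properness and charts. -/

set_option autoImplicit false
set_option linter.style.haveILetI false

noncomputable section

universe u

open CategoryTheory CategoryTheory.Limits AlgebraicGeometry Polynomial

namespace Groth.Agent.RegImm10.BlowModel

variable {X X' : Scheme.{u}} {I : X.IdealSheafData} {b : X' ⟶ X}

/-- Two blow-ups in the same ideal are isomorphic over the base. -/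
theorem exists_iso {X'' : Scheme.{u}} {b'' : X'' ⟶ X} (hb : BlowUp.IsBlowUp b I)
    (hb'' : BlowUp.IsBlowUp b'' I) : ∃ e : X' ≅ X'', e.hom ≫ b'' = b := by
  obtain ⟨p, hp, -⟩ := hb''.2 X' b hb.1
  obtain ⟨q, hq, -⟩ := hb.2 X'' b'' hb''.1
  obtain ⟨r, -, hr⟩ := hb.2 X' b hb.1
  obtain ⟨r', -, hr'⟩ := hb''.2 X'' b'' hb''.1
  refine ⟨⟨p, q, (hr (p ≫ q) ?_).trans (hr (𝟙 _) (Category.id_comp b)).symm,
    (hr' (q ≫ p) ?_).trans (hr' (𝟙 _) (Category.id_comp b'')).symm⟩, hp⟩
  · show (p ≫ q) ≫ b = b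
    rw [Category.assoc, hq, hp]
  · show (q ≫ p) ≫ b'' = b''
    rw [Category.assoc, hp, hq]

theorem isBlowUp_morphismRestrict (hb : BlowUp.IsBlowUp b I) (U : X.Opens) :
    BlowUp.IsBlowUp (b ∣_ U) (I.comap U.ι) := by
  have h := BlowLocal.isBlowUp_iso_comp ((pullbackRestrictIsoRestrict b U).symm ≪≫ pullbackSymmetry b U.ι)
    (Div89.isBlowUp_flat_baseChange U.ι hb)
  convert h using 1
  simp only [Iso.trans_hom, Iso.symm_hom, Category.assoc, pullbackSymmetry_hom_comp_fst]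
  rfl

/-- The pullback of an ideal sheaf to an affine open. -/
theorem idealSpec_comap (I : X.IdealSheafData) {U : X.Opens} (hU : IsAffineOpen U) :
    (FSch.idealSpec Γ(X, U) (I.ideal ⟨U, hU⟩)) = I.comap hU.fromSpec := by
  refine Scheme.IdealSheafData.ext_of_isAffine ?_
  rw [MP99.ideal_comap _ hU.fromSpec ⟨U, hU⟩ ⟨⊤, isAffineOpen_top _⟩ hU.fromSpec_preimage_self.ge,
    FBlow13.idealSpec_ideal_top]
  congr 1
  rw [Scheme.Hom.appLE, hU.fromSpec_app_self]
  simp only [Category.assoc, ← Functor.map_comp, CommRingCat.hom_comp]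
  rfl

/-- Over an affine open a blow-up is a blow-up of the spectrum. -/
theorem isBlowUp_affine (hb : BlowUp.IsBlowUp b I) {U : X.Opens} (hU : IsAffineOpen U) :
    BlowUp.IsBlowUp ((b ∣_ U) ≫ hU.isoSpec.hom) (FSch.idealSpec Γ(X, U) (I.ideal ⟨U, hU⟩)) := by
  refine Div89.isBlowUp_comp_iso hU.isoSpec (b ∣_ U) _ ?_
  rw [idealSpec_comap, ← Scheme.IdealSheafData.comap_comp, hU.isoSpec_hom_fromSpec]
  exact isBlowUp_morphismRestrict hb U

theorem isProper_projOverSpec {A S : Type u} [CommRing A] [CommRing S] [Algebra A S]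
    (𝒜 : ℕ → Submodule A S) [GradedAlgebra 𝒜] [Algebra.FiniteType A S]
    (h : Function.Bijective (algebraMap A (𝒜 0))) :
    IsProper (Proj 𝒜 ↘ Spec (CommRingCat.of A)) := by
  haveI : IsScalarTower A (𝒜 0) S := ⟨fun r x y => by
    show ((r • x : 𝒜 0) : S) * y = r • ((x : S) * y)
    rw [SetLike.val_smul, smul_mul_assoc]⟩
  haveI : Algebra.FiniteType (𝒜 0) S := Algebra.FiniteType.of_restrictScalars_finiteType A _ _
  haveI : IsIso (CommRingCat.ofHom (algebraMap A (𝒜 0))) := (ConcreteCategory.isIso_iff_bijective _).mpr h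
  exact inferInstanceAs (IsProper (Proj.toSpecZero 𝒜 ≫ Spec.map (CommRingCat.ofHom (algebraMap A (𝒜 0)))))

theorem isProper_str {A : Type u} [CommRing A] (J : Ideal A) (hJ : J.FG) :
    IsProper (Div89.ReesChart.str J) := by
  haveI : Algebra.FiniteType A (reesAlgebra J) :=
    (Subalgebra.fg_iff_finiteType _).mp (reesAlgebra.fg hJ)
  refine isProper_projOverSpec _ ⟨fun x y hxy => ?_, fun z => ?_⟩
  · exact C_injective (congrArg (fun w : Rees.deg (reesAlgebra J) 0 => ((w : reesAlgebra J) : A[X])) hxy)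
  · refine ⟨((z : reesAlgebra J) : A[X]).coeff 0, Subtype.ext (Subtype.ext (Polynomial.ext fun m => ?_))⟩
    show (C (((z : reesAlgebra J) : A[X]).coeff 0)).coeff m = _
    rw [coeff_C]
    split_ifs with hm
    · rw [hm]
    · exact (z.2 m hm).symm

/-- A blow-up in an ideal of finite type is proper. -/
theorem isProper_of_isBlowUp (hft : BlowUp.IsFiniteTypeIdeal I) (hb : BlowUp.IsBlowUp b I) :
    IsProper b := by
  refine (IsZariskiLocalAtTarget.iff_of_iSup_eq_top (P := @IsProper) (fun U : X.affineOpens => U.1) ?_).mpr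
    fun U => ?_
  · exact X.isBasis_affineOpens.isOpenCover.iSup_eq_top
  · obtain ⟨e, he⟩ := exists_iso (isBlowUp_affine hb U.2) Div89.ReesChart.isBlowUp_str
    have hp : IsProper ((b ∣_ U.1) ≫ U.2.isoSpec.hom) := by
      rw [← he]
      haveI := isProper_str (I.ideal ⟨U.1, U.2⟩) (hft U)
      infer_instance
    exact (MorphismProperty.cancel_right_of_respectsIso (P := @IsProper) _ _).mp hp

/-- The charts of a blow-up. -/
theorem exists_chart (hb : BlowUp.IsBlowUp b I) {U : X.Opens} (hU : IsAffineOpen U) {x' : X'}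
    (hx : b x' ∈ U) :
    ∃ a ∈ I.ideal ⟨U, hU⟩, ∃ j : Spec (CommRingCat.of (BlowUp.affineAlgebra Γ(X, U) (I.ideal ⟨U, hU⟩) a)) ⟶ X',
      IsOpenImmersion j ∧ x' ∈ Set.range j ∧
      j ≫ b = Spec.map (CommRingCat.ofHom (algebraMap Γ(X, U) _)) ≫ hU.fromSpec ∧
      (I.comap b).comap j = FSch.idealSpec _ (Ideal.span {algebraMap Γ(X, U) _ a}) := by
  have h := isBlowUp_affine hb hU
  let π := (b ∣_ U) ≫ hU.isoSpec.hom
  obtain ⟨a, ha, hp⟩ := FBlow13.exists_mem_chartOpen π h.1 ⟨x', hx⟩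
  obtain ⟨e, he⟩ := FBlow13.exists_iso_chartOpen π h ha
  let j := e.hom ≫ (FBlow13.chartOpen π (I.ideal ⟨U, hU⟩) a).ι ≫ (b ⁻¹ᵁ U).ι
  have hj : j ≫ b = Spec.map (CommRingCat.ofHom (algebraMap Γ(X, U) _)) ≫ hU.fromSpec := by
    change _ = FBlow13.chartMor _ _ a ≫ hU.fromSpec
    rw [← he]
    simp only [j, π, Category.assoc, hU.isoSpec_hom_fromSpec, morphismRestrict_ι]
  refine ⟨a, ha, j, inferInstance, ?_, hj, ?_⟩
  · refine ⟨e.inv ⟨⟨x', hx⟩, hp⟩, ?_⟩
    simp only [j, Scheme.Hom.comp_apply]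
    rw [← Scheme.Hom.comp_apply e.inv e.hom, e.inv_hom_id]
    rfl
  rw [← Scheme.IdealSheafData.comap_comp, hj, Scheme.IdealSheafData.comap_comp, ← idealSpec_comap]
  refine Scheme.IdealSheafData.ext_of_isAffine ?_
  rw [MP99.ideal_comap_top_of_isAffine, FBlow13.idealSpec_ideal_top, FBlow13.idealSpec_ideal_top,
    Ideal.map_map, ← CommRingCat.hom_comp, ← Scheme.ΓSpecIso_inv_naturality, CommRingCat.hom_comp,
    ← Ideal.map_map]
  congr 1
  refine le_antisymm (Ideal.map_le_iff_le_comap.mpr fun x hx' => ?_) ?_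
  · obtain ⟨c, hc⟩ := FBlow13.affineAlgebra_div (a := a) hx'
    exact Ideal.mem_span_singleton'.mpr ⟨c, hc.symm⟩
  · rw [Ideal.span_le, Set.singleton_subset_iff]
    exact Ideal.mem_map_of_mem _ ha

end Groth.Agent.RegImm10.BlowModel
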