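import Groth.Agent.LC16.BlowTor
import Groth.Agent.FBlow13.Chart
import Groth.Agent.Koszul19.BaseChange
import Groth.Agent.Koszul19.Homotopy
import Groth.Agent.LCI19.Local
import Mathlib.RingTheory.Localization.BaseChange
import Mathlib.RingTheory.Flat.Localization

/-!
The affine blow-up algebra of a Koszul regular sequence is the polynomial ring modulo a Koszul regular
sequence.
-/

set_option autoImplicit false
set_option linter.style.haveILetI false

noncomputable section

universe u

open scoped TensorProduct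
open MvPolynomial

namespace Groth.Agent.RegImm10.KoszulBlow

open Groth.Agent Koszul19 LC16

/-- A sequence is Koszul regular if it is so after prepending `c` and after inverting `c`. -/
theorem kR_tail {B : Type u} [CommRing B] (B' : Type u) [CommRing B'] [Algebra B B'] (c : B)
    [IsLocalization.Away c B'] {g : List B} (h : KR (c :: g)) (h' : KR (g.map (algebraMap B B'))) :
    KR g := by
  refine kR_of_neg g fun q hq => ?_
  intro p j hp hj z hz
  haveI : IsLocalizedModule (Submonoid.powers c) (TensorProduct.mk B B' ((Koszul.koszul B g).X q) 1) :=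
    (isLocalizedModule_iff_isBaseChange (Submonoid.powers c) B' _).2 (TensorProduct.isBaseChange B _ _)
  haveI : IsLocalizedModule (Submonoid.powers c) (TensorProduct.mk B B' ((Koszul.koszul B g).X p) 1) :=
    (isLocalizedModule_iff_isBaseChange (Submonoid.powers c) B' _).2 (TensorProduct.isBaseChange B _ _)
  have hex := ((bcKoszul (B := B') g).exact_iff p q j hp hj).1 (h' q (by omega))
  obtain ⟨y, hy⟩ := (hex ((1 : B') ⊗ₜ z)).1 (by rw [LinearMap.lTensor_tmul, hz, TensorProduct.tmul_zero])
  obtain ⟨⟨w, s⟩, hs⟩ := IsLocalizedModule.surj (Submonoid.powers c)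
    (TensorProduct.mk B B' ((Koszul.koszul B g).X p) 1) y
  have h1 : TensorProduct.mk B B' ((Koszul.koszul B g).X q) 1 ((s : B) • z - dd (Koszul.koszul B g) p q w) = 0 := by
    have h2 := congrArg ((dd (Koszul.koszul B g) p q).lTensor B') hs
    rw [Submonoid.smul_def, map_smul, hy] at h2
    rw [map_sub, map_smul, sub_eq_zero]
    exact h2
  obtain ⟨s', hs'⟩ := (IsLocalizedModule.eq_zero_iff (Submonoid.powers c) _).1 h1
  obtain ⟨n, hn⟩ := Submonoid.mem_powers_iff _ _ |>.1 (mul_mem s'.2 s.2)
  have hbd : ∃ w, dd (Koszul.koszul B g) p q w = c ^ n • z := by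
    refine ⟨(s' : B) • w, ?_⟩
    rw [hn, map_smul, mul_smul]
    rw [Submonoid.smul_def, smul_sub, sub_eq_zero] at hs'
    exact hs'.symm
  clear hex hy hs h1 hs' hn y w s s'
  induction n generalizing z with
  | zero => simpa using hbd
  | succ n ih =>
    obtain ⟨w, hw⟩ := hbd
    apply ih z hz
    exact (consData c g).exists_of_ex p q j hp hj (h p (by omega)) (c ^ n • z)
      (by rw [map_smul, hz, smul_zero]) (-w)
      (by rw [map_neg, hw, pow_succ', mul_smul, add_neg_cancel])

variable {A : Type u} [CommRing A] {t : ℕ} (a : Fin (t + 1) → A)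

/-- The relations as a list. -/
def rels : List (MvPolynomial (Fin t) A) := List.ofFn (BlowTor.rel a)

theorem ofList_take (k : ℕ) : Ideal.ofList ((rels a).take k) = BlowTor.J a k := by
  rw [Ideal.ofList, BlowTor.J]
  congr 1
  ext x
  simp only [rels, List.mem_take_iff_getElem, List.getElem_ofFn, List.length_ofFn, Set.mem_setOf_eq,
    Set.mem_image]
  constructor
  · rintro ⟨i, hi, rfl⟩
    exact ⟨⟨i, (lt_min_iff.1 hi).2⟩, (lt_min_iff.1 hi).1, rfl⟩
  · rintro ⟨i, hi, rfl⟩
    exact ⟨i, lt_min hi i.2, rfl⟩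

theorem ofList_rels : Ideal.ofList (rels a) = BlowTor.J a t := by
  rw [← ofList_take, List.take_of_length_le (by simp [rels])]

/-- The relations are regular after inverting the first element. -/
theorem kR_rels_away :
    KR ((rels a).map (algebraMap (MvPolynomial (Fin t) A) (Localization.Away (C (a 0) : MvPolynomial (Fin t) A)))) := by
  let P := MvPolynomial (Fin t) A
  let P' := Localization.Away (C (a 0) : P)
  suffices ∀ k ≤ t, KR ((((rels a).take k).map (algebraMap P P')).reverse) by
    have h := this t le_rfl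
    rw [List.take_of_length_le (by simp [rels])] at h
    exact h.perm (List.reverse_perm _)
  intro k hk
  induction k with
  | zero => simpa using kR_nil
  | succ k ih =>
    have hkl : k < (rels a).length := by simp [rels]; omega
    rw [List.take_succ_eq_append_getElem hkl, List.map_append, List.reverse_append]
    simp only [List.map_cons, List.map_nil, List.reverse_singleton, List.singleton_append]
    refine kR_cons_of_regular _ _ (ih (by omega)) fun y hy => ?_
    rw [ofList_perm (List.reverse_perm _), ← LCI19.map_ofList, ofList_take] at hy ⊢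
    obtain ⟨⟨z, s⟩, hs⟩ := IsLocalization.surj (Submonoid.powers (C (a 0) : P)) y
    obtain ⟨n, hn⟩ := s.2
    have hgz : algebraMap P P' ((rels a)[k] * z) ∈ (BlowTor.J a k).map (algebraMap P P') := by
      rw [map_mul, ← hs, ← mul_assoc]
      exact Ideal.mul_mem_right _ _ hy
    obtain ⟨m, hm, hmz⟩ := (IsLocalization.algebraMap_mem_map_algebraMap_iff (Submonoid.powers (C (a 0) : P)) P' _ _).1 hgz
    obtain ⟨m, rfl⟩ := hm
    have h0 : BlowTor.sub a k ((C (a 0)) ^ m * z) = 0 := by
      refine BlowTor.sub_rel_cancel a ⟨k, hk⟩ _ ?_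
      rw [← map_mul]
      refine BlowTor.sub_J a ?_
      convert hmz using 1
      simp only [rels, List.getElem_ofFn]
      ring
    obtain ⟨n', hn'⟩ := BlowTor.exists_pow_mul_mem a h0
    refine (Ideal.unit_mul_mem_iff_mem _ (IsLocalization.map_units P' s)).1 ?_
    rw [mul_comm, hs]
    refine (IsLocalization.algebraMap_mem_map_algebraMap_iff (Submonoid.powers (C (a 0) : P)) P' _ _).2
      ⟨(C (a 0)) ^ (n' + m), ⟨_, rfl⟩, ?_⟩
    rwa [pow_add, mul_assoc]

theorem ofList_cons_rels :
    Ideal.ofList (C (a 0) :: rels a) = Ideal.ofList ((List.ofFn a).map (C (σ := Fin t))) := by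
  refine le_antisymm (Ideal.span_le.2 fun x hx => ?_) (Ideal.span_le.2 fun x hx => ?_)
  · have hC : ∀ i, C (a i) ∈ Ideal.ofList ((List.ofFn a).map (C (σ := Fin t))) := fun i =>
      Ideal.subset_span (List.mem_map_of_mem (List.mem_ofFn.2 ⟨i, rfl⟩))
    rcases List.mem_cons.1 hx with rfl | hx
    · exact hC 0
    · obtain ⟨j, rfl⟩ := List.mem_ofFn.1 hx
      exact sub_mem (Ideal.mul_mem_right _ _ (hC 0)) (hC j.succ)
  · obtain ⟨y, hy, rfl⟩ := List.mem_map.1 hx
    obtain ⟨i, rfl⟩ := List.mem_ofFn.1 hy
    have h0 : C (a 0) ∈ Ideal.ofList (C (a 0) :: rels a) := Ideal.subset_span List.mem_cons_self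
    induction i using Fin.cases with
    | zero => exact h0
    | succ j =>
      have h1 : BlowTor.rel a j ∈ Ideal.ofList (C (a 0) :: rels a) :=
        Ideal.subset_span (List.mem_cons_of_mem _ (List.mem_ofFn.2 ⟨j, rfl⟩))
      have h2 : C (a 0) * X j - BlowTor.rel a j = C (a j.succ) := by simp [BlowTor.rel]
      exact h2 ▸ sub_mem (Ideal.mul_mem_right _ _ h0) h1

theorem kR_cons_rels (ha : KR (List.ofFn a)) : KR (C (a 0) :: rels a) :=
  kR_of_length_le (KR.map (B := MvPolynomial (Fin t) A) ha) (ofList_cons_rels a) (by simp [rels])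

/-- The relations of a Koszul regular sequence form a Koszul regular sequence. -/
theorem kR_rels (ha : KR (List.ofFn a)) : KR (rels a) :=
  kR_tail _ _ (kR_cons_rels a ha) (kR_rels_away a)

variable {𝔞 : Ideal A} (h𝔞 : Ideal.span (Set.range a) = 𝔞)
  (μ : MvPolynomial (Fin t) A →ₐ[A] BlowUp.affineAlgebra A 𝔞 (a 0))
  (hμ : ∀ j, algebraMap A _ (a 0) * μ (X j) = algebraMap A _ (a j.succ))

include hμ in
theorem val_X (j : Fin t) : (μ (X j) : Localization.Away (a 0)) = BlowTor.frac a j := by
  refine (IsLocalization.Away.algebraMap_isUnit (a 0) (S := Localization.Away (a 0))).mul_left_cancel ?_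
  rw [BlowTor.a0_mul_frac]
  exact congrArg Subtype.val (hμ j)

include h𝔞 hμ in
/-- The chart is generated by the fractions. -/
theorem surjective : Function.Surjective μ := by
  suffices BlowUp.affineAlgebra A 𝔞 (a 0) ≤ ((Subalgebra.val _).comp μ).range by
    intro y
    obtain ⟨z, hz⟩ := this y.2
    exact ⟨z, Subtype.ext hz⟩
  refine Algebra.adjoin_le ?_
  rintro _ ⟨x, hx, rfl⟩
  rw [← h𝔞, Ideal.mem_span_range_iff_exists_fun] at hx
  obtain ⟨c, rfl⟩ := hx
  refine ⟨C (c 0) + ∑ j, C (c j.succ) * X j, ?_⟩
  refine (IsLocalization.Away.algebraMap_isUnit (a 0) (S := Localization.Away (a 0))).mul_left_cancel ?_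
  show algebraMap A _ (a 0) * ((μ _ : BlowUp.affineAlgebra A 𝔞 (a 0)) : Localization.Away (a 0)) = _
  refine Eq.trans ?_ (IsLocalization.mk'_spec' (Localization.Away (a 0)) (∑ i, c i * a i)
    (⟨a 0, Submonoid.mem_powers (a 0)⟩ : Submonoid.powers (a 0))).symm
  rw [Fin.sum_univ_succ, map_add, map_add, Subalgebra.coe_add, mul_add, map_sum, map_sum,
    AddSubmonoidClass.coe_finsetSum, Finset.mul_sum]
  simp only [map_mul, ← algebraMap_eq, AlgHom.commutes, Subalgebra.coe_mul,
    Subalgebra.coe_algebraMap, val_X a μ hμ]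
  refine congrArg₂ (· + ·) (mul_comm _ _) (Finset.sum_congr rfl fun j _ => ?_)
  rw [mul_left_comm, BlowTor.a0_mul_frac]

include hμ in
/-- The relations cut out the chart. -/
theorem ker_eq (ha : KR (List.ofFn a)) : RingHom.ker μ = Ideal.ofList (rels a) := by
  refine le_antisymm (fun z hz => ?_) (Ideal.span_le.2 fun x hx => ?_)
  · have hs : BlowTor.sub a t z = 0 := by
      have h : BlowTor.sub a t =
          ((IsScalarTower.toAlgHom A (Localization.Away (a 0)) _).comp (Subalgebra.val _)).comp μ := by
        refine MvPolynomial.algHom_ext fun j => ?_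
        rw [BlowTor.sub_X, if_pos j.2, AlgHom.comp_apply, AlgHom.comp_apply, Subalgebra.coe_val,
          val_X a μ hμ]
        rfl
      rw [h, AlgHom.comp_apply, show μ z = 0 from hz, map_zero]
    obtain ⟨n, hn⟩ := BlowTor.exists_pow_mul_mem a hs
    rw [← ofList_rels] at hn
    clear hs hz
    induction n generalizing z with
    | zero => simpa using hn
    | succ n ih =>
      refine ih z (regular_of_ex _ _ (kR_cons_rels a ha (-1) (by omega)) _ ?_)
      rwa [← mul_assoc, ← pow_succ']
  · obtain ⟨j, rfl⟩ := List.mem_ofFn.1 hx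
    show μ _ = 0
    rw [BlowTor.rel, map_sub, map_mul, ← algebraMap_eq, AlgHom.commutes, AlgHom.commutes, hμ, sub_self]

/-- The presentation map of the chart. -/
theorem exists_hom : ∃ μ : MvPolynomial (Fin t) A →ₐ[A] BlowUp.affineAlgebra A (Ideal.span (Set.range a)) (a 0),
    ∀ j, algebraMap A _ (a 0) * μ (X j) = algebraMap A _ (a j.succ) := by
  have h : ∀ j : Fin t, ∃ c, algebraMap A (BlowUp.affineAlgebra A (Ideal.span (Set.range a)) (a 0)) (a j.succ) =
      c * algebraMap A _ (a 0) := fun j => FBlow13.affineAlgebra_div (Ideal.subset_span ⟨_, rfl⟩)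
  choose c hc using h
  exact ⟨MvPolynomial.aeval c, fun j => by rw [MvPolynomial.aeval_X, hc, mul_comm]⟩

end Groth.Agent.RegImm10.KoszulBlow
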