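import Groth.Agent.RegImm10.BundleChart
import Groth.Agent.RegImm10.KoszulBlow
import Groth.Agent.RegImm10.BlowModel
import Groth.Agent.Props58.LocFree.Affine
import Groth.Agent.Props58.LocFree.Criteria
import Groth.Prelude.Def_RegImm

/-!
The blow-up in a Koszul regular centre, inside the projective bundle.
-/

set_option autoImplicit false
set_option backward.isDefEq.respectTransparency.types false
set_option linter.style.haveILetI false

noncomputable section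

universe u

open CategoryTheory CategoryTheory.Limits AlgebraicGeometry TopologicalSpace Opposite

namespace Groth.Agent.RegImm10.BundleBlow

open Groth.Agent QC70 Om3.EulerLift BundleChart Koszul19

theorem kR_ringEquiv {A B : Type u} [CommRing A] [CommRing B] (E : A ≃+* B) {l : List A} (h : KR l) :
    KR (l.map E) := by
  letI := E.toRingHom.toAlgebra
  haveI : Module.Flat A B :=
    Module.Flat.of_linearEquiv (AddEquiv.toLinearEquiv E.toAddEquiv
      (fun a b => map_mul E a b) : A ≃ₗ[A] B).symm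
  exact h.map

theorem pullbackStructureIso_pullS' {T Y : Scheme.{u}} (f : T ⟶ Y) (U : Y.Opens) (y : Γ(Y, U)) :
    (PicLoc.pullbackStructureIso f).hom.app (f ⁻¹ᵁ U)
        (Amp73.pullS f (Coh.structureModule Y) U (y : Γ(Coh.structureModule Y, U))) =
      ((f.app U y : Γ(T, f ⁻¹ᵁ U)) : Γ(Coh.structureModule T, f ⁻¹ᵁ U)) := by
  have hy : (y : Γ(Coh.structureModule Y, U)) = y • ((1 : Γ(Y, U)) : Γ(Coh.structureModule Y, U)) :=
    (mul_one y).symm
  refine (congrArg (fun z => (PicLoc.pullbackStructureIso f).hom.app (f ⁻¹ᵁ U)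
    (Amp73.pullS f (Coh.structureModule Y) U z)) hy).trans ?_
  erw [Amp73.pullS_smul]
  rw [Scheme.Modules.Hom.app_smul, Amp73.pullbackStructureIso_pullS]
  exact mul_one (f.app U y)

theorem chartPred_specMap {A C : Type u} [CommRing A] [CommRing C] {𝔞 : Ideal A} {a : A} (φ : A →+* C)
    (hnz : φ a ∈ nonZeroDivisors C) (hdiv : ∀ x ∈ 𝔞, φ a ∣ φ x) :
    FBlow13.ChartPred A 𝔞 a _ (Spec.map (CommRingCat.ofHom φ)) := by
  refine (FBlow13.chartPred_iff_of_isAffine _).2 ?_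
  rw [show (Scheme.ΓSpecIso (CommRingCat.of A)).inv ≫ (Spec.map (CommRingCat.ofHom φ)).appTop =
      CommRingCat.ofHom φ ≫ (Scheme.ΓSpecIso (CommRingCat.of C)).inv from
    (Scheme.ΓSpecIso_inv_naturality (CommRingCat.ofHom φ)).symm]
  let ε := (Scheme.ΓSpecIso (CommRingCat.of C)).commRingCatIsoToRingEquiv
  refine ⟨MulEquivClass.map_nonZeroDivisors ε.symm ▸ Submonoid.mem_map.2 ⟨_, hnz, rfl⟩, fun m hm => ?_⟩
  exact map_dvd ε.symm (hdiv m hm)

variable {X X' P : Scheme.{u}} {E : X.Modules} {u : E ⟶ Coh.structureModule X}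
  {π : P ⟶ X} {O1 : P.Modules} {q : (Scheme.Modules.pullback π).obj E ⟶ O1}
  {f : X' ⟶ X} {j : X' ⟶ P} (hjπ : j ≫ π = f)

/-- The value of `u` on a section as a function. -/
abbrev val (u : E ⟶ Coh.structureModule X) (U : X.Opens) (m : Γ(E, U)) : Γ(X, U) :=
  OmegaSh.fnSect X U (u.app U m)

/-- The pullback along `h` of the composite `j^*O(1) → J' → O`. -/
def theta {C : CommRingCat.{u}} (h : Spec C ⟶ X') (θ₀ : (Scheme.Modules.pullback j).obj O1 ⟶ Coh.structureModule X') :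
    (Scheme.Modules.pullback (h ≫ j)).obj O1 ⟶ Coh.structureModule (Spec C) :=
  (Scheme.Modules.pullbackComp h j).inv.app O1 ≫ (Scheme.Modules.pullback h).map θ₀ ≫
    (PicLoc.pullbackStructureIso h).hom

/-- The hypothesis relating `j` to `u`. -/
def Compat (q : (Scheme.Modules.pullback π).obj E ⟶ O1) (u : E ⟶ Coh.structureModule X)
    (θ₀ : (Scheme.Modules.pullback j).obj O1 ⟶ Coh.structureModule X') : Prop :=
  comp q j hjπ ≫ θ₀ = (Scheme.Modules.pullback f).map u ≫ (PicLoc.pullbackStructureIso f).hom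

include hjπ in
theorem exists_theta {θ₀ : (Scheme.Modules.pullback j).obj O1 ⟶ Coh.structureModule X'}
    (hc : Compat hjπ q u θ₀) {C : CommRingCat.{u}} (h : Spec C ⟶ X') {k : Spec C ⟶ P} (hk : h ≫ j = k)
    {U : X.Opens} {g : Spec C ⟶ X} (hg : k ≫ π = g) (hgU : ⊤ ≤ g ⁻¹ᵁ U) :
    ∃ θ : (Scheme.Modules.pullback k).obj O1 ⟶ Coh.structureModule (Spec C), ∀ m : Γ(E, U),
      θ.app ⊤ ((comp q k hg).app ⊤ (pl g E hgU m)) =
        ((g.appLE U ⊤ hgU (val u U m) : Γ(Spec C, ⊤)) : Γ(Coh.structureModule (Spec C), ⊤)) := by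
  subst hk hg hjπ
  refine ⟨theta h θ₀, fun m => ?_⟩
  let qk := q.app (π ⁻¹ᵁ U) (Amp73.pullS π E U m)
  let V : X'.Opens := j ⁻¹ᵁ (π ⁻¹ᵁ U)
  have hy : θ₀.app V (Amp73.pullS j O1 (π ⁻¹ᵁ U) qk) =
      (((j ≫ π).app U (val u U m) : Γ(X', V)) : Γ(Coh.structureModule X', V)) := by
    have h1 := congr($(congrArg (fun a => Scheme.Modules.Hom.app a ((j ≫ π) ⁻¹ᵁ U)) hc)
      (Amp73.pullS (j ≫ π) E U m))
    refine Eq.trans ?_ (h1.trans ?_)
    · refine congrArg (θ₀.app V) ?_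
      have h2 := pullbackComp_map_res j π q U m (le_refl ((j ≫ π) ⁻¹ᵁ U))
      rw [res_self] at h2
      exact (h2.trans (res_self _)).symm
    · exact (congrArg ((PicLoc.pullbackStructureIso (j ≫ π)).hom.app ((j ≫ π) ⁻¹ᵁ U))
        (Amp73.map_app_pullS (j ≫ π) u U m)).trans (pullbackStructureIso_pullS' (j ≫ π) U (val u U m))
  show (PicLoc.pullbackStructureIso h).hom.app ⊤ (((Scheme.Modules.pullback h).map θ₀).app ⊤
    (((Scheme.Modules.pullbackComp h j).inv.app O1).app ⊤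
      ((comp q (h ≫ j) (rfl : (h ≫ j) ≫ π = (h ≫ j) ≫ π)).app ⊤ (pl ((h ≫ j) ≫ π) E hgU m)))) = _
  refine (congrArg (fun z => (PicLoc.pullbackStructureIso h).hom.app ⊤ (((Scheme.Modules.pullback h).map θ₀).app ⊤
    (((Scheme.Modules.pullbackComp h j).inv.app O1).app ⊤ z)))
      (pullbackComp_map_res (h ≫ j) π q U m hgU)).trans ?_
  refine (congrArg (fun z => (PicLoc.pullbackStructureIso h).hom.app ⊤
    (((Scheme.Modules.pullback h).map θ₀).app ⊤ z)) ((QC70.app_res _ _ _).trans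
      (congrArg (res _ _) (Props58.PullTensor.pullS_comp h j O1 (π ⁻¹ᵁ U) qk)))).trans ?_
  refine (congrArg ((PicLoc.pullbackStructureIso h).hom.app ⊤) ((QC70.app_res _ _ _).trans
      (congrArg (res _ _) ((Amp73.map_app_pullS h θ₀ V _).trans (congrArg (Amp73.pullS h _ V) hy))))).trans ?_
  refine (QC70.app_res _ _ _).trans ?_
  refine (congrArg (res _ _) (pullbackStructureIso_pullS' h V _)).trans ?_
  rfl

variable {θ₀ : (Scheme.Modules.pullback j).obj O1 ⟶ Coh.structureModule X'}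
  {J : X.IdealSheafData} (hb : BlowUp.IsBlowUp f J)
  {U : X.Opens} (hU : IsAffineOpen U) {t : ℕ} (b : Module.Basis (Fin (t + 1)) Γ(X, U) Γ(E, U))

theorem appLE_affine {C : CommRingCat.{u}} (φ : Γ(X, U) ⟶ C) :
    (Spec.map φ ≫ hU.fromSpec).appLE U ⊤ (top_le_affStr hU φ) = φ ≫ (Scheme.ΓSpecIso C).inv :=
  Om3.EulerLift.specMap_fromSpec_appLE hU φ

include hjπ in
theorem base_eq {C : CommRingCat.{u}} {h : Spec C ⟶ X'} {φ : Γ(X, U) ⟶ C}
    (hφ : h ≫ f = Spec.map φ ≫ hU.fromSpec) : (h ≫ j) ≫ π = Spec.map φ ≫ hU.fromSpec := by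
  rw [Category.assoc, hjπ, hφ]

include hjπ in
/-- Coordinates of a point of the blow-up in a chart of the bundle. -/
theorem exists_coord_mul [E.IsQuasicoherent] (hPB : KRR.IsProjBundle π E O1 q) (hc : Compat hjπ q u θ₀)
    {C : CommRingCat.{u}} {h : Spec C ⟶ X'} {φ : Γ(X, U) ⟶ C} (hφ : h ≫ f = Spec.map φ ≫ hU.fromSpec)
    {A : P.Opens} (hA : IsAffineOpen A) {hAU : A ≤ π ⁻¹ᵁ U} {γ : Γ(O1, A)}
    (hγ : Var76.LineBundle.IsFrame O1 A γ) (a : Fin (t + 1) → Γ(P, A))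
    (ha : ∀ k, a k • γ = q.app A (res _ hAU (Amp73.pullS π E U (b k))))
    {σ : Γ(P, A) ⟶ C} (hσ : h ≫ j = Spec.map σ ≫ hA.fromSpec) :
    ∃ w : C, (∀ k, φ (val u U (b k)) = σ (a k) * w) ∧ ∃ c : Fin (t + 1) → C, ∑ k, c k * σ (a k) = 1 := by
  have hg : (Spec.map σ ≫ hA.fromSpec) ≫ π = Spec.map φ ≫ hU.fromSpec := by
    rw [← hσ]; exact base_eq hjπ hU hφ
  obtain ⟨θ, hθ⟩ := exists_theta hjπ hc h hσ hg (top_le_affStr hU φ)
  obtain ⟨c, hcc⟩ := exists_unimodular hU b hA hAU hγ a ha hPB.epi (isQuasicoherent_O1 hPB)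
  refine ⟨(Scheme.ΓSpecIso C).hom (θ.app ⊤ (pl _ O1 (specMap_fromSpec_le hA σ) γ)), fun k => ?_,
    fun k => σ (c k), by simp only [← map_mul, ← map_sum, hcc, map_one]⟩
  have h1 := hθ (b k)
  rw [comp_app_pl b hAU a ha _ hg (top_le_affStr hU φ) (specMap_fromSpec_le hA σ) k,
    Scheme.Modules.Hom.app_smul, specMap_fromSpec_appLE, appLE_affine hU φ] at h1
  have h2 := congrArg (Scheme.ΓSpecIso C).hom h1
  refine ((Iso.inv_hom_id_apply (Scheme.ΓSpecIso C) (φ _)).symm.trans h2.symm).trans ?_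
  refine Eq.trans (map_mul (Scheme.ΓSpecIso C).hom.hom _ _) ?_
  exact congrArg (· * _) (Iso.inv_hom_id_apply (Scheme.ΓSpecIso C) (σ (a k)))

/-- A neighbourhood of a point of an affine scheme which lands in a given affine open. -/
theorem exists_away {C : CommRingCat.{u}} (h : Spec C ⟶ P) {A : P.Opens} (hA : IsAffineOpen A)
    (y : Spec C) (hy : h y ∈ A) :
    ∃ (r : C) (σ : Γ(P, A) ⟶ CommRingCat.of (Localization.Away r)) (y' : Spec (CommRingCat.of (Localization.Away r))),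
      Spec.map (CommRingCat.ofHom (algebraMap C (Localization.Away r))) y' = y ∧
      Spec.map (CommRingCat.ofHom (algebraMap C (Localization.Away r))) ≫ h = Spec.map σ ≫ hA.fromSpec := by
  obtain ⟨_, ⟨r, rfl⟩, hyr, hrA⟩ :=
    PrimeSpectrum.isTopologicalBasis_basic_opens.exists_subset_of_mem_open (show y ∈ h ⁻¹ᵁ A from hy) (h ⁻¹ᵁ A).isOpen
  let l := Spec.map (CommRingCat.ofHom (algebraMap C (Localization.Away r)))
  have hr : Set.range l = (PrimeSpectrum.basicOpen r : Set (PrimeSpectrum C)) :=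
    PrimeSpectrum.localization_away_comap_range _ r
  have hle : ⊤ ≤ (l ≫ h) ⁻¹ᵁ A := fun z _ => by
    show h (l z) ∈ A
    exact hrA (hr.le ⟨z, rfl⟩)
  obtain ⟨σ, hσ⟩ := exists_specMap_of_le hA (l ≫ h) hle
  obtain ⟨y', hy'⟩ := hr.ge hyr
  exact ⟨r, σ, y', hy', hσ⟩

include hjπ in
theorem mem_range_of_good [E.IsQuasicoherent] (hPB : KRR.IsProjBundle π E O1 q) (hc : Compat hjπ q u θ₀)
    {ψ : Spec (Aff U t) ⟶ P} (hψ : IsStdChart hU b q ψ)
    {C : CommRingCat.{u}} {h : Spec C ⟶ X'} {φ : Γ(X, U) ⟶ C} (hφ : h ≫ f = Spec.map φ ≫ hU.fromSpec)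
    (hnz : φ (val u U (b 0)) ∈ nonZeroDivisors C) (hdiv : ∀ k, φ (val u U (b 0)) ∣ φ (val u U (b k))) :
    Set.range (h ≫ j) ⊆ Set.range ψ := by
  rintro _ ⟨y, rfl⟩
  have hp : π ((h ≫ j) y) ∈ U := by
    rw [← Scheme.Hom.comp_apply, base_eq hjπ hU hφ]
    exact top_le_affStr hU φ (trivial : y ∈ (⊤ : (Spec C).Opens))
  obtain ⟨A, hA, hAU, γ, hγ, a, hyA, ha⟩ := exists_coord b hPB hp
  obtain ⟨r, σ, y', hy', hσ⟩ := exists_away (h ≫ j) hA y hyA
  let loc := CommRingCat.ofHom (algebraMap C (Localization.Away r))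
  have hφ' : (Spec.map loc ≫ h) ≫ f = Spec.map (φ ≫ loc) ≫ hU.fromSpec := by
    rw [Category.assoc, hφ, Spec.map_comp, Category.assoc]
  obtain ⟨w, hw, c, hcc⟩ := exists_coord_mul hjπ hU b hPB hc hφ' hA hγ a ha ((Category.assoc _ _ _).trans hσ)
  choose d hd using hdiv
  have hnz' : loc (φ (val u U (b 0))) ∈ nonZeroDivisors (Localization.Away r) :=
    IsLocalization.map_nonZeroDivisors_le (Submonoid.powers r) _ ⟨_, hnz, rfl⟩
  have hw' : w = loc (φ (val u U (b 0))) * ∑ k, c k * loc (d k) := by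
    calc w = (∑ k, c k * σ (a k)) * w := by rw [hcc, one_mul]
      _ = _ := by
        rw [Finset.sum_mul, Finset.mul_sum]
        refine Finset.sum_congr rfl fun k _ => ?_
        rw [mul_assoc, ← hw k]
        show c k * loc (φ _) = _
        rw [hd k, map_mul]
        ring
  have hu : IsUnit (σ (a 0)) := by
    refine IsUnit.of_mul_eq_one (∑ k, c k * loc (d k)) ((mul_cancel_right_mem_nonZeroDivisors hnz').1 ?_)
    rw [one_mul, mul_assoc, mul_comm _ (loc _), ← hw']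
    exact (hw 0).symm
  obtain ⟨N, hN⟩ := exists_nChart b hA hγ a ha
  rw [range_eq hU b hPB hψ]
  refine Set.mem_iUnion.2 ⟨N, hN ▸ ?_⟩
  have h1 : (h ≫ j) y = (Spec.map σ ≫ hA.fromSpec) y' := by
    rw [← hσ, Scheme.Hom.comp_apply _ (h ≫ j), hy']
  rw [h1, Scheme.Hom.comp_apply]
  show Spec.map σ y' ∈ hA.fromSpec ⁻¹ᵁ P.basicOpen (a 0)
  rw [hA.fromSpec_preimage_basicOpen]
  exact fun hmem => (show y'.asIdeal.IsPrime from y'.2).ne_top (Ideal.eq_top_of_isUnit_mem _ hmem hu)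

include hjπ in
/-- On a chart of the blow-up, `j` is the closed immersion into the affine space. -/
theorem exists_lift [E.IsQuasicoherent] (hPB : KRR.IsProjBundle π E O1 q) (hc : Compat hjπ q u θ₀)
    {ψ : Spec (Aff U t) ⟶ P} (hψ : IsStdChart hU b q ψ)
    {C : CommRingCat.{u}} {h : Spec C ⟶ X'} {φ : Γ(X, U) ⟶ C} (hφ : h ≫ f = Spec.map φ ≫ hU.fromSpec)
    (hnz : φ (val u U (b 0)) ∈ nonZeroDivisors C) (hdiv : ∀ k, φ (val u U (b 0)) ∣ φ (val u U (b k))) :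
    ∃ τ : Aff U t ⟶ C, h ≫ j = Spec.map τ ≫ ψ ∧ strRing ≫ τ = φ ∧
      ∀ i : Fin t, φ (val u U (b 0)) * τ (MvPolynomial.X i) = φ (val u U (b i.succ)) := by
  haveI := isOpenImmersion hU b hPB hψ
  obtain ⟨τ, hτ⟩ := Spec.map_surjective (IsOpenImmersion.lift ψ (h ≫ j) (mem_range_of_good hjπ hU b hPB hc hψ hφ hnz hdiv))
  have hτ' : h ≫ j = Spec.map τ ≫ ψ := by rw [hτ, IsOpenImmersion.lift_fac]
  have hbase : strRing ≫ τ = φ := by
    have h1 := base_eq hjπ hU hφ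
    rw [hτ', Category.assoc, hψ.1, ← Category.assoc, ← Spec.map_comp, cancel_mono] at h1
    exact Spec.map_injective h1
  subst hbase
  refine ⟨τ, hτ', rfl, fun i => ?_⟩
  obtain ⟨hg, e', he'⟩ := exists_row_point hU b hψ τ
  obtain ⟨θ, hθ⟩ := exists_theta hjπ hc h hτ' hg (top_le_affStr hU _)
  let θ' := e'.inv ≫ θ
  let one : Γ(Coh.structureModule (Spec C), ⊤) := ((1 : Γ(Spec C, ⊤)) : Γ(Coh.structureModule (Spec C), ⊤))
  let w : C := (Scheme.ΓSpecIso C).hom (θ'.app ⊤ one)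
  have key : ∀ k, (strRing ≫ τ) (val u U (b k)) = τ (row k) * w := fun k => by
    have h1 : θ'.app ⊤ (((Scheme.ΓSpecIso C).inv (τ (row k)) : Γ(Spec C, ⊤)) • one) =
        (((Scheme.ΓSpecIso C).inv ((strRing ≫ τ) (val u U (b k))) : Γ(Spec C, ⊤)) : Γ(Coh.structureModule (Spec C), ⊤)) := by
      rw [show ((Scheme.ΓSpecIso C).inv (τ (row k)) : Γ(Spec C, ⊤)) • one =
        (((Scheme.ΓSpecIso C).inv (τ (row k)) : Γ(Spec C, ⊤)) : Γ(Coh.structureModule (Spec C), ⊤)) from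
          mul_one ((Scheme.ΓSpecIso C).inv (τ (row k)) : Γ(Spec C, ⊤)),
        ← he' k]
      refine Eq.trans (congrArg (θ.app ⊤) (congr($(congrArg (fun a => Scheme.Modules.Hom.app a ⊤) e'.hom_inv_id) _))) ?_
      rw [← ConcreteCategory.comp_apply (strRing ≫ τ), ← appLE_affine hU]
      exact hθ (b k)
    rw [Scheme.Modules.Hom.app_smul] at h1
    have h2 := congrArg (Scheme.ΓSpecIso C).hom h1
    refine ((Iso.inv_hom_id_apply (Scheme.ΓSpecIso C) _).symm.trans h2.symm).trans ?_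
    refine Eq.trans (map_mul (Scheme.ΓSpecIso C).hom.hom _ _) ?_
    exact congrArg (· * w) (Iso.inv_hom_id_apply (Scheme.ΓSpecIso C) (τ (row k)))
  rw [key 0, key i.succ, show τ (row 0) = 1 from map_one τ.hom, one_mul, mul_comm]
  rfl

section local_main

variable (hJ : J.ideal ⟨U, hU⟩ = Ideal.span (Set.range fun k => val u U (b k)))
  (hkr : KR (List.ofFn fun k => val u U (b k)))

/-- The blow-up over `U` as a scheme over the spectrum. -/
abbrev overSpec (f : X' ⟶ X) (hU : IsAffineOpen U) : (f ⁻¹ᵁ U).toScheme ⟶ Spec Γ(X, U) :=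
  (f ∣_ U) ≫ hU.isoSpec.hom

theorem overSpec_fromSpec : overSpec f hU ≫ hU.fromSpec = (f ⁻¹ᵁ U).ι ≫ f := by
  rw [Category.assoc, IsAffineOpen.isoSpec_hom_fromSpec, morphismRestrict_ι]

include hb in
theorem exists_chartMap {a : Γ(X, U)} (ha : a ∈ J.ideal ⟨U, hU⟩) :
    ∃ c : Spec (CommRingCat.of (BlowUp.affineAlgebra Γ(X, U) (J.ideal ⟨U, hU⟩) a)) ⟶ X',
      IsOpenImmersion c ∧
      c ≫ f = Spec.map (CommRingCat.ofHom (algebraMap Γ(X, U) _)) ≫ hU.fromSpec ∧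
      ∀ x : (f ⁻¹ᵁ U).toScheme, (x ∈ FBlow13.chartOpen (overSpec f hU) (J.ideal ⟨U, hU⟩) a ↔
        (f ⁻¹ᵁ U).ι x ∈ Set.range c) := by
  have h := BlowModel.isBlowUp_affine hb hU
  obtain ⟨e, he⟩ := FBlow13.exists_iso_chartOpen (overSpec f hU) h ha
  refine ⟨e.hom ≫ (FBlow13.chartOpen (overSpec f hU) (J.ideal ⟨U, hU⟩) a).ι ≫ (f ⁻¹ᵁ U).ι, inferInstance, ?_,
    fun x => ⟨fun hx => ⟨e.inv ⟨x, hx⟩, ?_⟩, ?_⟩⟩
  · show _ = FBlow13.chartMor _ _ a ≫ hU.fromSpec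
    rw [← he]
    simp only [Category.assoc]
    rw [← overSpec_fromSpec (f := f) hU]
    rfl
  · simp only [Scheme.Hom.comp_apply]
    rw [← Scheme.Hom.comp_apply e.inv e.hom, e.inv_hom_id]
    rfl
  · rintro ⟨y, hy⟩
    rw [Scheme.Hom.comp_apply, Scheme.Hom.comp_apply] at hy
    rw [← (f ⁻¹ᵁ U).ι.isOpenEmbedding.injective hy]
    exact (e.hom y).2

include hJ in
theorem mem_ideal (k : Fin (t + 1)) : val u U (b k) ∈ J.ideal ⟨U, hU⟩ :=
  hJ ▸ Ideal.subset_span ⟨k, rfl⟩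

include hjπ hb hJ in
/-- The preimage of the affine space is the zeroth chart. -/
theorem preimage_range [E.IsQuasicoherent] (hPB : KRR.IsProjBundle π E O1 q) (hc : Compat hjπ q u θ₀)
    {ψ : Spec (Aff U t) ⟶ P} (hψ : IsStdChart hU b q ψ)
    {c₀ : Spec (CommRingCat.of (BlowUp.affineAlgebra Γ(X, U) (J.ideal ⟨U, hU⟩) (val u U (b 0)))) ⟶ X'}
    (hc₀ : c₀ ≫ f = Spec.map (CommRingCat.ofHom (algebraMap Γ(X, U) _)) ≫ hU.fromSpec)
    (hrange : ∀ x : (f ⁻¹ᵁ U).toScheme, (x ∈ FBlow13.chartOpen (overSpec f hU) (J.ideal ⟨U, hU⟩) (val u U (b 0)) ↔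
        (f ⁻¹ᵁ U).ι x ∈ Set.range c₀)) :
    j ⁻¹' Set.range ψ = Set.range c₀ := by
  refine Set.Subset.antisymm (fun x hx => ?_) ?_
  swap
  · rintro _ ⟨y, rfl⟩
    refine mem_range_of_good hjπ hU b hPB hc hψ hc₀ (FBlow13.affineAlgebra_nzd _) (fun k => ?_) ⟨y, rfl⟩
    obtain ⟨d, hd⟩ := FBlow13.affineAlgebra_div (a := val u U (b 0)) (mem_ideal hU b hJ k)
    exact ⟨d, hd.trans (mul_comm _ _)⟩
  obtain ⟨N, hN⟩ : ∃ N : NChart π E q b, j x ∈ N.A := by
    have := hx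
    rw [Set.mem_preimage, range_eq hU b hPB hψ] at this
    exact Set.mem_iUnion.1 this
  have hfx : x ∈ f ⁻¹ᵁ U := by
    rw [← hjπ]
    exact N.hAU hN
  obtain ⟨_, ⟨i, rfl⟩, hi⟩ := FBlow13.exists_mem_chartOpen_of_span (overSpec f hU)
    (BlowModel.isBlowUp_affine hb hU).1 hJ.symm ⟨x, hfx⟩
  obtain ⟨ci, -, hci, hci'⟩ := exists_chartMap hb hU (mem_ideal hU b hJ i)
  obtain ⟨z, hz⟩ := (hci' _).1 hi
  replace hz : ci z = x := hz
  obtain ⟨r, σ, z', hz', hσ⟩ := exists_away (ci ≫ j) N.hA z (by rw [Scheme.Hom.comp_apply, hz]; exact hN)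
  let loc := CommRingCat.ofHom (algebraMap (BlowUp.affineAlgebra Γ(X, U) (J.ideal ⟨U, hU⟩) (val u U (b i))) (Localization.Away r))
  let φ := CommRingCat.ofHom (algebraMap Γ(X, U) (BlowUp.affineAlgebra Γ(X, U) (J.ideal ⟨U, hU⟩) (val u U (b i)))) ≫ loc
  have hφ : (Spec.map loc ≫ ci) ≫ f = Spec.map φ ≫ hU.fromSpec := by
    rw [Category.assoc, hci, Spec.map_comp, Category.assoc]
  obtain ⟨w, hw, -⟩ := exists_coord_mul hjπ hU b hPB hc hφ N.hA N.hγ N.a N.ha
    ((Category.assoc _ _ _).trans hσ)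
  have hw0 : w = φ (val u U (b 0)) := by
    rw [hw 0, N.ha0, map_one, one_mul]
  have hnzi : φ (val u U (b i)) ∈ nonZeroDivisors (Localization.Away r) :=
    IsLocalization.map_nonZeroDivisors_le (Submonoid.powers r) _ ⟨_, FBlow13.affineAlgebra_nzd _, rfl⟩
  have hnz0 : φ (val u U (b 0)) ∈ nonZeroDivisors (Localization.Away r) := by
    have h1 := hnzi
    rw [hw i, hw0] at h1
    exact (mul_mem_nonZeroDivisors.1 h1).2
  have hdiv : ∀ m ∈ J.ideal ⟨U, hU⟩, φ (val u U (b 0)) ∣ φ m := by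
    intro m hm
    rw [hJ, Ideal.mem_span_range_iff_exists_fun] at hm
    obtain ⟨d, rfl⟩ := hm
    rw [map_sum]
    refine Finset.dvd_sum fun k _ => ?_
    rw [map_mul, hw k, hw0]
    exact dvd_mul_of_dvd_right (dvd_mul_left _ _) _
  have hle : Set.range (Spec.map loc ≫ ci) ⊆ Set.range (f ⁻¹ᵁ U).ι := by
    rintro _ ⟨p, rfl⟩
    rw [Scheme.Opens.range_ι]
    show ((Spec.map loc ≫ ci) ≫ f) p ∈ U
    rw [hφ]
    exact top_le_affStr hU φ (trivial : p ∈ (⊤ : (Spec _).Opens))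
  let k := IsOpenImmersion.lift (f ⁻¹ᵁ U).ι (Spec.map loc ≫ ci) hle
  have hkπ : k ≫ overSpec f hU = Spec.map φ := by
    rw [← cancel_mono hU.fromSpec, Category.assoc, overSpec_fromSpec, IsOpenImmersion.lift_fac_assoc, hφ]
  have hpred : FBlow13.ChartPred Γ(X, U) (J.ideal ⟨U, hU⟩) (val u U (b 0)) _ (k ≫ overSpec f hU) :=
    hkπ.symm ▸ chartPred_specMap φ.hom hnz0 hdiv
  have hmem := FBlow13.range_subset_chartOpen (overSpec f hU) (BlowModel.isBlowUp_affine hb hU).1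
    (mem_ideal hU b hJ 0) k hpred z'
  have hkz : (f ⁻¹ᵁ U).ι (k z') = x := by
    rw [← Scheme.Hom.comp_apply, IsOpenImmersion.lift_fac, Scheme.Hom.comp_apply, hz', hz]
  have := (hrange _).1 hmem
  rwa [hkz] at this

include hjπ hb hJ hkr in
/-- Over the affine space, `j` is a Koszul regular closed immersion. -/
theorem exists_regular_chart [E.IsQuasicoherent] (hPB : KRR.IsProjBundle π E O1 q) (hc : Compat hjπ q u θ₀) :
    ∃ D : P.affineOpens, (∀ N : NChart π E q b, N.A ≤ D.1) ∧ IsClosedImmersion (j ∣_ D.1) ∧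
      (∀ x : (f ⁻¹ᵁ U).toScheme, x ∈ FBlow13.chartOpen (overSpec f hU) (J.ideal ⟨U, hU⟩) (val u U (b 0)) →
        j ((f ⁻¹ᵁ U).ι x) ∈ D.1) ∧
      ∃ rs : List Γ(P, D.1), rs.length = t ∧ LCI.IsKoszulRegularSeq Γ(P, D.1) rs ∧
        RingHom.ker (j.app D.1).hom = Ideal.ofList rs := by
  obtain ⟨ψ, hψ⟩ := exists_isStdChart (t := t) hU b hPB
  haveI := isOpenImmersion hU b hPB hψ
  obtain ⟨c, hcimm, hcf, hcr⟩ := exists_chartMap hb hU (mem_ideal hU b hJ 0)
  haveI := hcimm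
  have hdiv : ∀ k, CommRingCat.ofHom (algebraMap Γ(X, U) (BlowUp.affineAlgebra Γ(X, U) (J.ideal ⟨U, hU⟩) (val u U (b 0))))
      (val u U (b 0)) ∣ CommRingCat.ofHom (algebraMap Γ(X, U) _) (val u U (b k)) := fun k => by
    obtain ⟨d, hd⟩ := FBlow13.affineAlgebra_div (a := val u U (b 0)) (mem_ideal hU b hJ k)
    exact ⟨d, hd.trans (mul_comm _ _)⟩
  obtain ⟨τ, hτ, hτC, hτX⟩ := exists_lift hjπ hU b hPB hc hψ hcf (FBlow13.affineAlgebra_nzd _) hdiv
  have hpre := preimage_range hjπ hb hU b hJ hPB hc hψ hcf hcr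
  let D : P.affineOpens := ⟨ψ ''ᵁ ⊤, (isAffineOpen_top _).image_of_isOpenImmersion ψ⟩
  have hD : (D.1 : Set P) = Set.range ψ := Set.image_univ
  let μ : MvPolynomial (Fin t) Γ(X, U) →ₐ[Γ(X, U)] BlowUp.affineAlgebra Γ(X, U) (J.ideal ⟨U, hU⟩) (val u U (b 0)) :=
    { τ.hom with commutes' := fun r => congr($hτC r) }
  have hsurj : Function.Surjective τ :=
    KoszulBlow.surjective (fun k => val u U (b k)) hJ.symm μ hτX
  have hker : RingHom.ker τ.hom = Ideal.ofList (KoszulBlow.rels fun k => val u U (b k)) :=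
    KoszulBlow.ker_eq (fun k => val u U (b k)) μ hτX hkr
  have hcD : Set.range c = ((j ⁻¹ᵁ D.1 : X'.Opens) : Set X') := by
    rw [← hpre, ← hD]
    rfl
  refine ⟨D, fun N x hx => ?_, ?_, fun x hx => ?_, ?_⟩
  · show x ∈ (D.1 : Set P)
    rw [hD, range_eq hU b hPB hψ]
    exact Set.mem_iUnion.2 ⟨N, hx⟩
  · let c' := IsOpenImmersion.lift (j ⁻¹ᵁ D.1).ι c (by rw [Scheme.Opens.range_ι, hcD])
    let ψ' := IsOpenImmersion.lift D.1.ι ψ (by rw [Scheme.Opens.range_ι, hD])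
    have hc' : c' ≫ (j ⁻¹ᵁ D.1).ι = c := IsOpenImmersion.lift_fac _ _ _
    have hψ' : ψ' ≫ D.1.ι = ψ := IsOpenImmersion.lift_fac _ _ _
    haveI : IsIso c' := by
      haveI : IsOpenImmersion c' := by
        haveI : IsOpenImmersion (c' ≫ (j ⁻¹ᵁ D.1).ι) := hc' ▸ hcimm
        exact IsOpenImmersion.of_comp c' (j ⁻¹ᵁ D.1).ι
      haveI : Epi c'.base := (TopCat.epi_iff_surjective _).2 fun y => by
        obtain ⟨z, hz⟩ := hcD.ge y.2
        refine ⟨z, (j ⁻¹ᵁ D.1).ι.isOpenEmbedding.injective ?_⟩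
        rw [← Scheme.Hom.comp_apply, hc']
        exact hz
      exact IsOpenImmersion.isIso _
    have heq : c' ≫ j ∣_ D.1 = Spec.map τ ≫ ψ' := by
      rw [← cancel_mono D.1.ι, Category.assoc, morphismRestrict_ι, ← Category.assoc, hc', hτ, Category.assoc, hψ']
    haveI : IsOpenImmersion ψ' := by
      haveI : IsOpenImmersion (ψ' ≫ D.1.ι) := hψ' ▸ (inferInstance : IsOpenImmersion ψ)
      exact IsOpenImmersion.of_comp ψ' D.1.ι
    haveI : IsIso ψ' := by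
      haveI : Epi ψ'.base := (TopCat.epi_iff_surjective _).2 fun y => by
        obtain ⟨z, hz⟩ := hD.le y.2
        refine ⟨z, D.1.ι.isOpenEmbedding.injective ?_⟩
        rw [← Scheme.Hom.comp_apply, hψ']
        exact hz
      exact IsOpenImmersion.isIso _
    haveI := IsClosedImmersion.spec_of_surjective τ hsurj
    have h1 : IsClosedImmersion (c' ≫ j ∣_ D.1) := by rw [heq]; infer_instance
    exact (MorphismProperty.cancel_left_of_respectsIso (P := @IsClosedImmersion) c' _).1 h1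
  · show j ((f ⁻¹ᵁ U).ι x) ∈ (D.1 : Set P)
    rw [hD]
    exact hpre.ge ((hcr x).1 hx)
  let R := BlowUp.affineAlgebra Γ(X, U) (J.ideal ⟨U, hU⟩) (val u U (b 0))
  have eψ : (⊤ : (Spec (Aff U t)).Opens) ≤ ψ ⁻¹ᵁ D.1 := fun y _ => Set.mem_image_of_mem _ trivial
  haveI : IsIso (ψ.appLE D.1 ⊤ eψ) := by
    have : ψ.appLE D.1 ⊤ eψ = (ψ.appIso ⊤).hom := by rw [Scheme.Hom.appIso_hom']
    rw [this]
    infer_instance
  let ε : Aff U t ≅ Γ(P, D.1) := (Scheme.ΓSpecIso _).symm ≪≫ (asIso (ψ.appLE D.1 ⊤ eψ)).symm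
  refine ⟨(KoszulBlow.rels fun k => val u U (b k)).map ε.commRingCatIsoToRingEquiv,
    by simp [KoszulBlow.rels], (kR_iff _).1 (kR_ringEquiv _ (KoszulBlow.kR_rels _ hkr)), ?_⟩
  have ec : (⊤ : (Spec (CommRingCat.of R)).Opens) ≤ c ⁻¹ᵁ (j ⁻¹ᵁ D.1) := fun y _ => hcD.le ⟨y, rfl⟩
  haveI : IsIso (c.appLE (j ⁻¹ᵁ D.1) ⊤ ec) := by
    haveI : IsIso (c.app (j ⁻¹ᵁ D.1)) :=
      c.isIso_app _ (fun y hy => hcD.ge hy)
    haveI : IsIso (homOfLE ec) := by
      have : (⊤ : (Spec (CommRingCat.of R)).Opens) = c ⁻¹ᵁ (j ⁻¹ᵁ D.1) := le_antisymm ec le_top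
      exact ⟨homOfLE this.ge, rfl, rfl⟩
    rw [Scheme.Hom.appLE]
    infer_instance
  have hsq : ∀ z : Aff U t, c.appLE (j ⁻¹ᵁ D.1) ⊤ ec (j.app D.1 (ε.hom z)) =
      (Scheme.ΓSpecIso (CommRingCat.of R)).inv (τ z) := by
    intro z
    have h1 : j.app D.1 ≫ c.appLE (j ⁻¹ᵁ D.1) ⊤ ec = ψ.appLE D.1 ⊤ eψ ≫ (Spec.map τ).appTop := by
      rw [show (Spec.map τ).appTop = (Spec.map τ).appLE ⊤ ⊤ le_top from Scheme.Hom.app_eq_appLE _,
        Scheme.Hom.app_eq_appLE, Scheme.Hom.appLE_comp_appLE, Scheme.Hom.appLE_comp_appLE]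
      have key : ∀ (k : Spec (CommRingCat.of R) ⟶ P) (hk : c ≫ j = k) (e₁ e₂),
          (c ≫ j).appLE D.1 ⊤ e₁ = k.appLE D.1 ⊤ e₂ := by
        rintro _ rfl _ _; rfl
      exact key _ hτ _ _
    refine (congr($h1 (ε.hom z))).trans ?_
    show (Spec.map τ).appTop (ψ.appLE D.1 ⊤ eψ ((inv (ψ.appLE D.1 ⊤ eψ)) ((Scheme.ΓSpecIso _).inv z))) = _
    rw [← ConcreteCategory.comp_apply (inv _), IsIso.inv_hom_id, CategoryTheory.id_apply]
    exact congr($((Scheme.ΓSpecIso_inv_naturality τ).symm) z)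
  let E' := ε.commRingCatIsoToRingEquiv
  refine Eq.trans ?_ (Ideal.map_ofList E'.toRingHom _)
  rw [← hker]
  ext y
  obtain ⟨z, rfl⟩ := E'.surjective y
  rw [RingHom.mem_ker]
  refine Iff.trans ?_ (Ideal.mem_map_iff_of_surjective E'.toRingHom E'.surjective).symm
  constructor
  · intro hy
    refine ⟨z, ?_, rfl⟩
    have := (hsq z).symm.trans ((congrArg _ (show j.app D.1 (ε.hom z) = 0 from hy)).trans (map_zero _))
    exact (ConcreteCategory.bijective_of_isIso (Scheme.ΓSpecIso (CommRingCat.of R)).inv).1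
      (this.trans (map_zero _).symm)
  · rintro ⟨z', hz', hzz⟩
    obtain rfl : z' = z := E'.injective hzz
    refine (ConcreteCategory.bijective_of_isIso (c.appLE (j ⁻¹ᵁ D.1) ⊤ ec)).1 ?_
    exact ((hsq z').trans ((congrArg _ (show τ z' = 0 from hz')).trans (map_zero _))).trans (map_zero _).symm

end local_main

/-- The blow-up in a Koszul regular centre embeds Koszul regularly in the projective bundle. -/
theorem result_main
    (hE : FlatMod.IsFinLocFree E)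
    (hu : ∀ x : X, ∃ U : X.affineOpens, x ∈ U.1 ∧
      ∃ (n : ℕ) (b : Module.Basis (Fin n) Γ(X, U.1) (E.val.obj (op U.1))),
        LCI.IsKoszulRegularSeq Γ(X, U.1) (List.ofFn fun k => ((u.val.app (op U.1)).hom (b k) : Γ(X, U.1))))
    (hJ : ∀ U : X.affineOpens, J.ideal U = @Ideal.span Γ(X, U.1) _ (Set.range fun s : E.val.obj (op U.1) => ((u.val.app (op U.1)).hom s : Γ(X, U.1))))
    (hPB : KRR.IsProjBundle π E O1 q) (hc : Compat hjπ q u θ₀) (hb : BlowUp.IsBlowUp f J) :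
    (IsClosedImmersion j ∧ ∀ x' : X', RegImm.IsRegularImmersionAt .koszul j x') ∧
      ∀ c : ℕ, FlatMod.IsFinLocFreeOfRank c E → ∀ x' : X', ∃ V : P.affineOpens, j x' ∈ V.1 ∧
        IsClosedImmersion (j ∣_ V.1) ∧ ∃ rs : List Γ(P, V.1), rs.length = c - 1 ∧
          LCI.IsKoszulRegularSeq Γ(P, V.1) rs ∧ RingHom.ker (j.app V.1).hom = Ideal.ofList rs := by
  haveI : E.IsQuasicoherent := Props58.LocFree.isQuasicoherent_of_isFinLocFree hE
  have hspan : ∀ (U : X.affineOpens) (n : ℕ) (b : Module.Basis (Fin n) Γ(X, U.1) Γ(E, U.1)),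
      J.ideal U = Ideal.span (Set.range fun k => val u U.1 (b k)) := by
    intro U n b
    refine (hJ U).trans (le_antisymm (Ideal.span_le.2 ?_) (Ideal.span_mono ?_))
    · rintro _ ⟨s, rfl⟩
      show val u U.1 s ∈ _
      rw [← b.sum_repr s]
      show OmegaSh.fnSect X U.1 (u.app U.1 _) ∈ _
      rw [map_sum, map_sum]
      refine Ideal.sum_mem _ fun k _ => ?_
      rw [Scheme.Modules.Hom.app_smul]
      exact Ideal.mul_mem_left _ _ (Ideal.subset_span ⟨k, rfl⟩)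
    · rintro _ ⟨k, rfl⟩
      exact ⟨b k, rfl⟩
  have hkrP : ∀ (U : X.affineOpens) (n : ℕ) (b : Module.Basis (Fin n) Γ(X, U.1) Γ(E, U.1)),
      KR (List.ofFn fun k => val u U.1 (b k)) → ∀ σ : Equiv.Perm (Fin n),
        KR (List.ofFn fun k => val u U.1 (b (σ k))) := fun U n b h σ =>
    h.perm (List.Perm.symm (σ.ofFn_comp_perm fun k => val u U.1 (b k)))
  have hu' : ∀ x : X, ∃ U : X.affineOpens, x ∈ U.1 ∧
      ∃ (n : ℕ) (b : Module.Basis (Fin n) Γ(X, U.1) Γ(E, U.1)),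
        LCI.IsKoszulRegularSeq Γ(X, U.1) (List.ofFn fun k => val u U.1 (b k)) := hu
  refine ⟨⟨?_, fun x' => ?_⟩, fun c hEc x' => ?_⟩
  · have hcov : ∀ p : P, ∃ D : P.affineOpens, p ∈ D.1 ∧ IsClosedImmersion (j ∣_ D.1) := by
      intro p
      obtain ⟨U, hpU, n, b, hkr⟩ := hu' (π p)
      rcases n with _ | t
      · exfalso
        obtain ⟨A₀, hpA, γ₀, hγ₀⟩ := Var76.LineBundle.exists_frame hPB.invertible p
        obtain ⟨A, hA, hpA', hAle⟩ := exists_isAffineOpen_mem_and_subset (show p ∈ A₀ ⊓ π ⁻¹ᵁ U.1 from ⟨hpA, hpU⟩)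
        obtain ⟨c, hc⟩ := exists_unimodular U.2 b hA (fun x hx => (hAle hx).2)
          (hγ₀.res (fun x hx => (hAle hx).1)) (fun k => k.elim0) (fun k => k.elim0) hPB.epi (isQuasicoherent_O1 hPB)
        simp only [Finset.univ_eq_empty, Finset.sum_empty] at hc
        have : p ∈ P.basicOpen (1 : Γ(P, A)) := by rw [Scheme.basicOpen_of_isUnit _ isUnit_one]; exact hpA'
        rw [← hc, Scheme.basicOpen_zero] at this
        exact this
      obtain ⟨A, hA, hAU, γ, hγ, a, hpA, ha⟩ := exists_coord b hPB hpU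
      obtain ⟨cc, hcc⟩ := exists_unimodular U.2 b hA hAU hγ a ha hPB.epi (isQuasicoherent_O1 hPB)
      obtain ⟨k, hk⟩ : ∃ k, p ∈ P.basicOpen (a k) := by
        by_contra hne
        push Not at hne
        have h1 : IsUnit (P.presheaf.germ A p hpA (∑ k, cc k * a k)) := by rw [hcc, map_one]; exact isUnit_one
        rw [map_sum] at h1
        refine (Finset.sum_induction _ (· ∈ nonunits (P.presheaf.stalk p))
          (fun _ _ => IsLocalRing.nonunits_add) (zero_mem_nonunits.2 zero_ne_one) fun k _ => ?_) h1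
        rw [map_mul]
        exact mul_mem_nonunits_right fun hu' => hne k ((P.mem_basicOpen _ _ hpA).2 hu')
      let σ : Equiv.Perm (Fin (t + 1)) := Equiv.swap 0 k
      let b' := b.reindex σ.symm
      have hb' : ∀ m, b' m = b (σ m) := fun m => by simp [b']
      obtain ⟨N, hN⟩ := exists_nChart (π := π) (q := q) (hAU := hAU) b' hA hγ (a ∘ σ) (fun m => (ha (σ m)).trans (by rw [hb']))
      have hkr' : KR (List.ofFn fun m => val u U.1 (b' m)) := by
        simp only [hb']; exact hkrP U _ b ((kR_iff _).2 hkr) σ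
      obtain ⟨D, hND, hcl, -, -⟩ := exists_regular_chart hjπ hb U.2 b' (hspan U _ b') hkr' hPB hc
      refine ⟨D, hND N ?_, hcl⟩
      rw [hN]
      simpa [σ] using hk
    choose D hD hcl using hcov
    refine (IsZariskiLocalAtTarget.iff_of_iSup_eq_top (P := @IsClosedImmersion) (fun p => (D p).1) ?_).2 hcl
    exact top_le_iff.1 fun p _ => Opens.mem_iSup.2 ⟨p, hD p⟩
  all_goals
    obtain ⟨U, hxU, n, b, hkr⟩ := hu' (f x')
    obtain ⟨_, ⟨i, rfl⟩, hi⟩ := FBlow13.exists_mem_chartOpen_of_span (overSpec f U.2)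
      (BlowModel.isBlowUp_affine hb U.2).1 (hspan U n b).symm ⟨x', hxU⟩
    obtain ⟨t, rfl⟩ : ∃ t, n = t + 1 := ⟨n - 1, by have := i.2; omega⟩
    let σ : Equiv.Perm (Fin (t + 1)) := Equiv.swap 0 i
    let b' := b.reindex σ.symm
    have hb' : ∀ m, b' m = b (σ m) := fun m => by simp [b']
    have hkr' : KR (List.ofFn fun m => val u U.1 (b' m)) := by
      simp only [hb']; exact hkrP U _ b ((kR_iff _).2 hkr) σ
    obtain ⟨D, -, hcl, hmem, rs, hlen, hrs, hker⟩ := exists_regular_chart hjπ hb U.2 b' (hspan U _ b') hkr' hPB hc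
    have hxD : j x' ∈ D.1 := hmem ⟨x', hxU⟩ (by simpa [hb', σ] using hi)
  · exact ⟨D, hxD, hcl, rs, hrs, hker⟩
  · refine ⟨D, hxD, hcl, rs, ?_, hrs, hker⟩
    obtain ⟨V, hxV, ⟨φ⟩⟩ := hEc (f x')
    obtain ⟨s, hs⟩ := Props58.LocFree.exists_stalkBasis_of_iso φ
    have h1 := Props58.LocFree.StalkBasis.fiberRank_eq (Props58.LocFree.stalkBasis_of_basis U.2 b) (f x') hxU
    have h2 := hs.fiberRank_eq (f x') hxV
    omega

end Groth.Agent.RegImm10.BundleBlow
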