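import Groth.Agent.FBlow13.Chart
import Groth.Agent.Div89.RelFlat
import Mathlib.RingTheory.Flat.EquationalCriterion

/-! The affine blow-up algebras of an ideal all of whose powers have flat quotients are flat. -/

set_option autoImplicit false
set_option linter.style.haveILetI false

noncomputable section

universe u

namespace Groth.Agent.RegImm10.BlowFlat

/-- A module is flat if every relation comes from a relation in a flat module. -/
theorem flat_of_lift_relations {R M : Type u} [CommRing R] [AddCommGroup M] [Module R M]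
    (h : ∀ {l : ℕ} {r : Fin l → R} {m : Fin l → M}, ∑ i, r i • m i = 0 →
      ∃ (F : Type u) (_ : AddCommGroup F) (_ : Module R F) (_ : Module.Flat R F) (φ : F →ₗ[R] M)
        (m' : Fin l → F), (∀ i, φ (m' i) = m i) ∧ ∑ i, r i • m' i = 0) : Module.Flat R M := by
  refine Module.Flat.of_forall_isTrivialRelation fun {l r m} hm => ?_
  obtain ⟨F, _, _, hF, φ, m', hφ, hm'⟩ := h hm
  haveI := hF
  obtain ⟨k, a, y, hy, ha⟩ := Module.Flat.isTrivialRelation_of_sum_smul_eq_zero hm'
  exact ⟨k, a, fun j => φ (y j), fun i => by simp only [← hφ i, hy i, map_sum, map_smul], ha⟩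

variable {R A : Type u} [CommRing R] [CommRing A] [Algebra R A] {I : Ideal A}

theorem flat_quot_one [Module.Flat R A] : ∀ {m : ℕ} (_ : ∀ n, 1 ≤ n → Module.Flat R (A ⧸ I ^ n)),
    Module.Flat R (A ⧸ I ^ m) := by
  intro m h
  rcases Nat.eq_zero_or_pos m with rfl | hm
  · haveI : Subsingleton (A ⧸ I ^ 0) := by
      rw [pow_zero, Ideal.one_eq_top]; infer_instance
    infer_instance
  · exact h m hm

theorem flat_pow [Module.Flat R A] (h : ∀ n, 1 ≤ n → Module.Flat R (A ⧸ I ^ n)) (m : ℕ) :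
    Module.Flat R ↥(I ^ m) := by
  haveI := flat_quot_one (m := m) h
  exact Div89.flat_left ((I ^ m).subtype.restrictScalars R) (Ideal.Quotient.mkₐ R (I ^ m)).toLinearMap
    Subtype.val_injective (Ideal.Quotient.mkₐ_surjective R _) fun x => by
      show Ideal.Quotient.mk (I ^ m) x = 0 ↔ _
      rw [Ideal.Quotient.eq_zero_iff_mem]
      exact ⟨fun hx => ⟨⟨x, hx⟩, rfl⟩, fun ⟨y, hy⟩ => hy ▸ y.2⟩

/-- The graded piece `I ^ m / I ^ (m + 1)`. -/
abbrev Gr (R : Type u) [CommRing R] [Algebra R A] (I : Ideal A) (m : ℕ) : Type u :=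
  ↥(I ^ m) ⧸ (Submodule.comap (I ^ m).subtype (I ^ (m + 1))).restrictScalars R

theorem flat_gr [Module.Flat R A] (h : ∀ n, 1 ≤ n → Module.Flat R (A ⧸ I ^ n)) (m : ℕ) :
    Module.Flat R (Gr R I m) := by
  haveI := flat_quot_one (m := m) h
  haveI := h (m + 1) (Nat.le_add_left 1 m)
  let j : ↥(I ^ m) →ₗ[R] A ⧸ I ^ (m + 1) :=
    (Ideal.Quotient.mkₐ R (I ^ (m + 1))).toLinearMap ∘ₗ (I ^ m).subtype.restrictScalars R
  have hker : LinearMap.ker j =
      (Submodule.comap (I ^ m).subtype (I ^ (m + 1))).restrictScalars R := by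
    ext x
    show Ideal.Quotient.mk (I ^ (m + 1)) (x : A) = 0 ↔ _
    rw [Ideal.Quotient.eq_zero_iff_mem]
    rfl
  refine Div89.flat_left (Submodule.liftQ _ j hker.ge)
    (Ideal.Quotient.factorₐ R (Ideal.pow_le_pow_right (Nat.le_succ m))).toLinearMap ?_
    (Ideal.Quotient.factor_surjective (Ideal.pow_le_pow_right (Nat.le_succ m))) fun x => ?_
  · rw [← LinearMap.ker_eq_bot, Submodule.ker_liftQ, hker, ← le_bot_iff, Submodule.map_le_iff_le_comap]
    intro x hx
    rw [Submodule.mem_comap, Submodule.mkQ_apply, Submodule.mem_bot, Submodule.Quotient.mk_eq_zero]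
    exact hx
  · obtain ⟨x, rfl⟩ := Ideal.Quotient.mk_surjective x
    show Ideal.Quotient.mk (I ^ m) x = 0 ↔ _
    rw [Ideal.Quotient.eq_zero_iff_mem]
    constructor
    · exact fun hx => ⟨Submodule.Quotient.mk ⟨x, hx⟩, rfl⟩
    · rintro ⟨y, hy⟩
      obtain ⟨⟨z, hz⟩, rfl⟩ := Submodule.Quotient.mk_surjective _ y
      have h1 : z - x ∈ I ^ (m + 1) := Ideal.Quotient.eq.mp hy
      have := sub_mem hz (Ideal.pow_le_pow_right (Nat.le_succ m) h1)
      rwa [sub_sub_cancel] at this

variable (a : A)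

local notation "La" => Localization.Away a

/-- The image of `y ∈ A` over `a ^ n`. -/
abbrev frac (n : ℕ) (y : A) : La := IsLocalization.mk' La y (Submonoid.pow a n)

theorem frac_shift (n m : ℕ) (y : A) : frac a (n + m) (a ^ m * y) = frac a n y := by
  refine IsLocalization.mk'_eq_iff_eq.mpr ?_
  congr 1
  show a ^ n * (a ^ m * y) = a ^ (n + m) * y
  rw [pow_add, mul_assoc]

theorem frac_mul (n m : ℕ) (x y : A) : frac a n x * frac a m y = frac a (n + m) (x * y) := by
  refine (IsLocalization.mk'_mul La x y _ _).symm.trans ?_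
  exact congrArg (IsLocalization.mk' La (x * y)) (Subtype.ext (pow_add a n m).symm)

theorem frac_add (n : ℕ) (x y : A) : frac a n x + frac a n y = frac a n (x + y) := by
  simp only [frac, IsLocalization.mk'_eq_mul_mk'_one (S := La) x,
    IsLocalization.mk'_eq_mul_mk'_one (S := La) y,
    IsLocalization.mk'_eq_mul_mk'_one (S := La) (x + y), map_add, add_mul]

theorem frac_zero (y : A) : frac a 0 y = algebraMap A La y := by
  show IsLocalization.mk' La y (Submonoid.pow a 0) = _
  rw [show Submonoid.pow a 0 = 1 from Subtype.ext (pow_zero a), IsLocalization.mk'_one]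

theorem frac_one (x : A) :
    IsLocalization.mk' La x (⟨a, Submonoid.mem_powers a⟩ : Submonoid.powers a) = frac a 1 x :=
  congrArg (IsLocalization.mk' La x) (Subtype.ext (pow_one a).symm)

variable {a}

theorem frac_mem (ha : a ∈ I) : ∀ (n : ℕ) (y : A), y ∈ I ^ n → frac a n y ∈ BlowUp.affineAlgebra A I a := by
  intro n
  induction n with
  | zero =>
    intro y _
    rw [frac_zero]
    exact Subalgebra.algebraMap_mem _ y
  | succ n ih =>
    intro y hy
    rw [pow_succ] at hy
    refine Submodule.mul_induction_on hy (fun p hp q hq => ?_) (fun p q hp hq => ?_)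
    · rw [← frac_mul]
      exact mul_mem (ih p hp) (Algebra.subset_adjoin ⟨q, hq, (frac_one a q).symm⟩)
    · rw [← frac_add]; exact add_mem hp hq

theorem exists_frac (ha : a ∈ I) (c : BlowUp.affineAlgebra A I a) :
    ∃ (n : ℕ) (y : A), y ∈ I ^ n ∧ (c : La) = frac a n y := by
  obtain ⟨c, hc⟩ := c
  refine Algebra.adjoin_induction (p := fun c _ => ∃ (n : ℕ) (y : A), y ∈ I ^ n ∧ c = frac a n y)
    ?_ ?_ ?_ ?_ hc
  · rintro _ ⟨x, hx, rfl⟩
    exact ⟨1, x, by rwa [pow_one], frac_one a x⟩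
  · intro r
    refine ⟨0, r, by rw [pow_zero, Ideal.one_eq_top]; exact Submodule.mem_top, ?_⟩
    rw [frac_zero]
  · rintro _ _ _ _ ⟨n, y, hy, rfl⟩ ⟨m, z, hz, rfl⟩
    refine ⟨n + m, a ^ m * y + a ^ n * z, add_mem ?_ ?_, ?_⟩
    · rw [mul_comm, pow_add]; exact Ideal.mul_mem_mul hy (Ideal.pow_mem_pow ha m)
    · rw [pow_add]; exact Ideal.mul_mem_mul (Ideal.pow_mem_pow ha n) hz
    · rw [← frac_add, frac_shift, show frac a (n + m) (a ^ n * z) = frac a m z by
        rw [add_comm n m]; exact frac_shift a m n z]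
  · rintro _ _ _ _ ⟨n, y, hy, rfl⟩ ⟨m, z, hz, rfl⟩
    exact ⟨n + m, y * z, by rw [pow_add]; exact Ideal.mul_mem_mul hy hz, frac_mul a n m y z⟩

theorem exists_common (ha : a ∈ I) {l : ℕ} (c : Fin l → BlowUp.affineAlgebra A I a) :
    ∃ (n : ℕ) (y : Fin l → A), (∀ i, y i ∈ I ^ n) ∧ ∀ i, (c i : La) = frac a n (y i) := by
  choose n y hy hc using fun i => exists_frac ha (c i)
  refine ⟨∑ i, n i, fun i => a ^ ((∑ j, n j) - n i) * y i, fun i => ?_, fun i => ?_⟩
  · have hle : n i ≤ ∑ j, n j := Finset.single_le_sum (fun j _ => Nat.zero_le _) (Finset.mem_univ i)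
    have := Ideal.mul_mem_mul (Ideal.pow_mem_pow ha ((∑ j, n j) - n i)) (hy i)
    rwa [← pow_add, Nat.sub_add_cancel hle] at this
  · have hle : n i ≤ ∑ j, n j := Finset.single_le_sum (fun j _ => Nat.zero_le _) (Finset.mem_univ i)
    rw [hc i]
    conv_rhs => rw [← Nat.add_sub_cancel' hle]
    simp only [Nat.add_sub_cancel_left]
    exact (frac_shift a _ _ _).symm

theorem frac_smul (n : ℕ) (r : R) (y : A) : r • frac a n y = frac a n (r • y) :=
  by rw [Algebra.smul_def, Algebra.smul_def, IsScalarTower.algebraMap_apply R A La,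
    IsLocalization.mul_mk'_eq_mk'_of_mul]

theorem frac_sum {l : ℕ} (n : ℕ) (y : Fin l → A) : ∑ i, frac a n (y i) = frac a n (∑ i, y i) := by
  let F : A →+ La := AddMonoidHom.mk' (frac a n) fun x z => (frac_add a n x z).symm
  exact (map_sum F y Finset.univ).symm

/-- The map `I ^ n → A[I / a]`, `y ↦ y / a ^ n`. -/
def phi (R : Type u) [CommRing R] [Algebra R A] (ha : a ∈ I) (n : ℕ) :
    ↥(I ^ n) →ₗ[R] BlowUp.affineAlgebra A I a where
  toFun y := ⟨frac a n y, frac_mem ha n y y.2⟩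
  map_add' x y := Subtype.ext (frac_add a n (x : A) y).symm
  map_smul' r y := Subtype.ext (frac_smul n r (y : A)).symm

theorem flat_affineAlgebra [Module.Flat R A] (h : ∀ n, 1 ≤ n → Module.Flat R (A ⧸ I ^ n)) (ha : a ∈ I) :
    Module.Flat R (BlowUp.affineAlgebra A I a) := by
  refine flat_of_lift_relations fun {l r c} hc => ?_
  obtain ⟨n, y, hy, hcy⟩ := exists_common ha c
  have h1 : frac a n (∑ i, r i • y i) = 0 := by
    rw [← frac_sum, ← show ((∑ i, r i • c i : BlowUp.affineAlgebra A I a) : La) = ∑ i, frac a n (r i • y i) by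
      rw [AddSubmonoidClass.coe_finsetSum]
      exact Finset.sum_congr rfl fun i _ => by rw [← frac_smul, ← hcy]; rfl, hc]
    rfl
  obtain ⟨⟨_, m, rfl⟩, hm⟩ :=
    (IsLocalization.mk'_eq_zero_iff (M := Submonoid.powers a) (S := La) _ _).mp h1
  haveI := flat_pow h (n + m)
  refine ⟨↥(I ^ (n + m)), inferInstance, inferInstance, inferInstance, phi R ha (n + m), fun i =>
    ⟨a ^ m * y i, by rw [pow_add, mul_comm (I ^ n)]; exact Ideal.mul_mem_mul (Ideal.pow_mem_pow ha m) (hy i)⟩,
    fun i => Subtype.ext ((frac_shift a n m (y i)).trans (hcy i).symm), Subtype.ext ?_⟩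
  rw [AddSubmonoidClass.coe_finsetSum]
  simp only [SetLike.val_smul_of_tower, ZeroMemClass.coe_zero, ← mul_smul_comm, ← Finset.mul_sum]
  exact hm

theorem flat_quotient [Module.Flat R A] (h : ∀ n, 1 ≤ n → Module.Flat R (A ⧸ I ^ n)) (ha : a ∈ I) :
    Module.Flat R (BlowUp.affineAlgebra A I a ⧸
      Ideal.span {algebraMap A (BlowUp.affineAlgebra A I a) a}) := by
  let C := BlowUp.affineAlgebra A I a
  let J : Ideal C := Ideal.span {algebraMap A C a}
  refine flat_of_lift_relations fun {l r q} hq => ?_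
  choose c hc using fun i => Ideal.Quotient.mk_surjective (q i)
  have hsum : Ideal.Quotient.mkₐ R J (∑ i, r i • c i) = 0 := by
    simp only [map_sum, map_smul]
    exact (Finset.sum_congr rfl fun i _ => congrArg (r i • ·) (hc i)).trans hq
  obtain ⟨d, hd⟩ := Ideal.mem_span_singleton'.mp (Ideal.Quotient.eq_zero_iff_mem.mp hsum)
  obtain ⟨n, y, hy, hcy⟩ := exists_common ha (Fin.cons d c)
  have h1 : frac a n (∑ i, r i • y i.succ) = frac a n (a * y 0) := by
    rw [← frac_sum, ← show ((∑ i, r i • c i : C) : La) = ∑ i, frac a n (r i • y i.succ) by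
      rw [AddSubmonoidClass.coe_finsetSum]
      exact Finset.sum_congr rfl fun i _ => by
        rw [← frac_smul, ← hcy]; simp [Fin.cons_succ], ← hd]
    rw [Subalgebra.coe_mul, show (d : La) = frac a n (y 0) by simpa [Fin.cons_zero] using hcy 0]
    show frac a n (y 0) * algebraMap A La a = _
    rw [mul_comm]
    exact IsLocalization.mul_mk'_eq_mk'_of_mul (S := La) a (y 0) (Submonoid.pow a n)
  obtain ⟨⟨_, m, rfl⟩, hm⟩ := (IsLocalization.eq (M := Submonoid.powers a)).mp h1
  replace hm : a ^ m * (a ^ n * ∑ i, r i • y i.succ) = a ^ m * (a ^ n * (a * y 0)) := hm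
  let N := n + (m + n)
  haveI := flat_gr h N
  have hy' : ∀ i : Fin l, a ^ (m + n) * y i.succ ∈ I ^ N := fun i => by
    rw [mul_comm, show I ^ N = I ^ n * I ^ (m + n) from pow_add _ _ _]
    exact Ideal.mul_mem_mul (hy _) (Ideal.pow_mem_pow ha _)
  let ψ : Gr R I N →ₗ[R] C ⧸ J := Submodule.liftQ _
    ((Ideal.Quotient.mkₐ R J).toLinearMap ∘ₗ phi R ha N) (by
      intro z hz
      have hz' : (z : A) ∈ I ^ (N + 1) := hz
      rw [LinearMap.mem_ker]
      show Ideal.Quotient.mk J (phi R ha N z) = 0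
      rw [Ideal.Quotient.eq_zero_iff_mem]
      refine Ideal.mem_span_singleton'.mpr ⟨⟨frac a (N + 1) z, frac_mem ha (N + 1) z hz'⟩, Subtype.ext ?_⟩
      show frac a (N + 1) (z : A) * algebraMap A La a = frac a N z
      rw [mul_comm, frac, IsLocalization.mul_mk'_eq_mk'_of_mul]
      conv_rhs => rw [← frac_shift a N 1 z, pow_one])
  refine ⟨Gr R I N, inferInstance, inferInstance, inferInstance, ψ,
    fun i => Submodule.Quotient.mk ⟨a ^ (m + n) * y i.succ, hy' i⟩, fun i => ?_, ?_⟩
  · rw [← hc i]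
    show Ideal.Quotient.mk J _ = _
    congr 1
    refine Subtype.ext ((frac_shift a n (m + n) (y i.succ)).trans ?_)
    rw [← hcy]; simp [Fin.cons_succ]
  · show ∑ i, r i • (Submodule.mkQ _ (⟨a ^ (m + n) * y i.succ, hy' i⟩ : ↥(I ^ N)) : Gr R I N) = 0
    simp only [← map_smul]
    rw [← map_sum, Submodule.mkQ_apply, Submodule.Quotient.mk_eq_zero]
    show ((∑ i, r i • (⟨a ^ (m + n) * y i.succ, hy' i⟩ : ↥(I ^ N)) : ↥(I ^ N)) : A) ∈ I ^ (N + 1)
    rw [AddSubmonoidClass.coe_finsetSum]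
    simp only [SetLike.val_smul_of_tower, ← mul_smul_comm, ← Finset.mul_sum]
    rw [pow_add a m n, mul_assoc, hm,
      show I ^ (N + 1) = I ^ (m + n + 1) * I ^ n by rw [← pow_add]; congr 1; omega,
      show a ^ m * (a ^ n * (a * y 0)) = a ^ (m + n + 1) * y 0 by ring]
    exact Ideal.mul_mem_mul (Ideal.pow_mem_pow ha _) (hy 0)

end Groth.Agent.RegImm10.BlowFlat
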