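import Groth.Agent.Div89.BlowUp
import Groth.Agent.Div89.BlowSpec
import Groth.Agent.Blow97.Affine
import Mathlib.AlgebraicGeometry.Gluing

/-! Blow-ups are local on the base. -/

set_option autoImplicit false
set_option linter.style.haveILetI false

noncomputable section

universe u

open CategoryTheory CategoryTheory.Limits AlgebraicGeometry

namespace Groth.Agent.RegImm10.BlowLocal

variable {X X' : Scheme.{u}}

/-- Blow-ups transport along an isomorphism of the source. -/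
theorem isBlowUp_iso_comp {Z : Scheme.{u}} (e : Z ≅ X') {b : X' ⟶ X} {I : X.IdealSheafData}
    (h : BlowUp.IsBlowUp b I) : BlowUp.IsBlowUp (e.hom ≫ b) I := by
  refine ⟨?_, fun Y g hg => ?_⟩
  · rw [Scheme.IdealSheafData.comap_comp]
    exact Div89.isEffCartier_comap_of_flat e.hom h.1
  · obtain ⟨l, hl, hu⟩ := h.2 Y g hg
    refine ⟨l ≫ e.inv, show (l ≫ e.inv) ≫ e.hom ≫ b = g by simpa using hl, fun m hm => ?_⟩
    rw [← hu (m ≫ e.hom) (show (m ≫ e.hom) ≫ b = g by simpa using hm)]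
    simp

/-- Being a blow-up is local on the base. -/
theorem isBlowUp_of_cover {ι : Type u} (U : ι → X.Opens) (hU : ⨆ i, U i = ⊤) (b : X' ⟶ X)
    (I : X.IdealSheafData) (h : ∀ i, BlowUp.IsBlowUp (b ∣_ U i) (I.comap (U i).ι)) :
    BlowUp.IsBlowUp b I := by
  classical
  have hmem : ∀ x : X, ∃ i, x ∈ U i := fun x =>
    TopologicalSpace.Opens.mem_iSup.mp (hU.symm ▸ trivial : x ∈ ⨆ i, U i)
  refine ⟨fun x' => ?_, fun Y g hg => ?_⟩
  · obtain ⟨i, hi⟩ := hmem (b x')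
    have h1 : BlowUp.IsEffCartierIdeal ((I.comap b).comap (b ⁻¹ᵁ U i).ι) := by
      rw [← Scheme.IdealSheafData.comap_comp, ← morphismRestrict_ι, Scheme.IdealSheafData.comap_comp]
      exact (h i).1
    obtain ⟨V, hxV, f, hf, hV⟩ := h1 ⟨x', hi⟩
    rw [Scheme.IdealSheafData.ideal_comap_of_isOpenImmersion] at hV
    let e := ((b ⁻¹ᵁ U i).ι.appIso V.1).commRingCatIsoToRingEquiv.symm
    refine ⟨⟨_, V.2.image_of_isOpenImmersion (b ⁻¹ᵁ U i).ι⟩, ⟨_, hxV, rfl⟩, e f,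
      (MulEquivClass.map_nonZeroDivisors e ▸ Submonoid.mem_map_of_mem _ hf :), ?_⟩
    have := congrArg (Ideal.map e.toRingHom) hV
    rw [Ideal.map_span, Set.image_singleton] at this
    refine Eq.trans ?_ this
    exact (Ideal.map_comap_of_surjective _ e.surjective _).symm
  · have hlift : ∀ i, ∃! m : (g ⁻¹ᵁ U i).toScheme ⟶ (b ⁻¹ᵁ U i).toScheme,
        m ≫ (b ∣_ U i) = g ∣_ U i := by
      intro i
      refine (h i).2 _ _ ?_
      rw [← Scheme.IdealSheafData.comap_comp, morphismRestrict_ι, Scheme.IdealSheafData.comap_comp]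
      exact Div89.isEffCartier_comap_of_flat (g ⁻¹ᵁ U i).ι hg
    choose m hm hmu using hlift
    -- uniqueness of maps landing over a member of the cover
    have huniq : ∀ (W : Scheme.{u}) (j : W ⟶ Y) [IsOpenImmersion j] (i : ι), (∀ w, g (j w) ∈ U i) →
        ∀ k₁ k₂ : W ⟶ X', k₁ ≫ b = j ≫ g → k₂ ≫ b = j ≫ g → k₁ = k₂ := by
      intro W j _ i hi k₁ k₂ h₁ h₂
      have hr : ∀ k : W ⟶ X', k ≫ b = j ≫ g → Set.range k ⊆ Set.range (b ⁻¹ᵁ U i).ι := by
        rintro k hk _ ⟨w, rfl⟩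
        rw [Scheme.Opens.range_ι]
        show b (k w) ∈ U i
        rw [← Scheme.Hom.comp_apply, hk]
        exact hi w
      have hl : Set.range (j ≫ g) ⊆ Set.range (U i).ι := by
        rintro _ ⟨w, rfl⟩
        rw [Scheme.Opens.range_ι]
        exact hi w
      have hc : BlowUp.IsEffCartierIdeal ((I.comap (U i).ι).comap
          (IsOpenImmersion.lift (U i).ι (j ≫ g) hl)) := by
        rw [← Scheme.IdealSheafData.comap_comp, IsOpenImmersion.lift_fac, Scheme.IdealSheafData.comap_comp]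
        exact Div89.isEffCartier_comap_of_flat j hg
      have hk : ∀ k : W ⟶ X', ∀ hk : k ≫ b = j ≫ g, IsOpenImmersion.lift (b ⁻¹ᵁ U i).ι k (hr k hk) ≫
          (b ∣_ U i) = IsOpenImmersion.lift (U i).ι (j ≫ g) hl := fun k hk => by
        rw [← cancel_mono (U i).ι, Category.assoc, morphismRestrict_ι, IsOpenImmersion.lift_fac_assoc,
          IsOpenImmersion.lift_fac, hk]
      have := ((h i).2 W _ hc).unique (hk k₁ h₁) (hk k₂ h₂)
      rw [← IsOpenImmersion.lift_fac (b ⁻¹ᵁ U i).ι k₁ (hr k₁ h₁),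
        ← IsOpenImmersion.lift_fac (b ⁻¹ᵁ U i).ι k₂ (hr k₂ h₂), this]
    let 𝒰 : Y.OpenCover := Y.openCoverOfIsOpenCover (fun i => g ⁻¹ᵁ U i) (by
      refine eq_top_iff.mpr fun y _ => ?_
      obtain ⟨i, hi⟩ := hmem (g y)
      exact TopologicalSpace.Opens.mem_iSup.mpr ⟨i, hi⟩)
    let k : ∀ i, (g ⁻¹ᵁ U i).toScheme ⟶ X' := fun i => m i ≫ (b ⁻¹ᵁ U i).ι
    have hk : ∀ i, k i ≫ b = (g ⁻¹ᵁ U i).ι ≫ g := fun i => by
      simp only [k, Category.assoc, ← morphismRestrict_ι]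
      rw [reassoc_of% (hm i : m i ≫ (b ∣_ U i) = g ∣_ U i)]
    have hag : ∀ i j, pullback.fst (𝒰.f i) (𝒰.f j) ≫ k i = pullback.snd (𝒰.f i) (𝒰.f j) ≫ k j := by
      intro i j
      haveI : IsOpenImmersion (pullback.fst (𝒰.f i) (𝒰.f j) ≫ 𝒰.f i) := inferInstance
      refine huniq _ (pullback.fst (𝒰.f i) (𝒰.f j) ≫ 𝒰.f i) i (fun w => ?_) _ _ ?_ ?_
      · exact (pullback.fst (𝒰.f i) (𝒰.f j) w).2
      · rw [Category.assoc, Category.assoc]
        exact congrArg (pullback.fst (𝒰.f i) (𝒰.f j) ≫ ·) (hk i)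
      · rw [pullback.condition, Category.assoc, Category.assoc]
        exact congrArg (pullback.snd (𝒰.f i) (𝒰.f j) ≫ ·) (hk j)
    refine ⟨Scheme.Cover.glueMorphisms 𝒰 k hag, Scheme.Cover.hom_ext 𝒰 _ _ fun i => ?_, fun k' hk' => ?_⟩
    · rw [Scheme.Cover.ι_glueMorphisms_assoc]
      exact hk i
    · refine Scheme.Cover.hom_ext 𝒰 _ _ fun i => ?_
      rw [Scheme.Cover.ι_glueMorphisms]
      refine huniq _ (g ⁻¹ᵁ U i).ι i (fun w => w.2) _ _ ?_ (hk i)
      exact (Category.assoc (𝒰.f i) k' b).trans (congrArg (𝒰.f i ≫ ·) hk')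

/-- On an affine open of the base with affine preimage a blow-up in an ideal that is free of rank one
over the bigger ring. -/
theorem isBlowUp_restrict (f : X' ⟶ X) {U : X.Opens} (hU : IsAffineOpen U) (hV : IsAffineOpen (f ⁻¹ᵁ U))
    (I : X.IdealSheafData) (hinj : Function.Injective (f.app U))
    (hIB : ((I.ideal ⟨U, hU⟩).map (f.app U).hom : Set Γ(X', f ⁻¹ᵁ U)) ⊆ f.app U '' (I.ideal ⟨U, hU⟩ : Set Γ(X, U)))
    (e : Γ(X', f ⁻¹ᵁ U)) (he : e ∈ nonZeroDivisors Γ(X', f ⁻¹ᵁ U))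
    (hgen : (I.ideal ⟨U, hU⟩).map (f.app U).hom = Ideal.span {e}) :
    BlowUp.IsBlowUp (f ∣_ U) (I.comap U.ι) := by
  letI := (f.app U).hom.toAlgebra
  have h1 := Blow97.isBlowUp (A := Γ(X, U)) (B := Γ(X', f ⁻¹ᵁ U)) hinj (I.ideal ⟨U, hU⟩) hIB e he hgen
  have h2 : (I.comap U.ι).comap hU.isoSpec.inv = Curv2.idealSheaf Γ(X, U) (I.ideal ⟨U, hU⟩) := by
    refine Scheme.IdealSheafData.ext_of_isAffine ?_
    rw [← Scheme.IdealSheafData.comap_comp, IsAffineOpen.isoSpec_inv_ι,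
      MP99.ideal_comap _ hU.fromSpec ⟨U, hU⟩ ⟨⊤, isAffineOpen_top _⟩ hU.fromSpec_preimage_self.ge,
      Curv2.idealSheaf, Scheme.IdealSheafData.ofIdealTop_ideal, Ideal.map_map]
    congr 1
    rw [Scheme.Hom.appLE, hU.fromSpec_app_self]
    simp only [Category.assoc, ← Functor.map_comp, CommRingCat.hom_comp]
    rfl
  have h3 := Div89.isBlowUp_comp_iso hU.isoSpec.symm _ (I.comap U.ι) (by
    rw [Iso.symm_hom, h2]; exact h1)
  have h4 := isBlowUp_iso_comp hV.isoSpec h3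
  convert h4 using 1
  rw [← cancel_mono U.ι, morphismRestrict_ι]
  simp only [Category.assoc, Iso.symm_hom, IsAffineOpen.isoSpec_inv_ι]
  have := hU.SpecMap_appLE_fromSpec f hV (le_refl _)
  rw [← Scheme.Hom.app_eq_appLE] at this
  change _ = hV.isoSpec.hom ≫ Spec.map (CommRingCat.ofHom (f.app U).hom) ≫ hU.fromSpec
  rw [CommRingCat.ofHom_hom, this, ← Category.assoc, hV.isoSpec_hom_fromSpec]

end Groth.Agent.RegImm10.BlowLocal
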