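import Groth.Agent.RegImm10.StrictAlg
import Groth.Agent.An92.Nrm.RegIdeal
import Groth.Agent.RegImm99.Stalk
import Groth.Agent.Div89.Comap
import Groth.Agent.FlatMor68.KoszulCalc

/-!
Regular immersions via local rings.
-/

set_option autoImplicit false
set_option linter.style.haveILetI false

noncomputable section

universe u

open CategoryTheory AlgebraicGeometry IsLocalRing RingTheory.Sequence

namespace Groth.Agent.RegImm10.StalkRegular

variable {X Z : Scheme.{u}}

theorem isRegularIdeal_map_equiv {R S : Type u} [CommRing R] [CommRing S] (e : R ≃+* S) {I : Ideal R}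
    (h : CInt.IsRegularIdeal I) : CInt.IsRegularIdeal (I.map e.toRingHom) := by
  obtain ⟨rs, hrs, rfl⟩ := h
  refine ⟨rs.map e.toRingHom, ?_, (Ideal.map_ofList _ _).symm⟩
  refine (AddEquiv.isRegular_congr (e := e.toAddEquiv) ?_).1 hrs
  exact List.forall₂_map_right_iff.mpr (List.forall₂_same.mpr fun r _ x => map_mul e r x)

/-- An ideal generated by a regular sequence at a prime is so near it. -/
theorem exists_regular_gen_away {A : Type u} [CommRing A] [IsNoetherianRing A] (p : Ideal A)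
    [p.IsPrime] (I : Ideal A) (hIp : I ≤ p) (L : Type u) [CommRing L] [Algebra A L]
    [IsLocalization.AtPrime L p] (h : CInt.IsRegularIdeal (I.map (algebraMap A L))) :
    ∃ g, g ∉ p ∧ ∃ rs : List A, ∀ (B : Type u) [CommRing B] [Algebra A B],
      IsLocalization.Away g B →
        IsRegular B (rs.map (algebraMap A B)) ∧
          I.map (algebraMap A B) = Ideal.ofList (rs.map (algebraMap A B)) := by
  classical
  haveI : IsLocalRing L := IsLocalization.AtPrime.isLocalRing L p
  haveI : IsNoetherianRing L := IsLocalization.isNoetherianRing p.primeCompl L inferInstance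
  obtain ⟨ys, hys, hyI⟩ := h
  have hnum : ∀ i : Fin ys.length, ∃ (a : A) (v : Lˣ), a ∈ I ∧ algebraMap A L a = v * ys.get i := by
    intro i
    obtain ⟨⟨⟨a, ha⟩, t⟩, hat⟩ := (IsLocalization.mem_map_algebraMap_iff p.primeCompl L).1
      (hyI ▸ Ideal.subset_span (ys.get_mem i) : ys.get i ∈ I.map (algebraMap A L))
    obtain ⟨v, hv⟩ := IsLocalization.map_units L t
    exact ⟨a, v, ha, by rw [hv, mul_comm]; exact hat.symm⟩
  choose a v haI hav using hnum
  let rs : List A := List.ofFn a
  have hrs : Ideal.ofList rs ≤ I := Ideal.span_le.2 fun r hr => by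
    obtain ⟨i, rfl⟩ := List.mem_ofFn.1 hr; exact haI i
  have hget : Ideal.span (Set.range ys.get) = I.map (algebraMap A L) := by
    rw [← CAlg9.RegSeq.ofList_ofFn, List.ofFn_get, hyI]
  have hspan : (Ideal.ofList rs).map (algebraMap A L) = I.map (algebraMap A L) := by
    rw [CAlg9.RegSeq.ofList_ofFn, Ideal.map_span, ← Set.range_comp, ← hget]
    exact StrictAlg.span_unit_mul _ _ fun i => ⟨v i, hav i⟩
  have hw : IsWeaklyRegular L rs := by
    rw [← isWeaklyRegular_map_algebraMap_iff L, List.map_ofFn]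
    refine (CAlg9.RegSeq.isRegular_of_minimal (K := I.map (algebraMap A L)) ⟨ys, hys, hyI⟩ _ ?_ ?_).1
    · rw [Set.range_comp, ← Ideal.map_span, ← CAlg9.RegSeq.ofList_ofFn]; exact hspan
    · rw [← hget]
      exact (CAlg9.RegSeq.spanFinrank_eq ys.get (by rw [List.ofFn_get]; exact hys)).symm
  obtain ⟨g₁, hg₁, hW⟩ := StrictAlg.exists_weaklyRegular_quotient p L ⊥ rs (by
    rw [Ideal.map_bot]
    exact ((Submodule.quotEquivOfEqBot (⊥ : Ideal L) rfl).restrictScalars A
      |>.isWeaklyRegular_congr _).2 hw)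
  obtain ⟨g₂, hg₂, ht⟩ := StrictAlg.exists_notMem_mul_le p L hspan.ge
  refine ⟨g₁ * g₂, fun hp => ((Ideal.IsPrime.mem_or_mem ‹_› hp).elim hg₁ hg₂), rs,
    fun B _ _ hB => ⟨⟨?_, ?_⟩, ?_⟩⟩
  · have h1 := hW _ (dvd_mul_right g₁ g₂) B hB
    rw [Ideal.map_bot] at h1
    rw [isWeaklyRegular_map_algebraMap_iff]
    exact ((Submodule.quotEquivOfEqBot (⊥ : Ideal B) rfl).restrictScalars A
      |>.isWeaklyRegular_congr _).1 h1
  · rw [smul_eq_mul, Ideal.mul_top, ne_comm, ← Ideal.map_ofList,
      IsLocalization.map_algebraMap_ne_top_iff_disjoint (Submonoid.powers (g₁ * g₂)) B]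
    by_contra hd'
    have hg : g₁ * g₂ ∉ p := fun hp => (Ideal.IsPrime.mem_or_mem ‹_› hp).elim hg₁ hg₂
    apply hg
    by_contra hgp
    exact hd' (Set.disjoint_left.2 fun z ⟨n, hn⟩ hz => hgp (Ideal.IsPrime.mem_of_pow_mem ‹_› n
      ((show (g₁ * g₂) ^ n = z from hn).symm ▸ (hrs.trans hIp) hz)))
  · rw [← Ideal.map_ofList]
    refine StrictAlg.map_eq_of_mul_le hrs ht (isUnit_of_dvd_unit
      (map_dvd (algebraMap A B) (dvd_mul_left g₂ g₁)) (IsLocalization.Away.algebraMap_isUnit (g₁ * g₂)))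

/-- The kernel of the stalk map over an affine open where the morphism is a closed immersion. -/
theorem ker_stalkMap_eq (i : Z ⟶ X) {U : X.Opens} (hU : IsAffineOpen U) [IsClosedImmersion (i ∣_ U)]
    (z : Z) (hz : i z ∈ U) :
    RingHom.ker (i.stalkMap z).hom =
      (RingHom.ker (i.app U).hom).map (X.presheaf.germ U (i z) hz).hom := by
  obtain ⟨hV, hsurj⟩ := RegImm99.app_surjective i hU
  let φ := (i.app U).hom
  let p := (hU.primeIdealOf ⟨i z, hz⟩).asIdeal
  let q := (hV.primeIdealOf ⟨z, hz⟩).asIdeal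
  letI : Algebra Γ(X, U) (X.presheaf.stalk (i z)) := X.presheaf.algebra_section_stalk ⟨i z, hz⟩
  haveI : IsLocalization.AtPrime (X.presheaf.stalk (i z)) p := hU.isLocalization_stalk ⟨i z, hz⟩
  letI : Algebra Γ(Z, i ⁻¹ᵁ U) (Z.presheaf.stalk z) := Z.presheaf.algebra_section_stalk ⟨z, hz⟩
  haveI : IsLocalization.AtPrime (Z.presheaf.stalk z) q := hV.isLocalization_stalk ⟨z, hz⟩
  have hpq : q.comap φ = p := by
    have := congr($(IsAffineOpen.comap_primeIdealOf_appLE U hU (i ⁻¹ᵁ U) hV le_rfl (x := z) hz).asIdeal)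
    rw [← Scheme.Hom.app_eq_appLE] at this
    exact this
  have hT : Submonoid.map φ p.primeCompl = q.primeCompl := by
    ext b
    constructor
    · rintro ⟨a, ha, rfl⟩ hb
      exact ha (hpq ▸ hb)
    · intro hb
      obtain ⟨a, rfl⟩ := hsurj b
      exact ⟨a, fun ha => hb (show a ∈ q.comap φ from hpq.symm ▸ ha), rfl⟩
  have hmap : (i.stalkMap z).hom = IsLocalization.map (Z.presheaf.stalk z) φ
      (hT.symm ▸ p.primeCompl.le_comap_map) := by
    refine IsLocalization.ringHom_ext p.primeCompl ?_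
    rw [IsLocalization.map_comp]
    ext a
    exact i.germ_stalkMap_apply U z hz a
  rw [hmap]
  exact IsLocalization.ker_map (Z.presheaf.stalk z) (g := φ) (S := X.presheaf.stalk (i z)) hT

/-- An immersion into a locally Noetherian scheme whose kernel in the local ring at a point is
generated by a regular sequence is regular there. -/
theorem isRegularImmersionAt_of_stalk (i : Z ⟶ X) [IsImmersion i] [IsLocallyNoetherian X] (z : Z)
    (h : CInt.IsRegularIdeal (RingHom.ker (i.stalkMap z).hom)) :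
    RegImm.IsRegularImmersionAt RegImm.Kind.regular i z := by
  obtain ⟨U, hU, hzU, hUW⟩ := exists_isAffineOpen_mem_and_subset (X := X) (x := i z)
    (U := i.coborderRange) (subset_coborder ⟨z, rfl⟩)
  haveI hcl : IsClosedImmersion (i ∣_ U) := FlatMor68.KoszulCalc.isClosedImmersion_restrict i hUW
  obtain ⟨hV, hsurj⟩ := RegImm99.app_surjective i hU
  haveI : IsNoetherianRing Γ(X, U) := IsLocallyNoetherian.component_noetherian ⟨U, hU⟩
  let p := (hU.primeIdealOf ⟨i z, hzU⟩).asIdeal
  letI : Algebra Γ(X, U) (X.presheaf.stalk (i z)) := X.presheaf.algebra_section_stalk ⟨i z, hzU⟩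
  haveI : IsLocalization.AtPrime (X.presheaf.stalk (i z)) p := hU.isLocalization_stalk ⟨i z, hzU⟩
  rw [ker_stalkMap_eq i hU z hzU] at h
  have hIp : RingHom.ker (i.app U).hom ≤ p := by
    intro a ha
    by_contra hap
    have h1 : IsUnit ((X.presheaf.germ U (i z) hzU).hom a) :=
      IsLocalization.map_units (X.presheaf.stalk (i z)) (⟨a, hap⟩ : p.primeCompl)
    have h2 := h1.map (i.stalkMap z).hom
    have h3 : (i.stalkMap z).hom ((X.presheaf.germ U (i z) hzU).hom a) = 0 := by
      refine (i.germ_stalkMap_apply U z hzU a).trans ?_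
      rw [show (i.app U) a = 0 from ha, map_zero]
    rw [h3] at h2
    exact not_isUnit_zero h2
  obtain ⟨g, hg, rs, h'⟩ := exists_regular_gen_away p _ hIp (X.presheaf.stalk (i z)) h
  letI : Algebra Γ(X, U) Γ(X, X.basicOpen g) :=
    (X.presheaf.map (homOfLE (X.basicOpen_le g)).op).hom.toAlgebra
  obtain ⟨hreg, hker⟩ := h' Γ(X, X.basicOpen g) (hU.isLocalization_basicOpen g)
  refine ⟨X.affineBasicOpen (U := ⟨U, hU⟩) g, ?_,
    An92.Nrm.isClosedImmersion_restrict_basicOpen i U g, _, hreg, ?_⟩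
  · show i z ∈ X.basicOpen g
    rw [X.mem_basicOpen g (i z) hzU]
    exact (IsLocalization.AtPrime.isUnit_to_map_iff (X.presheaf.stalk (i z)) p g).2 hg
  · exact (An92.Nrm.ker_app_basicOpen i ⟨U, hU⟩ hV g).trans hker

/-- The kernel of a stalk map of a closed immersion is the stalk of its ideal sheaf. -/
theorem ker_stalkMap_eq_stalkIdeal (i : Z ⟶ X) [IsClosedImmersion i] (z : Z) :
    RingHom.ker (i.stalkMap z).hom = Div89.stalkIdeal i.ker (i z) := by
  obtain ⟨U, hzU⟩ := Div89.exists_affine_mem (X := X) (i z)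
  haveI : IsClosedImmersion (i ∣_ U.1) :=
    IsZariskiLocalAtTarget.restrict (P := @IsClosedImmersion) inferInstance _
  rw [Div89.stalkIdeal_eq i.ker U (i z) hzU, Scheme.Hom.ker_apply, ker_stalkMap_eq i U.2 z hzU]

/-- The stalk of a regular ideal sheaf at a point of its zero set is a regular ideal. -/
theorem isRegular_stalkIdeal {I : X.IdealSheafData}
    (hI : RegImm.IsRegularIdeal RegImm.Kind.regular I) (x : X) (hx : x ∈ I.support) :
    CInt.IsRegularIdeal (Div89.stalkIdeal I x) := by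
  obtain ⟨U, hxU, rs, hreg, hIU⟩ := hI x hx
  let p := (U.2.primeIdealOf ⟨x, hxU⟩).asIdeal
  letI : Algebra Γ(X, U.1) (X.presheaf.stalk x) := X.presheaf.algebra_section_stalk ⟨x, hxU⟩
  haveI : IsLocalization.AtPrime (X.presheaf.stalk x) p := U.2.isLocalization_stalk ⟨x, hxU⟩
  refine ⟨rs.map (algebraMap Γ(X, U.1) (X.presheaf.stalk x)),
    hreg.1.isRegular_of_isLocalization_of_mem _ p fun r hr => ?_, ?_⟩
  · have h1 := (Div89.mem_support_iff_le I U x hxU).1 hx (show r ∈ I.ideal U by rw [hIU]; exact Ideal.subset_span hr)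
    by_contra hrp
    have h2 : IsUnit ((X.presheaf.germ U.1 x hxU).hom r) :=
      IsLocalization.map_units (X.presheaf.stalk x) (⟨r, hrp⟩ : p.primeCompl)
    exact (Div89.mem_primeAt_iff U x hxU r).1 h1 ((X.mem_basicOpen r x hxU).2 h2)
  · rw [Div89.stalkIdeal_eq I U x hxU, hIU, Ideal.map_ofList]
    rfl

end Groth.Agent.RegImm10.StalkRegular
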