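import Groth.Agent.RegImm10.StalkRegular
import Groth.Agent.RegImm10.BlowModel
import Groth.Agent.H98Strict.Transform

/-!
The strict transform under a blow-up in a regular centre meeting it regularly is regularly immersed.
-/

set_option autoImplicit false
set_option linter.style.haveILetI false
set_option backward.isDefEq.respectTransparency.types false

noncomputable section

universe u

open CategoryTheory CategoryTheory.Limits AlgebraicGeometry IsLocalRing RingTheory.Sequence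

namespace Groth.Agent.RegImm10.StrictRegular

variable {X : Scheme.{u}}

theorem idealSpec_injective {A : Type u} [CommRing A] {K L : Ideal A}
    (h : FSch.idealSpec A K = FSch.idealSpec A L) : K = L := by
  have := congrArg (fun J => J.ideal ⟨⊤, isAffineOpen_top _⟩) h
  simp only [FBlow13.idealSpec_ideal_top] at this
  have h2 := congrArg (Ideal.comap (Scheme.ΓSpecIso (CommRingCat.of A)).inv.hom) this
  have hb : Function.Bijective (Scheme.ΓSpecIso (CommRingCat.of A)).inv.hom :=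
    ConcreteCategory.bijective_of_isIso _
  rwa [Ideal.comap_map_of_bijective _ hb, Ideal.comap_map_of_bijective _ hb] at h2

theorem idealSpec_bot (A : Type u) [CommRing A] : FSch.idealSpec A ⊥ = ⊥ := by
  refine Scheme.IdealSheafData.ext_of_isAffine ?_
  rw [FBlow13.idealSpec_ideal_top, Ideal.map_bot]
  rfl

/-- The inverse image of an ideal sheaf along a map to an affine open. -/
theorem comap_specMap_fromSpec (J : X.IdealSheafData) {V : X.Opens} (hV : IsAffineOpen V)
    {Q : CommRingCat.{u}} (φ : Γ(X, V) ⟶ Q) :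
    J.comap (Spec.map φ ≫ hV.fromSpec) = FSch.idealSpec Q ((J.ideal ⟨V, hV⟩).map φ.hom) := by
  rw [Scheme.IdealSheafData.comap_comp, ← BlowModel.idealSpec_comap]
  refine Scheme.IdealSheafData.ext_of_isAffine ?_
  rw [MP99.ideal_comap_top_of_isAffine, FBlow13.idealSpec_ideal_top, FBlow13.idealSpec_ideal_top,
    Ideal.map_map, ← CommRingCat.hom_comp, ← Scheme.ΓSpecIso_inv_naturality, CommRingCat.hom_comp,
    ← Ideal.map_map]
  rfl

theorem isEffCartier_idealSpec_span {A : Type u} [CommRing A] {q : A} (hq : q ∈ nonZeroDivisors A) :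
    BlowUp.IsEffCartierIdeal (FSch.idealSpec A (Ideal.span {q})) := fun _ => by
  refine ⟨⟨⊤, isAffineOpen_top _⟩, trivial, (Scheme.ΓSpecIso (CommRingCat.of A)).inv q, ?_, ?_⟩
  · let ε := (Scheme.ΓSpecIso (CommRingCat.of A)).commRingCatIsoToRingEquiv.symm
    exact (MulEquivClass.map_nonZeroDivisors ε ▸ Submonoid.mem_map_of_mem _ hq :
      ε q ∈ nonZeroDivisors _)
  · rw [FBlow13.idealSpec_ideal_top, Ideal.map_span, Set.image_singleton]

/-- A generator of an effective Cartier ideal on an affine open is a non-zero-divisor. -/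
theorem mem_nonZeroDivisors_of_span {E : X.IdealSheafData} (hE : BlowUp.IsEffCartierIdeal E)
    (U : X.affineOpens) {f : Γ(X, U.1)} (hf : E.ideal U = Ideal.span {f}) :
    f ∈ nonZeroDivisors Γ(X, U.1) :=
  Div89.mem_nonZeroDivisors_of_germ U f fun x hx => by
    obtain ⟨g, hg, hgE⟩ := Div89.exists_stalk_generator hE x
    exact Div89.generator_mem_nonZeroDivisors hg ((Div89.stalkIdeal_eq_span hf x hx).symm.trans hgE)

theorem comap_ker_self {Y : Scheme.{u}} (k : Y ⟶ X) : k.ker.comap k = ⊥ := by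
  refine le_bot_iff.1 (Scheme.IdealSheafData.le_map_iff_comap_le.1 ?_)
  rw [Scheme.IdealSheafData.map_bot]

theorem comap_subschemeι (J : X.IdealSheafData) : J.comap J.subschemeι = ⊥ := by
  conv_lhs => arg 1; rw [← J.ker_subschemeι]
  exact comap_ker_self _

/-- The charts of a blow-up given by generators of the centre. -/
theorem exists_chart_of_span {X' : Scheme.{u}} {b : X' ⟶ X} {I : X.IdealSheafData}
    (hb : BlowUp.IsBlowUp b I) {U : X.Opens} (hU : IsAffineOpen U)
    {S : Set Γ(X, U)} (hS : Ideal.span S = I.ideal ⟨U, hU⟩) {x' : X'} (hx : b x' ∈ U) :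
    ∃ a ∈ S, ∃ (V : X'.Opens) (_ : IsAffineOpen V) (e : V ≤ b ⁻¹ᵁ U)
      (ε : BlowUp.affineAlgebra Γ(X, U) (I.ideal ⟨U, hU⟩) a ≃+* Γ(X', V)),
      x' ∈ V ∧ ∀ r, ε (algebraMap _ _ r) = (b.appLE U V e).hom r := by
  have h := BlowModel.isBlowUp_affine hb hU
  let π := (b ∣_ U) ≫ hU.isoSpec.hom
  obtain ⟨a, ha, hp⟩ := FBlow13.exists_mem_chartOpen_of_span π h.1 hS ⟨x', hx⟩
  have haI : a ∈ I.ideal ⟨U, hU⟩ := hS ▸ Ideal.subset_span ha
  obtain ⟨e, he⟩ := FBlow13.exists_iso_chartOpen π h haI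
  let C := CommRingCat.of (BlowUp.affineAlgebra Γ(X, U) (I.ideal ⟨U, hU⟩) a)
  let j : Spec C ⟶ X' := e.hom ≫ (FBlow13.chartOpen π (I.ideal ⟨U, hU⟩) a).ι ≫ (b ⁻¹ᵁ U).ι
  have hj : j ≫ b = Spec.map (CommRingCat.ofHom (algebraMap Γ(X, U) _)) ≫ hU.fromSpec := by
    change _ = FBlow13.chartMor _ _ a ≫ hU.fromSpec
    rw [← he]
    simp only [j, π, C, Category.assoc, hU.isoSpec_hom_fromSpec, morphismRestrict_ι]
  let V : X'.Opens := j ''ᵁ ⊤
  have hV : IsAffineOpen V := (isAffineOpen_top _).image_of_isOpenImmersion j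
  have hVU : V ≤ b ⁻¹ᵁ U := by
    rintro _ ⟨w, -, rfl⟩
    show b (j w) ∈ U
    rw [← Scheme.Hom.comp_apply, hj]
    have hr := Set.mem_range_self (f := hU.fromSpec)
      (Spec.map (CommRingCat.ofHom (algebraMap Γ(X, U) C)) w)
    rw [hU.range_fromSpec] at hr
    exact hr
  let ι' : C ≅ Γ(X', V) := (Scheme.ΓSpecIso C).symm ≪≫ (j.appIso ⊤).symm
  refine ⟨a, ha, V, hV, hVU, ι'.commRingCatIsoToRingEquiv, ⟨e.inv ⟨⟨x', hx⟩, hp⟩, trivial, ?_⟩,
    fun r => ?_⟩
  · show (b ⁻¹ᵁ U).ι ((FBlow13.chartOpen π (I.ideal ⟨U, hU⟩) a).ι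
      ((e.inv ≫ e.hom) ⟨⟨x', hx⟩, hp⟩)) = x'
    rw [e.inv_hom_id]
    rfl
  have h1 : b.appLE U V hVU ≫ (j.appIso ⊤).hom =
      CommRingCat.ofHom (algebraMap Γ(X, U) C) ≫ (Scheme.ΓSpecIso C).inv := by
    rw [Scheme.Hom.appIso_hom', Scheme.Hom.appLE_comp_appLE]
    have h2 : ∀ (f : Spec C ⟶ X) (e : ⊤ ≤ f ⁻¹ᵁ U), f = Spec.map (CommRingCat.ofHom (algebraMap Γ(X, U) C)) ≫ hU.fromSpec →
        f.appLE U ⊤ e = CommRingCat.ofHom (algebraMap Γ(X, U) C) ≫ (Scheme.ΓSpecIso C).inv := by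
      rintro f e rfl
      rw [← Scheme.Hom.appLE_comp_appLE _ _ U ⊤ ⊤ hU.fromSpec_preimage_self.ge le_top,
        Scheme.Hom.appLE, hU.fromSpec_app_self, Scheme.ΓSpecIso_inv_naturality]
      simp only [Category.assoc, ← Functor.map_comp, Scheme.Hom.appTop, Scheme.Hom.app_eq_appLE]
      rfl
    exact h2 _ _ hj
  show (j.appIso ⊤).inv ((Scheme.ΓSpecIso C).inv (algebraMap Γ(X, U) C r)) = _
  rw [show (Scheme.ΓSpecIso C).inv (algebraMap Γ(X, U) C r) = (j.appIso ⊤).hom ((b.appLE U V hVU) r)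
    from congr($(h1.symm).hom r)]
  exact (j.appIso ⊤).hom_inv_id_apply _

section Main

variable {Z Z' Y' : Scheme.{u}} (𝓘W 𝓘Y : Z.IdealSheafData)
  (b : Z' ⟶ Z) (hb : BlowUp.IsBlowUp b 𝓘W)
  (b' : Y' ⟶ 𝓘Y.subscheme) (hb' : BlowUp.IsBlowUp b' (𝓘W.comap 𝓘Y.subschemeι))
  (k : Y' ⟶ Z') (hk : k ≫ b = b' ≫ 𝓘Y.subschemeι)

include hk in
theorem comap_le_ker : 𝓘Y.comap b ≤ k.ker := by
  rw [← Scheme.IdealSheafData.map_bot, Scheme.IdealSheafData.le_map_iff_comap_le,
    ← Scheme.IdealSheafData.comap_comp, hk, Scheme.IdealSheafData.comap_comp, comap_subschemeι,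
    Scheme.IdealSheafData.comap_bot]

include hb hb' hk in
/-- A morphism into `Z'` over `Y` on which the exceptional ideal is Cartier factors through `k`. -/
theorem comap_ker_eq_bot {T : Scheme.{u}} (g : T ⟶ Z') (hY : (𝓘Y.comap b).comap g = ⊥)
    (hW : BlowUp.IsEffCartierIdeal ((𝓘W.comap b).comap g)) : k.ker.comap g = ⊥ := by
  have hle : 𝓘Y.subschemeι.ker ≤ (g ≫ b).ker := by
    rw [Scheme.IdealSheafData.ker_subschemeι, ← Scheme.IdealSheafData.map_bot,
      Scheme.IdealSheafData.le_map_iff_comap_le, Scheme.IdealSheafData.comap_comp, hY]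
  let r := IsClosedImmersion.lift 𝓘Y.subschemeι (g ≫ b) hle
  have hr : r ≫ 𝓘Y.subschemeι = g ≫ b := IsClosedImmersion.lift_fac _ _ _
  obtain ⟨l, hl, -⟩ := hb'.2 T r (by
    rw [← Scheme.IdealSheafData.comap_comp, hr, Scheme.IdealSheafData.comap_comp]; exact hW)
  have hlk : l ≫ k = g := (hb.2 T (g ≫ b) (by rw [Scheme.IdealSheafData.comap_comp]; exact hW)).unique
    (by rw [Category.assoc, hk, ← Category.assoc, hl, hr]) rfl
  rw [← hlk, Scheme.IdealSheafData.comap_comp, comap_ker_self, Scheme.IdealSheafData.comap_bot]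

include hb hb' hk in
/-- Off the centre the strict transform is the inverse image of `Y`. -/
theorem stalkIdeal_ker_off {x' : Z'} (hx : x' ∉ (𝓘W.comap b).support) :
    Div89.stalkIdeal k.ker x' = Div89.stalkIdeal (𝓘Y.comap b) x' := by
  let E : Z'.Opens := (𝓘W.comap b).support.compl
  have h : k.ker.comap E.ι = (𝓘Y.comap b).comap E.ι := by
    refine le_antisymm ?_ (Scheme.IdealSheafData.comap_mono _ (comap_le_ker 𝓘Y b b' k hk))
    let T := ((𝓘Y.comap b).comap E.ι).subscheme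
    let t : T ⟶ E := ((𝓘Y.comap b).comap E.ι).subschemeι
    have h0 := comap_ker_eq_bot 𝓘W 𝓘Y b hb b' hb' k hk (t ≫ E.ι)
      (by rw [Scheme.IdealSheafData.comap_comp, comap_subschemeι])
      (Div89.isEffCartier_of_support_empty fun z => by
        rw [Scheme.IdealSheafData.comap_comp]
        exact Div89.notMem_support_comap t _ z
          (Div89.notMem_support_comap E.ι _ _ (t z).2))
    rw [Scheme.IdealSheafData.comap_comp, ← le_bot_iff, ← Scheme.IdealSheafData.le_map_iff_comap_le,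
      Scheme.IdealSheafData.map_bot, Scheme.IdealSheafData.ker_subschemeι] at h0
    exact h0
  have h2 : Div89.stalkIdeal (k.ker.comap E.ι) (⟨x', hx⟩ : E.toScheme) =
      Div89.stalkIdeal ((𝓘Y.comap b).comap E.ι) ⟨x', hx⟩ := by rw [h]
  rw [Div89.stalkIdeal_comap E.ι k.ker, Div89.stalkIdeal_comap E.ι (𝓘Y.comap b)] at h2
  have hbij : Function.Bijective (E.ι.stalkMap (⟨x', hx⟩ : E.toScheme)).hom :=
    ConcreteCategory.bijective_of_isIso _
  have h3 := congrArg (Ideal.comap (E.ι.stalkMap (⟨x', hx⟩ : E.toScheme)).hom) h2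
  exact (Ideal.comap_map_of_bijective _ hbij).symm.trans (h3.trans (Ideal.comap_map_of_bijective _ hbij))

include hb hb' hk in
theorem isRegular_ker_stalkMap_off [IsClosedImmersion k]
    (hY : RegImm.IsRegularIdeal RegImm.Kind.regular 𝓘Y) (y : Y')
    (hy : k y ∉ (𝓘W.comap b).support) : CInt.IsRegularIdeal (RingHom.ker (k.stalkMap y).hom) := by
  rw [StalkRegular.ker_stalkMap_eq_stalkIdeal k y,
    stalkIdeal_ker_off 𝓘W 𝓘Y b hb b' hb' k hk hy, Div89.stalkIdeal_comap]
  haveI := Div89.isIso_stalkMap_off_center hb (k y) hy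
  refine StalkRegular.isRegularIdeal_map_equiv (asIso (b.stalkMap (k y))).commRingCatIsoToRingEquiv
    (StalkRegular.isRegular_stalkIdeal hY _ ?_)
  rw [← Scheme.Hom.comp_apply, hk, Scheme.Hom.comp_apply, ← SetLike.mem_coe,
    ← 𝓘Y.range_subschemeι]
  exact ⟨_, rfl⟩

/-- Regularity of the trace of one regular ideal on the other, in local rings. -/
theorem isRegular_sup_quotient {I J : Z.IdealSheafData}
    (h : RegImm.IsRegularIdeal RegImm.Kind.regular (J.comap I.subschemeι)) {z : Z}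
    (hI : z ∈ I.support) (hJ : z ∈ J.support) :
    CInt.IsRegularIdeal ((Div89.stalkIdeal J z).map (Ideal.Quotient.mk (Div89.stalkIdeal I z))) := by
  obtain ⟨y, rfl⟩ : z ∈ Set.range I.subschemeι := by rw [I.range_subschemeι]; exact hI
  have hy : y ∈ (J.comap I.subschemeι).support := by
    rw [Scheme.IdealSheafData.support_comap]; exact hJ
  have h1 := StalkRegular.isRegular_stalkIdeal h y hy
  rw [Div89.stalkIdeal_comap] at h1
  have hk : RingHom.ker (I.subschemeι.stalkMap y).hom = Div89.stalkIdeal I (I.subschemeι y) := by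
    rw [StalkRegular.ker_stalkMap_eq_stalkIdeal, Scheme.IdealSheafData.ker_subschemeι]
  let e := (Ideal.quotEquivOfEq hk.symm).trans (RingHom.quotientKerEquivOfSurjective
    (f := (I.subschemeι.stalkMap y).hom) (I.subschemeι.stalkMap_surjective y))
  have he : e.symm.toRingHom.comp (I.subschemeι.stalkMap y).hom =
      Ideal.Quotient.mk (Div89.stalkIdeal I (I.subschemeι y)) := by
    refine RingHom.ext fun a => e.injective ?_
    exact (e.apply_symm_apply _).trans rfl
  rw [← he, ← Ideal.map_map]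
  exact StalkRegular.isRegularIdeal_map_equiv e.symm h1

include hb hb' hk in
theorem isRegular_ker_stalkMap_on [IsClosedImmersion k] [IsLocallyNoetherian Z] [IsLocallyNoetherian Z']
    (hW : RegImm.IsRegularIdeal RegImm.Kind.regular 𝓘W)
    (hY : RegImm.IsRegularIdeal RegImm.Kind.regular 𝓘Y)
    (hXY : RegImm.IsRegularIdeal RegImm.Kind.regular (𝓘W.comap 𝓘Y.subschemeι))
    (hXW : RegImm.IsRegularIdeal RegImm.Kind.regular (𝓘Y.comap 𝓘W.subschemeι))
    (y : Y') (hy : k y ∈ (𝓘W.comap b).support) :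
    CInt.IsRegularIdeal (RingHom.ker (k.stalkMap y).hom) := by
  classical
  let x' := k y
  let z := b x'
  have hzW : z ∈ 𝓘W.support := by rw [Scheme.IdealSheafData.support_comap] at hy; exact hy
  have hzY : z ∈ 𝓘Y.support := by
    show b (k y) ∈ (𝓘Y.support : Set Z)
    rw [← Scheme.Hom.comp_apply, hk, Scheme.Hom.comp_apply, ← 𝓘Y.range_subschemeι]
    exact ⟨_, rfl⟩
  -- adapted generators near `z`
  obtain ⟨U₀, hzU₀⟩ := Div89.exists_affine_mem (X := Z) z
  haveI : IsNoetherianRing Γ(Z, U₀.1) := IsLocallyNoetherian.component_noetherian U₀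
  let p := (U₀.2.primeIdealOf ⟨z, hzU₀⟩).asIdeal
  letI : Algebra Γ(Z, U₀.1) (Z.presheaf.stalk z) := Z.presheaf.algebra_section_stalk ⟨z, hzU₀⟩
  haveI : IsLocalization.AtPrime (Z.presheaf.stalk z) p := U₀.2.isLocalization_stalk ⟨z, hzU₀⟩
  haveI : IsNoetherianRing (Z.presheaf.stalk z) :=
    IsLocalization.isNoetherianRing p.primeCompl _ inferInstance
  have hle : ∀ {J : Z.IdealSheafData}, z ∈ J.support → J.ideal U₀ ≤ p := fun {J} hJ f hf => by
    by_contra hfp
    have h2 : IsUnit ((Z.presheaf.germ U₀.1 z hzU₀).hom f) :=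
      IsLocalization.map_units (Z.presheaf.stalk z) (⟨f, hfp⟩ : p.primeCompl)
    exact (Div89.mem_primeAt_iff U₀ z hzU₀ f).1 ((Div89.mem_support_iff_le J U₀ z hzU₀).1 hJ hf)
      ((Z.mem_basicOpen f z hzU₀).2 h2)
  have hst : ∀ J : Z.IdealSheafData,
      (J.ideal U₀).map (algebraMap Γ(Z, U₀.1) (Z.presheaf.stalk z)) = Div89.stalkIdeal J z :=
    fun J => (Div89.stalkIdeal_eq J U₀ z hzU₀).symm
  obtain ⟨g, hg, r, c, s, u, h, w, hgen⟩ := StrictAlg.exists_adapted_away p (Z.presheaf.stalk z)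
    (𝓘W.ideal U₀) (𝓘Y.ideal U₀) (hle hzW) (hle hzY)
    (by rw [hst]; exact StalkRegular.isRegular_stalkIdeal hW z hzW)
    (by rw [hst]; exact StalkRegular.isRegular_stalkIdeal hY z hzY)
    (by rw [hst, hst, Ideal.map_sup, Ideal.map_quotient_self, bot_sup_eq]
        exact isRegular_sup_quotient hXW hzW hzY)
    (by rw [hst, hst, Ideal.map_sup, Ideal.map_quotient_self, sup_bot_eq]
        exact isRegular_sup_quotient hXY hzY hzW)
  let U : Z.affineOpens := Z.affineBasicOpen (U := U₀) g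
  have hzU : z ∈ U.1 := by
    show z ∈ Z.basicOpen g
    rw [Z.mem_basicOpen g z hzU₀]
    exact (IsLocalization.AtPrime.isUnit_to_map_iff (Z.presheaf.stalk z) p g).2 hg
  letI algU : Algebra Γ(Z, U₀.1) Γ(Z, Z.basicOpen g) :=
    (Z.presheaf.map (homOfLE (Z.basicOpen_le g)).op).hom.toAlgebra
  let res := algebraMap Γ(Z, U₀.1) Γ(Z, Z.basicOpen g)
  obtain ⟨hhK, hwK, hspanI, hspanK, hregI, hregW⟩ :=
    hgen Γ(Z, Z.basicOpen g) (U₀.2.isLocalization_basicOpen g)
  have hres : ∀ J : Z.IdealSheafData, (J.ideal U₀).map res = J.ideal U := fun J =>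
    J.map_ideal (U := U) (V := U₀) (Z.basicOpen_le g)
  have hregW' := (isWeaklyRegular_map_algebraMap_iff (Γ(Z, Z.basicOpen g))
    (Γ(Z, Z.basicOpen g) ⧸ (𝓘W.ideal U₀).map res) (List.ofFn w)).2 hregW
  rw [hres] at hhK hwK hspanI hspanK hregW'
  -- the chart through `x'`
  obtain ⟨a, ⟨i₀, hi₀⟩, V, hV, eV, ε, hxV, hε⟩ :=
    exists_chart_of_span hb U.2 (S := Set.range (res ∘ Fin.append u h)) hspanI
      (show b x' ∈ U.1 from hzU)
  let f := (b.appLE U.1 V eV).hom
  have hmapV : ∀ J : Z.IdealSheafData, (J.comap b).ideal ⟨V, hV⟩ = (J.ideal U).map f := fun J =>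
    MP99.ideal_comap J b U ⟨V, hV⟩ eV
  have hdiv : ∀ x ∈ 𝓘W.ideal U, ∃ d, f x = d * f a := by
    intro x hx
    obtain ⟨d, hd⟩ := FBlow13.affineAlgebra_div (a := a) hx
    exact ⟨ε d, by rw [← hε, ← hε, hd, map_mul]⟩
  have haW : a ∈ 𝓘W.ideal U := hspanI ▸ Ideal.subset_span ⟨i₀, hi₀⟩
  have hIV : (𝓘W.comap b).ideal ⟨V, hV⟩ = Ideal.span {f a} := by
    rw [hmapV]
    refine le_antisymm (Ideal.map_le_iff_le_comap.2 fun x hx => ?_)
      ((Ideal.span_singleton_le_iff_mem _).2 (Ideal.mem_map_of_mem _ haW))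
    obtain ⟨d, hd⟩ := hdiv x hx
    exact Ideal.mem_span_singleton'.2 ⟨d, hd.symm⟩
  let W' : Y'.affineOpens := ⟨k ⁻¹ᵁ V, hV.preimage k⟩
  let χ := (k.app V).hom
  have hχker : k.ker.ideal ⟨V, hV⟩ = RingHom.ker χ := Scheme.Hom.ker_apply k ⟨V, hV⟩
  have hχK : ∀ x ∈ 𝓘Y.ideal U, χ (f x) = 0 := fun x hx => by
    have h1 : f x ∈ (𝓘Y.comap b).ideal ⟨V, hV⟩ := by rw [hmapV]; exact Ideal.mem_map_of_mem _ hx
    have h2 := comap_le_ker 𝓘Y b b' k hk ⟨V, hV⟩ h1
    rwa [hχker] at h2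
  have hχa : χ (f a) ∈ nonZeroDivisors Γ(Y', W'.1) := by
    refine mem_nonZeroDivisors_of_span (E := (𝓘W.comap b).comap k) ?_ W' ?_
    · rw [← Scheme.IdealSheafData.comap_comp, hk, Scheme.IdealSheafData.comap_comp]; exact hb'.1
    · rw [MP99.ideal_comap _ k ⟨V, hV⟩ W' le_rfl, hIV, Ideal.map_span, Set.image_singleton,
        ← Scheme.Hom.app_eq_appLE]
  have haK : a ∉ 𝓘Y.ideal U := fun ha => by
    have h1 := hχK a ha
    rw [h1] at hχa
    have h10 : (1 : Γ(Y', W'.1)) = 0 := (mem_nonZeroDivisors_iff_right.1 hχa) 1 (mul_zero _)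
    have h2 := congrArg (Y'.presheaf.germ W'.1 y hxV).hom h10
    rw [map_one, map_zero] at h2
    exact one_ne_zero h2
  -- reorder the generators so that `a` comes first
  obtain ⟨i₁, rfl⟩ : ∃ i₁ : Fin r, i₀ = Fin.castAdd c i₁ := by
    induction i₀ using Fin.addCases with
    | left i => exact ⟨i, rfl⟩
    | right i =>
      exact (haK (by rw [← hi₀, Function.comp_apply, Fin.append_right]; exact hhK i)).elim
  obtain ⟨t, ht⟩ : ∃ t, r + c = t + 1 := ⟨r + c - 1, by have := i₁.pos; omega⟩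
  let σ : Fin (t + 1) ≃ Fin (r + c) :=
    (Equiv.swap 0 (Fin.cast ht (Fin.castAdd c i₁))).trans (finCongr ht.symm)
  have hσ0 : σ 0 = Fin.castAdd c i₁ := by simp [σ]
  let x : Fin (t + 1) → Γ(Z, U.1) := (res ∘ Fin.append u h) ∘ σ
  have hx0 : x 0 = a := by simp only [x, Function.comp_apply, hσ0]; exact hi₀
  have hxspan : Ideal.span (Set.range x) = 𝓘W.ideal U := by
    rw [← hspanI]; exact congrArg Ideal.span (σ.surjective.range_comp _)
  have hperm : (List.ofFn (res ∘ Fin.append u h)).Perm (List.ofFn x) := by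
    have hlen : List.ofFn (res ∘ Fin.append u h) =
        List.ofFn ((res ∘ Fin.append u h) ∘ finCongr ht.symm) := by
      rw [List.ofFn_congr ht]; rfl
    rw [hlen]
    exact (Equiv.Perm.ofFn_comp_perm (Equiv.swap 0 (Fin.cast ht (Fin.castAdd c i₁)))
      ((res ∘ Fin.append u h) ∘ finCongr ht.symm)).symm
  have hKR : Koszul19.KR (List.ofFn x) := (Koszul19.kR_of_isWeaklyRegular _ hregI).perm hperm
  letI : Algebra Γ(Z, U.1) Γ(Z', V) := f.toAlgebra
  obtain ⟨μ₀, hμ₀⟩ := KoszulBlow.exists_hom x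
  rw [hxspan] at μ₀
  clear hμ₀ μ₀
  have hμex : ∃ μ : MvPolynomial (Fin t) Γ(Z, U.1) →ₐ[Γ(Z, U.1)]
      BlowUp.affineAlgebra Γ(Z, U.1) (𝓘W.ideal U) (x 0),
      ∀ j, algebraMap _ _ (x 0) * μ (MvPolynomial.X j) = algebraMap _ _ (x j.succ) :=
    hxspan ▸ KoszulBlow.exists_hom x
  obtain ⟨μ₀, hμ₀⟩ := hμex
  subst hx0
  let εₐ : BlowUp.affineAlgebra Γ(Z, U.1) (𝓘W.ideal U) (x 0) ≃ₐ[Γ(Z, U.1)] Γ(Z', V) :=
    AlgEquiv.ofRingEquiv (f := ε) hε
  let μ := εₐ.toAlgHom.comp μ₀
  have hμ : ∀ j, f (x 0) * μ (MvPolynomial.X j) = f (x j.succ) := fun j => by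
    have := congrArg εₐ (hμ₀ j)
    rwa [map_mul, AlgEquiv.commutes, AlgEquiv.commutes] at this
  have hμs : Function.Surjective μ :=
    εₐ.surjective.comp (KoszulBlow.surjective x hxspan μ₀ hμ₀)
  have hμk : RingHom.ker μ = Ideal.ofList (KoszulBlow.rels x) := by
    rw [← KoszulBlow.ker_eq x μ₀ hμ₀ hKR]
    ext q
    exact εₐ.map_eq_zero_iff (x := μ₀ q)
  have hfnzd : f (x 0) ∈ nonZeroDivisors Γ(Z', V) := by
    rw [← hε]
    exact MulEquivClass.map_nonZeroDivisors ε ▸ Submonoid.mem_map.2 ⟨_, FBlow13.affineAlgebra_nzd _, rfl⟩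
  let T : List (Fin t) := Finset.univ.toList.filter fun j : Fin t =>
    decide (∃ i : Fin c, σ j.succ = Fin.natAdd r i)
  have hT : T.Nodup := (Finset.univ.nodup_toList).filter _
  let ws : List Γ(Z, U.1) := List.ofFn (res ∘ w)
  have hws : IsWeaklyRegular (Γ(Z, U.1) ⧸ Ideal.span (Set.range x)) ws := by
    rw [hxspan, show ws = (List.ofFn w).map res from (List.map_ofFn).symm]
    exact hregW'
  have hchart := StrictAlg.weaklyRegular_chart x μ hμs hμk hfnzd ws hws T hT
  let rest : List Γ(Z', V) := ws.map f ++ T.map fun j => μ (MvPolynomial.X j)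
  -- everything vanishes on the strict transform
  have hrest : ∀ q ∈ rest, χ q = 0 := by
    intro q hq
    rcases List.mem_append.1 hq with hq | hq
    · obtain ⟨q₀, hq₀, rfl⟩ := List.mem_map.1 hq
      obtain ⟨i, rfl⟩ := List.mem_ofFn.1 hq₀
      exact hχK _ (hwK i)
    · obtain ⟨j, hj, rfl⟩ := List.mem_map.1 hq
      obtain ⟨i, hi⟩ := of_decide_eq_true (List.mem_filter.1 hj).2
      have h1 : χ (f (x 0)) * χ (μ (MvPolynomial.X j)) = 0 := by
        rw [← map_mul, hμ]
        refine hχK _ ?_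
        simp only [x, Function.comp_apply, hi, Fin.append_right]
        exact hhK i
      exact (mem_nonZeroDivisors_iff_right.1 hχa) _ ((mul_comm _ _).trans h1)
  have hYrest : (𝓘Y.ideal U).map f ≤ Ideal.ofList rest := by
    rw [Ideal.map_le_iff_le_comap]
    refine hspanK.trans (Ideal.span_le.2 ?_)
    rintro _ ⟨l, rfl⟩
    induction l using Fin.addCases with
    | left i =>
      refine Ideal.subset_span (List.mem_append_left _ (List.mem_map_of_mem ?_))
      exact List.mem_ofFn.2 ⟨i, by simp only [Function.comp_apply, Fin.append_left]; rfl⟩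
    | right i =>
      have h0 : σ.symm (Fin.natAdd r i) ≠ 0 := fun e => by
        have h1 : Fin.natAdd r i = Fin.castAdd c i₁ := by rw [← hσ0, ← e, Equiv.apply_symm_apply]
        have := congrArg Fin.val h1
        simp at this
        omega
      obtain ⟨j, hj⟩ := Fin.exists_succ_eq.2 h0
      have hσj : σ j.succ = Fin.natAdd r i := by rw [hj, Equiv.apply_symm_apply]
      show f (res (Fin.append w h (Fin.natAdd s i))) ∈ Ideal.ofList rest
      rw [show res (Fin.append w h (Fin.natAdd s i)) = x j.succ by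
        simp only [x, Function.comp_apply, hσj, Fin.append_right], ← hμ]
      refine Ideal.mul_mem_left _ _ (Ideal.subset_span (List.mem_append_right _ (List.mem_map_of_mem ?_)))
      exact List.mem_filter.2 ⟨Finset.mem_toList.2 (Finset.mem_univ _), decide_eq_true ⟨i, hσj⟩⟩
  -- pass to the local ring
  let P := (hV.primeIdealOf ⟨x', hxV⟩).asIdeal
  haveI : IsNoetherianRing Γ(Z', V) := IsLocallyNoetherian.component_noetherian ⟨V, hV⟩
  letI : Algebra Γ(Z', V) (Z'.presheaf.stalk x') := Z'.presheaf.algebra_section_stalk ⟨x', hxV⟩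
  haveI : IsLocalization.AtPrime (Z'.presheaf.stalk x') P := hV.isLocalization_stalk ⟨x', hxV⟩
  haveI : IsNoetherianRing (Z'.presheaf.stalk x') :=
    IsLocalization.isNoetherianRing P.primeCompl _ inferInstance
  let θ := algebraMap Γ(Z', V) (Z'.presheaf.stalk x')
  have hw1 := hchart.of_isLocalization (Z'.presheaf.stalk x') P.primeCompl
  have hmax : ∀ q ∈ rest, θ q ∈ maximalIdeal (Z'.presheaf.stalk x') := by
    intro q hq
    rw [mem_maximalIdeal]
    intro hu
    have h3 : (k.stalkMap y).hom (θ q) = 0 := by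
      refine (k.germ_stalkMap_apply V y hxV q).trans ?_
      rw [show (k.app V) q = 0 from hrest q hq, map_zero]
    have h4 := hu.map (k.stalkMap y).hom
    rw [h3] at h4
    exact not_isUnit_zero h4
  have hamax : θ (f (x 0)) ∈ maximalIdeal (Z'.presheaf.stalk x') := by
    rw [mem_maximalIdeal]
    intro hu
    have h1 : x' ∈ Z'.basicOpen (f (x 0)) := (Z'.mem_basicOpen _ x' hxV).2 hu
    rw [Scheme.basicOpen_appLE] at h1
    exact (Scheme.mem_zeroLocus_iff Z _ _).1
      ((Scheme.IdealSheafData.mem_support_iff_of_mem hzU).1 hzW) _ haW h1.2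
  let L := Z'.presheaf.stalk x'
  have hall : IsRegular L ((algebraMap Γ(Z', V) L (f (x 0))) :: rest.map θ) := by
    refine (IsLocalRing.isRegular_iff_isWeaklyRegular_of_subset_maximalIdeal (M := L) ?_).2 ?_
    · intro q hq
      rcases List.mem_cons.1 hq with rfl | hq
      · exact hamax
      · obtain ⟨q₀, hq₀, rfl⟩ := List.mem_map.1 hq
        exact hmax q₀ hq₀
    · exact hw1
  have hperm2 := IsLocalRing.isRegular_of_perm hall (List.perm_append_singleton _ _).symm
  obtain ⟨hwrest, hlast⟩ := (isWeaklyRegular_append_iff L _ _).1 hperm2.1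
  have hregrest : IsRegular L (rest.map θ) :=
    (IsLocalRing.isRegular_iff_isWeaklyRegular_of_subset_maximalIdeal (M := L) (fun q hq => by
      obtain ⟨q₀, hq₀, rfl⟩ := List.mem_map.1 hq
      exact hmax q₀ hq₀)).2 hwrest
  refine ⟨rest.map θ, hregrest, ?_⟩
  let J := Ideal.ofList (rest.map θ)
  rw [StalkRegular.ker_stalkMap_eq_stalkIdeal k y, Div89.stalkIdeal_eq k.ker ⟨V, hV⟩ x' hxV]
  refine le_antisymm (Ideal.span_le.2 fun q hq => ?_) ?_
  · obtain ⟨q₀, hq₀, rfl⟩ := List.mem_map.1 hq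
    exact Ideal.mem_map_of_mem _ (hχker ▸ hrest q₀ hq₀ : q₀ ∈ k.ker.ideal ⟨V, hV⟩)
  -- a point of the quotient factors through the strict transform
  let φ : Γ(Z', V) ⟶ CommRingCat.of (L ⧸ J) := CommRingCat.ofHom ((Ideal.Quotient.mk J).comp θ)
  have hnzd : φ.hom (f (x 0)) ∈ nonZeroDivisors (L ⧸ J) := by
    have h1 := ((isWeaklyRegular_cons_iff _ _ _).1 hlast).1
    rw [mem_nonZeroDivisors_iff_right]
    intro q hq
    obtain ⟨q, rfl⟩ := Ideal.Quotient.mk_surjective q
    refine Ideal.Quotient.eq_zero_iff_mem.2 ?_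
    have h2 := (isSMulRegular_quotient_iff_mem_of_smul_mem _ _).1 h1 q (by
      rw [smul_eq_mul, smul_eq_mul, Ideal.mul_top, mul_comm]
      exact Ideal.Quotient.eq_zero_iff_mem.1 ((map_mul (Ideal.Quotient.mk J) _ _).trans hq))
    rwa [smul_eq_mul, Ideal.mul_top] at h2
  have hbot := comap_ker_eq_bot 𝓘W 𝓘Y b hb b' hb' k hk (Spec.map φ ≫ hV.fromSpec) ?_ ?_
  · rw [comap_specMap_fromSpec, ← idealSpec_bot] at hbot
    have h1 := idealSpec_injective hbot
    rw [Ideal.map_le_iff_le_comap]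
    intro q hq
    have h2 : φ.hom q ∈ (⊥ : Ideal (L ⧸ J)) := h1 ▸ Ideal.mem_map_of_mem φ.hom hq
    have h3 : Ideal.Quotient.mk J (θ q) = 0 := (Submodule.mem_bot _).1 h2
    show θ q ∈ J
    exact Ideal.Quotient.eq_zero_iff_mem.1 h3
  · rw [comap_specMap_fromSpec, ← idealSpec_bot, hmapV]
    congr 1
    rw [eq_bot_iff]
    refine (Ideal.map_mono hYrest).trans ?_
    rw [Ideal.ofList, Ideal.map_span, Ideal.span_le]
    rintro _ ⟨q, hq, rfl⟩
    exact (Submodule.mem_bot _).2 (Ideal.Quotient.eq_zero_iff_mem.2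
      (Ideal.subset_span (List.mem_map_of_mem hq)))
  · rw [comap_specMap_fromSpec, hIV, Ideal.map_span, Set.image_singleton]
    exact isEffCartier_idealSpec_span hnzd

include hb hb' hk in
theorem main [IsLocallyNoetherian Z] (hW : RegImm.IsRegularIdeal RegImm.Kind.regular 𝓘W)
    (hY : RegImm.IsRegularIdeal RegImm.Kind.regular 𝓘Y)
    (hXY : RegImm.IsRegularIdeal RegImm.Kind.regular (𝓘W.comap 𝓘Y.subschemeι))
    (hXW : RegImm.IsRegularIdeal RegImm.Kind.regular (𝓘Y.comap 𝓘W.subschemeι)) :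
    RegImm.IsRegularImmersion RegImm.Kind.regular k := by
  haveI : IsClosedImmersion k := (H98Strict.strictTransform 𝓘W 𝓘Y b hb b' hb' k hk).1
  haveI : IsProper b := BlowModel.isProper_of_isBlowUp (fun U => by
    haveI := IsLocallyNoetherian.component_noetherian U
    exact IsNoetherian.noetherian _) hb
  haveI : IsLocallyNoetherian Z' := LocallyOfFiniteType.isLocallyNoetherian b
  refine ⟨inferInstance, fun y => StalkRegular.isRegularImmersionAt_of_stalk k y ?_⟩
  by_cases hy : k y ∈ (𝓘W.comap b).support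
  · exact isRegular_ker_stalkMap_on 𝓘W 𝓘Y b hb b' hb' k hk hW hY hXY hXW y hy
  · exact isRegular_ker_stalkMap_off 𝓘W 𝓘Y b hb b' hb' k hk hY y hy

end Main

end Groth.Agent.RegImm10.StrictRegular
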