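import Groth.Agent.PP93.SeqConormal
import Groth.Agent.Om3.KoszulLift
import Groth.Agent.FlatMor68.KoszulCalc

/-!
The conormal sequence of two Koszul regular closed immersions is short exact.
-/

set_option autoImplicit false
set_option backward.isDefEq.respectTransparency false
set_option linter.style.haveILetI false

noncomputable section

universe u

open CategoryTheory CategoryTheory.Limits AlgebraicGeometry TopologicalSpace Opposite

namespace Groth.Agent.RegImm10

open Groth.Agent QC70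

/-- On an affine chart of a closed immersion of lci type the ideal is Koszul regular. -/
theorem isKoszulRegularIdeal_ker_app {X Y : Scheme.{u}} (i : X ⟶ Y) (h : FlatMor68.KoszulCalc.lciProp i)
    {A : Y.Opens} (hA : IsAffineOpen A) (hW : IsAffineOpen (i ⁻¹ᵁ A))
    (hsurj : Function.Surjective (i.app A)) :
    LCI.IsKoszulRegularIdeal (RingHom.ker (i.app A).hom) := by
  letI a0 : Algebra Γ(Y, A) Γ(X, i ⁻¹ᵁ A) := (i.app A).hom.toAlgebra
  have hlci : LCI.IsLCI Γ(Y, A) Γ(X, i ⁻¹ᵁ A) := by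
    have := FlatMor68.KoszulCalc.lci_appLE h hW hA (le_refl _)
    rwa [← Scheme.Hom.app_eq_appLE] at this
  obtain ⟨-, n, α, hα, hkα⟩ := hlci
  let e := MvPolynomial.isEmptyAlgEquiv Γ(Y, A) (Fin 0)
  let β : MvPolynomial (Fin 0) Γ(Y, A) →ₐ[Γ(Y, A)] Γ(X, i ⁻¹ᵁ A) := (Algebra.ofId _ _).comp e.toAlgHom
  have h2 := (LCI19.isKoszulRegularIdeal_ker_indep α hα β (hsurj.comp e.surjective)).1 hkα
  rw [show RingHom.ker β.toRingHom = (RingHom.ker (i.app A).hom).comap e.toRingEquiv.toRingHom from rfl] at h2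
  exact (LCI19.isKoszulRegularIdeal_comap_equiv e.toRingEquiv).1 h2

variable {X Y Z : Scheme.{u}} (i : Y ⟶ X) [IsImmersion i] [QuasiCompact i] (j : Z ⟶ Y) [IsImmersion j]
  [QuasiCompact j] {φ₁ : (Scheme.Modules.pullback j).obj (Omega.conormal i) ⟶ Omega.conormal (j ≫ i)}

/-- The first map of the conormal sequence is injective if the second immersion is lci. -/
theorem mono_conormal_immersions (hj : FlatMor68.KoszulCalc.lciProp j)
    (hφ₁ : OmegaSh.IsConormalMap (j ≫ i) i (𝟙 X) j φ₁) : Mono φ₁ := by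
  refine Om3.mono_of_basis φ₁ fun O z hz => ?_
  obtain ⟨W, hW, hfW, hfs, hjW, hjs, hzW, hWO⟩ := PP93.exists_double_chart i j hz
  let V := i ⁻¹ᵁ W
  let P := j ⁻¹ᵁ V
  refine ⟨P, hzW, hWO, ?_⟩
  have hcs : Function.Surjective ((j ≫ i).app W) := by
    rw [Scheme.Hom.comp_app]; exact hjs.comp hfs
  let G := (Scheme.Modules.pullback j).obj (Omega.conormal i)
  let gen : Γ(ClSub.idealMod i.ker, W) →+ Γ(G, P) := AddMonoidHom.mk'
    (fun k => OmegaSh.pullSect j (Omega.conormal i) V (OmegaSh.conormalSect i W k))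
    fun a b => by simp only [map_add]
  have hsmul : ∀ (a : Γ(X, W)) (k : Γ(ClSub.idealMod i.ker, W)),
      gen (a • k) = j.app V (i.app W a) • gen k := fun a k => by
    show OmegaSh.pullSect j (Omega.conormal i) V (OmegaSh.conormalSect i W (a • k)) = _
    rw [Om3.conormalSect_smul]
    exact OmegaSh.pullSect_smul j _ V _ _
  have hgen : ∀ k, ∃ t : Γ(ClSub.idealMod (j ≫ i).ker, W),
      OmegaSh.idealSect (j ≫ i).ker W t = OmegaSh.idealSect i.ker W k ∧
      φ₁.app P (gen k) = OmegaSh.conormalSect (j ≫ i) W t := fun k => by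
    obtain ⟨t, ht⟩ := Om3.exists_sect_of_app_eq_zero (j ≫ i) (W := W) (OmegaSh.idealSect i.ker W k) (by
      rw [Scheme.Hom.comp_app, ConcreteCategory.comp_apply, FlatMor67.app_idealSect, map_zero])
    refine ⟨t, ht, ?_⟩
    have := Om3.conormalMap_val hφ₁ (U' := W) (U := W) le_rfl (P := P) le_rfl le_rfl k t
      (by
        rw [ht, Scheme.Hom.appLE, Scheme.Hom.id_app, ConcreteCategory.comp_apply]
        show _ = X.presheaf.map (𝟙 _) _
        rw [CategoryTheory.Functor.map_id]
        rfl)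
    rw [res_self (M := G), res_self (M := Omega.conormal (j ≫ i))] at this
    exact this
  have hsurjgen : Function.Surjective gen := fun x => by
    haveI : (ClSub.idealMod i.ker).IsQuasicoherent := Omega57.isQuasicoherent_idealMod _
    haveI : (Omega.conormal i).IsQuasicoherent := QCPull72.isQuasicoherent_pullback _ _
    have hx : x ∈ Submodule.span Γ(Z, P) (Set.range fun m : Γ(Omega.conormal i, V) =>
        res G le_rfl (OmegaSh.pullSect j (Omega.conormal i) V m)) :=
      (SchBasics.span_pullSect j (Omega.conormal i) hjW hfW le_rfl).ge trivial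
    induction hx using Submodule.span_induction with
    | mem y hy =>
      obtain ⟨m, rfl⟩ := hy
      obtain ⟨k, rfl⟩ := Om3.conormalSect_surjective i hW hfW hfs m
      exact ⟨k, (res_self (M := G) _).symm⟩
    | zero => exact ⟨0, map_zero _⟩
    | add y z _ _ hy hz =>
      obtain ⟨a, rfl⟩ := hy; obtain ⟨b, rfl⟩ := hz
      exact ⟨a + b, map_add _ _ _⟩
    | smul r y _ hy =>
      obtain ⟨k, rfl⟩ := hy
      obtain ⟨c, rfl⟩ := hjs r
      obtain ⟨a, rfl⟩ := hfs c
      exact ⟨a • k, hsmul a k⟩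
  refine (injective_iff_map_eq_zero (φ₁.app P).hom).2 fun x hx => ?_
  obtain ⟨k, rfl⟩ := hsurjgen x
  obtain ⟨t, ht, hval⟩ := hgen k
  change φ₁.app P (gen k) = 0 at hx
  rw [hval, Om3.conormalSect_eq_zero_iff (j ≫ i) hW hjW hcs, ht] at hx
  have hK : RingHom.ker ((j ≫ i).app W).hom = (RingHom.ker (j.app V).hom).comap (i.app W).hom := by
    rw [Scheme.Hom.comp_app, CommRingCat.hom_comp, ← RingHom.comap_ker]
  have hI : OmegaSh.idealSect i.ker W k ∈ RingHom.ker (i.app W).hom := FlatMor67.app_idealSect i W k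
  rw [hK] at hx
  have hmem := Om3.sq_inf_ker_le (i.app W).hom hfs
    (isKoszulRegularIdeal_ker_app j hj hfW hjW hjs) ⟨hx, hI⟩
  obtain ⟨k', hk', hk'0⟩ : ∃ k' : Γ(ClSub.idealMod i.ker, W),
      OmegaSh.idealSect i.ker W k' = OmegaSh.idealSect i.ker W k ∧ gen k' = 0 := by
    generalize OmegaSh.idealSect i.ker W k = a at hmem
    induction hmem using Submodule.mul_induction_on' with
    | mem_mul_mem c hc d hd =>
      obtain ⟨k', hk'⟩ := Om3.exists_sect_of_app_eq_zero i d hd
      refine ⟨c • k', by rw [Omega57.idealSect_smul, hk'], ?_⟩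
      rw [hsmul, show j.app V (i.app W c) = 0 from hc, zero_smul]
    | add a _ b _ ha hb =>
      obtain ⟨t₁, e₁, z₁⟩ := ha
      obtain ⟨t₂, e₂, z₂⟩ := hb
      exact ⟨t₁ + t₂, by rw [map_add, e₁, e₂], by rw [map_add, z₁, z₂, add_zero]⟩
  rwa [← Omega57.idealSect_injective _ _ hk']

/-- The conormal sequence of two immersions, the second lci, is short exact. -/
theorem shortExact_conormal_immersions (hj : FlatMor68.KoszulCalc.lciProp j)
    (hφ₁ : OmegaSh.IsConormalMap (j ≫ i) i (𝟙 X) j φ₁)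
    {φ₂ : (Scheme.Modules.pullback (𝟙 Z)).obj (Omega.conormal (j ≫ i)) ⟶ Omega.conormal j}
    (hφ₂ : OmegaSh.IsConormalMap j (j ≫ i) i (𝟙 Z) φ₂) :
    ∃ w : φ₁ ≫ ((Scheme.Modules.pullbackId Z).inv.app (Omega.conormal (j ≫ i)) ≫ φ₂) = 0,
      (ShortComplex.mk φ₁
        ((Scheme.Modules.pullbackId Z).inv.app (Omega.conormal (j ≫ i)) ≫ φ₂) w).ShortExact := by
  obtain ⟨he, hk⟩ := PP93.exact_conormal_immersions hφ₁ hφ₂
  have hfac : (imageSubobject φ₁).Factors φ₁ := by
    have h := Subobject.factors_comp_arrow (P := imageSubobject φ₁) (factorThruImageSubobject φ₁)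
    rwa [imageSubobject_arrow_comp] at h
  rw [hk, kernelSubobject_factors_iff] at hfac
  haveI := mono_conormal_immersions i j hj hφ₁
  haveI : Epi φ₂ := he
  exact ⟨hfac, { exact := (ShortComplex.exact_iff_image_eq_kernel _).2 hk }⟩

end Groth.Agent.RegImm10
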