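import Groth.Agent.S9498
import Groth.Agent.QC70.ExtZero
import Groth.Agent.QC70.Loc
import Groth.Agent.Omega57.Corep
import Groth.Agent.Coh69.Grothendieck
import Groth.Agent.Props58.LocFree.Affine
import Groth.Agent.Props58.LocFree.Criteria
import Groth.Prelude.Def_RegImm
import Mathlib.Algebra.Homology.DerivedCategory.Ext.Linear
import Mathlib.Algebra.Homology.DerivedCategory.Ext.ExactSequences
import Mathlib.Algebra.Homology.DerivedCategory.Ext.EnoughInjectives
import Mathlib.RingTheory.Regular.RegularSequence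

/-!
Vanishing of `Ext` out of modules killed by a regular sequence.
-/

set_option autoImplicit false
set_option backward.isDefEq.respectTransparency.types false
set_option linter.style.haveILetI false

noncomputable section

universe u v w

open CategoryTheory CategoryTheory.Limits CategoryTheory.Abelian AlgebraicGeometry Opposite

namespace Groth.Agent.RegImm10.ExtVanish

open Groth.Agent QC70
open scoped Pointwise

section Generic

variable {C : Type*} [Category C] [Abelian C] [HasExt.{w} C]

/-- A short exact sequence starting with a mono. -/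
theorem shortExact_cokernel {N J : C} (f : N ⟶ J) [Mono f] :
    (ShortComplex.mk f (cokernel.π f) (cokernel.condition f)).ShortExact :=
  { exact := ShortComplex.exact_of_g_is_cokernel _ (cokernelIsCokernel f) }

variable [EnoughInjectives C]

/-- A class out of a coproduct vanishes if all its components do. -/
theorem ext_eq_zero_of_components {ι : Type*} (M : ι → C) [HasCoproduct M] (q : ℕ) :
    ∀ (N : C) (x : Ext (∐ M) N q),
      (∀ i, (Ext.mk₀ (Sigma.ι M i)).comp x (zero_add q) = 0) → x = 0 := by
  induction q with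
  | zero =>
    intro N x hx
    obtain ⟨f, rfl⟩ := (Ext.mk₀_bijective _ _).2 x
    rw [(Sigma.hom_ext f 0 fun i => ?_ : f = 0), Ext.mk₀_zero]
    have h := hx i
    rw [Ext.mk₀_comp_mk₀, ← Ext.mk₀_zero] at h
    rw [(Ext.mk₀_bijective _ _).1 h, comp_zero]
  | succ q ih =>
    intro N x hx
    let f := Injective.ι N
    have hS := shortExact_cokernel f
    obtain ⟨y, rfl⟩ := Ext.covariant_sequence_exact₁ _ hS x (Ext.eq_zero_of_injective _) rfl
    have hy : ∀ i, ((Ext.mk₀ (Sigma.ι M i)).comp y (zero_add q)).comp hS.extClass rfl = 0 := fun i => by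
      rw [Ext.comp_assoc _ _ _ (zero_add q) rfl (by omega)]
      exact hx i
    have h := fun i => Ext.covariant_sequence_exact₃ _ hS _ rfl (hy i)
    cases q with
    | succ p =>
      rw [ih _ y fun i => ?_, Ext.zero_comp]
      obtain ⟨z, hz⟩ := h i
      rw [← hz, Ext.eq_zero_of_injective z, Ext.zero_comp]
    | zero =>
      obtain ⟨y, rfl⟩ := (Ext.mk₀_bijective _ _).2 y
      choose z hz using fun i => h i
      choose z' hz' using fun i => (Ext.mk₀_bijective _ _).2 (z i)
      have hy' : Sigma.desc z' ≫ cokernel.π f = y := Sigma.hom_ext _ _ fun i => by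
        have h1 := hz i
        rw [← hz' i, Ext.mk₀_comp_mk₀, Ext.mk₀_comp_mk₀] at h1
        rw [Sigma.ι_desc_assoc, (Ext.mk₀_bijective _ _).1 h1]
      rw [← hy', ← Ext.mk₀_comp_mk₀, Ext.comp_assoc_of_second_deg_zero, hS.comp_extClass, Ext.comp_zero]

/-- Vanishing of `Ext` passes through an exact left adjoint of an exact functor. -/
theorem subsingleton_ext_of_adj {D : Type*} [Category D] [Abelian D] [HasExt.{w} D] {L : D ⥤ C}
    {R : C ⥤ D} (adj : L ⊣ R) [PreservesFiniteColimits R] [PreservesFiniteLimits R] [R.Additive]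
    (hinj : ∀ I : C, Injective I → Injective (R.obj I)) (M : D) (q : ℕ) :
    ∀ N : C, Subsingleton (Ext M (R.obj N) q) → Subsingleton (Ext (L.obj M) N q) := by
  induction q with
  | zero =>
    intro N hN
    haveI : Subsingleton (M ⟶ R.obj N) := (Ext.mk₀_bijective M (R.obj N)).1.subsingleton
    haveI : Subsingleton (L.obj M ⟶ N) := (adj.homEquiv M N).injective.subsingleton
    exact (Ext.mk₀_bijective (L.obj M) N).2.subsingleton
  | succ q ih =>
    intro N hN
    refine subsingleton_of_forall_eq 0 fun x => ?_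
    let f := Injective.ι N
    let S := ShortComplex.mk f (cokernel.π f) (cokernel.condition f)
    have hS : S.ShortExact := shortExact_cokernel f
    have hRS : (S.map R).ShortExact := hS.map_of_exact R
    haveI : Injective (S.map R).X₂ := hinj _ inferInstance
    obtain ⟨y, rfl⟩ := Ext.covariant_sequence_exact₁ _ hS x (Ext.eq_zero_of_injective _) rfl
    cases q with
    | succ p =>
      have : Subsingleton (Ext M (R.obj (cokernel f)) (p + 1)) := subsingleton_of_forall_eq 0 fun z => by
        obtain ⟨z', hz'⟩ := Ext.covariant_sequence_exact₃ _ hRS z rfl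
          (Subsingleton.elim (α := Ext M (R.obj N) (p + 2)) _ _)
        rw [← hz', Ext.eq_zero_of_injective z']
        exact Ext.zero_comp ..
      rw [show y = 0 from (ih _ this).elim y 0]
      exact Ext.zero_comp ..
    | zero =>
      obtain ⟨y, rfl⟩ := (Ext.mk₀_bijective _ _).2 y
      obtain ⟨z, hz⟩ := Ext.covariant_sequence_exact₃ _ hRS (Ext.mk₀ (adj.homEquiv M _ y)) rfl
        (Subsingleton.elim (α := Ext M (R.obj N) 1) _ _)
      obtain ⟨z, rfl⟩ := (Ext.mk₀_bijective _ _).2 z
      rw [Ext.mk₀_comp_mk₀] at hz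
      have h1 : z ≫ R.map (cokernel.π f) = adj.homEquiv M _ y := (Ext.mk₀_bijective _ _).1 hz
      have hy : (adj.homEquiv M _).symm z ≫ cokernel.π f = y := by
        rw [← Adjunction.homEquiv_naturality_right_symm]
        exact (congrArg (adj.homEquiv M _).symm h1).trans (Equiv.symm_apply_apply _ _)
      rw [← hy, ← Ext.mk₀_comp_mk₀, Ext.comp_assoc_of_second_deg_zero]
      erw [hS.comp_extClass, Ext.comp_zero]

end Generic

section Smul

variable {X : Scheme.{u}}

/-- Multiplication by a global function. -/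
def smulEnd (r : Γ(X, ⊤)) (M : X.Modules) : M ⟶ M :=
  HomOn.toHom
    { app := fun W _ =>
        { toFun := fun m => resO X (le_top : W ≤ ⊤) r • m
          map_add' := fun a b => smul_add _ a b
          map_smul' := fun c a => smul_comm _ c a }
      app_res := fun _ h m => by
        simp only [LinearMap.coe_mk, AddHom.coe_mk]
        rw [res_smul, resO_resO] }

theorem smulEnd_app (r : Γ(X, ⊤)) (M : X.Modules) (W : X.Opens) (m : Γ(M, W)) :
    (smulEnd r M).app W m = resO X (le_top : W ≤ ⊤) r • m := rfl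

theorem smulEnd_naturality (r : Γ(X, ⊤)) {M N : X.Modules} (f : M ⟶ N) :
    smulEnd r M ≫ f = f ≫ smulEnd r N := by
  refine Scheme.Modules.hom_ext _ _ fun W => ?_
  ext m
  exact Scheme.Modules.Hom.app_smul f _ m

theorem smulEnd_ext {r : Γ(X, ⊤)} {M : X.Modules} {φ : M ⟶ M}
    (h : ∀ (W : X.Opens) (m : Γ(M, W)), φ.app W m = resO X (le_top : W ≤ ⊤) r • m) :
    φ = smulEnd r M := by
  refine Scheme.Modules.hom_ext _ _ fun W => ?_
  ext m
  exact h W m

/-- The category of modules is linear over the global functions. -/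
@[implicit_reducible]
def linearTop (X : Scheme.{u}) : Linear Γ(X, ⊤) X.Modules where
  homModule M N :=
    { smul := fun r f => f ≫ smulEnd r N
      one_smul := fun f => by
        show f ≫ smulEnd 1 N = f
        rw [← smulEnd_ext (φ := 𝟙 N) fun W m => ?_, Category.comp_id]
        rw [resO, map_one, one_smul]
        rfl
      mul_smul := fun r s f => by
        show f ≫ smulEnd (r * s) N = (f ≫ smulEnd s N) ≫ smulEnd r N
        rw [Category.assoc, ← smulEnd_ext (φ := smulEnd s N ≫ smulEnd r N) fun W m => ?_]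
        rw [resO, map_mul, mul_smul]
        rfl
      smul_zero := fun r => zero_comp
      smul_add := fun r f g => Preadditive.add_comp _ _ _ _ _ _
      add_smul := fun r s f => by
        show f ≫ smulEnd (r + s) N = f ≫ smulEnd r N + f ≫ smulEnd s N
        rw [← Preadditive.comp_add, ← smulEnd_ext (φ := smulEnd r N + smulEnd s N) fun W m => ?_]
        rw [resO, map_add, add_smul]
        rfl
      zero_smul := fun f => by
        show f ≫ smulEnd 0 N = 0
        rw [← smulEnd_ext (φ := (0 : N ⟶ N)) fun W m => ?_, comp_zero]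
        rw [resO, map_zero, zero_smul]
        rfl }
  smul_comp X' Y' Z' r f g := by
    show (f ≫ smulEnd r Y') ≫ g = (f ≫ g) ≫ smulEnd r Z'
    rw [Category.assoc, smulEnd_naturality, Category.assoc]
  comp_smul X' Y' Z' f r g := (Category.assoc _ _ _).symm

end Smul

section Affine

variable {R : CommRingCat.{u}}

/-- Scalar multiplication on a module gives scalar multiplication on the associated sheaf. -/
theorem tilde_map_smul (N : ModuleCat.{u} R) (r : R) :
    (tilde.functor R).map (r • 𝟙 N) = smulEnd ((Scheme.ΓSpecIso R).inv r) ((tilde.functor R).obj N) := by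
  apply (tilde.adjunction.homEquiv N _).injective
  rw [Adjunction.homEquiv_unit, Adjunction.homEquiv_unit]
  erw [← tilde.adjunction.unit.naturality]
  ext x
  show (tilde.adjunction.unit.app N) (r • x) =
    (smulEnd ((Scheme.ΓSpecIso R).inv r) _).app ⊤ (tilde.adjunction.unit.app N x)
  rw [map_smul, smulEnd_app]
  refine (Scheme.Modules.smul_Spec_def r _).trans ?_
  rfl

/-- `Ext` out of a module killed by a weakly regular sequence vanishes below its length. -/
theorem subsingleton_ext_tilde [HasExt.{u} (Spec R).Modules] (M : (Spec R).Modules) (rs : List R) :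
    ∀ (N : ModuleCat.{u} R), RingTheory.Sequence.IsWeaklyRegular N rs →
      (∀ r ∈ rs, smulEnd ((Scheme.ΓSpecIso R).inv r) M = 0) →
      ∀ q < rs.length, Subsingleton (Ext M ((tilde.functor R).obj N) q) := by
  induction rs with
  | nil => intro N _ _ q hq; exact absurd hq (Nat.not_lt_zero q)
  | cons r rs ih =>
    intro N hN hM q hq
    rw [RingTheory.Sequence.isWeaklyRegular_cons_iff] at hN
    letI := linearTop (Spec R)
    let s : Γ(Spec R, ⊤) := (Scheme.ΓSpecIso R).inv r
    have hs : smulEnd s M = 0 := hM r List.mem_cons_self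
    haveI : Mono (r • 𝟙 N : N ⟶ N) := (ModuleCat.mono_iff_injective _).2 hN.1
    haveI := S9498.mono_tilde_map (r • 𝟙 N : N ⟶ N)
    let S₀ : ShortComplex (ModuleCat.{u} R) :=
      ShortComplex.mk (r • 𝟙 N) (ModuleCat.ofHom (Submodule.mkQ (r • ⊤ : Submodule R N))) (by
        ext x
        exact (Submodule.Quotient.mk_eq_zero _).2 (Submodule.smul_mem_pointwise_smul x r ⊤ trivial))
    have hS₀ : S₀.ShortExact :=
      { mono_f := inferInstanceAs (Mono (r • 𝟙 N : N ⟶ N))
        epi_g := (ModuleCat.epi_iff_surjective _).2 (Submodule.mkQ_surjective _)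
        exact := by
          refine (ShortComplex.moduleCat_exact_iff _).2 fun x hx => ?_
          obtain ⟨y, -, hy⟩ := (Submodule.Quotient.mk_eq_zero _).1 hx
          exact ⟨y, hy⟩ }
    haveI := (S9498.tilde_exact R).1
    haveI := (S9498.tilde_exact R).2
    have hS := hS₀.map_of_exact (tilde.functor R)
    refine subsingleton_of_forall_eq 0 fun x => ?_
    have hx : x.comp (Ext.mk₀ ((tilde.functor R).map (r • 𝟙 N))) (add_zero q) = 0 := by
      rw [tilde_map_smul]
      have h1 : s • x = x.comp (Ext.mk₀ (smulEnd s ((tilde.functor R).obj N))) (add_zero q) := by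
        rw [Ext.smul_eq_comp_mk₀]
        exact congrArg (fun a => x.comp (Ext.mk₀ a) (add_zero q)) (Category.id_comp _)
      have h2 : s • x = 0 := by
        conv_lhs => rw [← Ext.mk₀_id_comp x, ← Ext.smul_comp, ← Ext.mk₀_smul]
        rw [show (s • 𝟙 M : M ⟶ M) = 𝟙 M ≫ smulEnd s M from rfl, hs, comp_zero, Ext.mk₀_zero, Ext.zero_comp]
      exact h1.symm.trans h2
    cases q with
    | zero =>
      obtain ⟨f, rfl⟩ := (Ext.mk₀_bijective _ _).2 x
      rw [Ext.mk₀_comp_mk₀, ← Ext.mk₀_zero] at hx
      have := (cancel_mono ((tilde.functor R).map (r • 𝟙 N))).1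
        (((Ext.mk₀_bijective _ _).1 hx).trans zero_comp.symm)
      rw [this, Ext.mk₀_zero]
    | succ q =>
      obtain ⟨y, rfl⟩ := Ext.covariant_sequence_exact₁ _ hS x hx rfl
      have := ih S₀.X₃ hN.2 (fun a ha => hM a (List.mem_cons_of_mem _ ha)) q (by simpa using hq)
      rw [show y = 0 from Subsingleton.elim (α := Ext M ((tilde.functor R).obj S₀.X₃) q) y 0]
      exact Ext.zero_comp ..

end Affine

section Global

variable {X : Scheme.{u}}

/-- Affine charts, each with a sequence. -/
structure Charts (X : Scheme.{u}) (E : X.Modules) (c : ℕ) where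
  U : X → X.Opens
  hU : ∀ x, IsAffineOpen (U x)
  mem : ∀ x, x ∈ U x
  rs : ∀ x, List Γ(X, U x)
  len : ∀ x, (rs x).length = c
  reg : ∀ x, RingTheory.Sequence.IsWeaklyRegular Γ(E, U x) (rs x)

variable {E : X.Modules} {c : ℕ} (ch : Charts X E c)

/-- `M` is killed by the sequences of the charts. -/
def Killed (M : X.Modules) : Prop :=
  ∀ x, ∀ r ∈ ch.rs x,
    smulEnd ((Scheme.ΓSpecIso _).inv r) ((Scheme.Modules.restrictFunctor (ch.hU x).fromSpec).obj M) = 0

theorem killed_of_mono {K M : X.Modules} (f : K ⟶ M) [Mono f] (h : Killed ch M) : Killed ch K := by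
  intro x r hr
  rw [← cancel_mono ((Scheme.Modules.restrictFunctor (ch.hU x).fromSpec).map f), zero_comp,
    smulEnd_naturality, h x r hr, comp_zero]

theorem killed_sigma {ι : Type u} (M : ι → X.Modules) (h : ∀ i, Killed ch (M i)) : Killed ch (∐ M) := by
  intro x r hr
  let F := Scheme.Modules.restrictFunctor (ch.hU x).fromSpec
  haveI : F.IsLeftAdjoint := (Scheme.Modules.restrictAdjunction (ch.hU x).fromSpec).isLeftAdjoint
  haveI : PreservesColimitsOfSize.{u, u} F :=
    (Scheme.Modules.restrictAdjunction (ch.hU x).fromSpec).leftAdjoint_preservesColimits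
  refine (isColimitCofanMkObjOfIsColimit F _ _ (coproductIsCoproduct M)).hom_ext fun i => ?_
  show F.map (Sigma.ι M i.as) ≫ _ = F.map (Sigma.ι M i.as) ≫ 0
  rw [← smulEnd_naturality, h i.as x r hr, zero_comp, comp_zero]

/-- The piece of `M` on a chart, extended by zero. -/
abbrev piece (M : X.Modules) (x : X) : X.Modules :=
  (CxOX.extZero (ch.hU x).fromSpec).obj ((Scheme.Modules.restrictFunctor (ch.hU x).fromSpec).obj M)

theorem mono_piece (M : X.Modules) (x : X) :
    Mono ((CxOX.extZeroAdj (ch.hU x).fromSpec).counit.app M) := by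
  let j := (ch.hU x).fromSpec
  refine mono_of_injective_stalkMapM _ fun y => ?_
  by_cases hy : y ∈ Set.range j
  · obtain ⟨u, rfl⟩ := hy
    rw [← injective_stalkMapM_restrict_iff]
    have e : (Scheme.Modules.restrictFunctor j).map ((CxOX.extZeroAdj j).counit.app M) =
        inv ((CxOX.extZeroAdj j).unit.app ((Scheme.Modules.restrictFunctor j).obj M)) := by
      apply IsIso.eq_inv_of_hom_inv_id
      exact (CxOX.extZeroAdj j).right_triangle_components M
    rw [e]
    exact (bijective_stalkMapM_of_isIso _ _).1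
  · have := subsingleton_stalk_extZero j ((Scheme.Modules.restrictFunctor j).obj M) hy
    exact fun a b _ => this.elim a b

theorem epi_desc (M : X.Modules) :
    Epi (Sigma.desc fun x => (CxOX.extZeroAdj (ch.hU x).fromSpec).counit.app M) := by
  refine Preadditive.epi_of_cancel_zero _ fun {Q} g hg => ?_
  have h1 : ∀ x, (Scheme.Modules.restrictFunctor (ch.hU x).fromSpec).map g = 0 := fun x => by
    have h := congrArg (Sigma.ι (fun x => piece ch M x) x ≫ ·) hg
    simp only [Sigma.ι_desc_assoc, comp_zero] at h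
    have h2 := congrArg ((CxOX.extZeroAdj (ch.hU x).fromSpec).homEquiv _ _) h
    rw [Adjunction.homEquiv_unit, Adjunction.homEquiv_unit, Functor.map_comp, Functor.map_zero, comp_zero,
      ← Category.assoc, Adjunction.right_triangle_components, Category.id_comp] at h2
    exact h2
  refine Scheme.Modules.hom_ext _ _ fun W => ?_
  ext s
  refine section_ext Q _ _ fun p hp => ?_
  let j := (ch.hU p).fromSpec
  have hle : j ''ᵁ (j ⁻¹ᵁ W) ≤ W := j.image_preimage_le W
  obtain ⟨p', hp'⟩ : p ∈ Set.range j := by rw [(ch.hU p).range_fromSpec]; exact ch.mem p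
  refine ⟨j ''ᵁ (j ⁻¹ᵁ W), hle, ⟨p', (show j p' ∈ W by rw [hp']; exact hp), hp'⟩, ?_⟩
  rw [← app_res]
  have h3 : g.app (j ''ᵁ (j ⁻¹ᵁ W)) (res M hle s) = 0 :=
    congr($(congrArg (fun a => Scheme.Modules.Hom.app a (j ⁻¹ᵁ W)) (h1 p)) (res M hle s))
  exact h3.trans (res_zero (M := Q) hle).symm

/-- The main vanishing. -/
theorem subsingleton_ext_of_killed [HasExt.{u} X.Modules] (hE : FlatMod.IsFinLocFree E) :
    ∀ q < c, ∀ M : X.Modules, Killed ch M → Subsingleton (Ext M E q) := by
  haveI := Props58.LocFree.isQuasicoherent_of_isFinLocFree hE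
  -- each piece has no Ext
  have hpiece : ∀ (q : ℕ), q < c → ∀ M : X.Modules, Killed ch M → ∀ x,
      Subsingleton (Ext (piece ch M x) E q) := by
    intro q hq M hM x
    let j := (ch.hU x).fromSpec
    haveI : HasExt.{u} (Spec Γ(X, ch.U x)).Modules := hasExt_of_enoughInjectives.{u} _
    refine subsingleton_ext_of_adj (CxOX.extZeroAdj j)
      (fun I hI => haveI := hI; injective_restrict j I) _ q E ?_
    let F := (Scheme.Modules.restrictFunctor j).obj E
    haveI : F.IsQuasicoherent := Scheme.Modules.isQuasicoherent_restrictFunctor j E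
    let N : ModuleCat Γ(X, ch.U x) := moduleSpecΓFunctor.obj F
    haveI : IsIso (tilde.adjunction.counit.app F) := inferInstanceAs (IsIso F.fromTildeΓ)
    let e : (tilde.functor _).obj N ≅ F := asIso (tilde.adjunction.counit.app F)
    have hN : RingTheory.Sequence.IsWeaklyRegular N (ch.rs x) := by
      let eN : N ≃+ Γ(E, ch.U x) := (Props58.LocFree.specTopEquiv E (ch.hU x)).toAddEquiv
      let eL : N ≃ₗ[Γ(X, ch.U x)] Γ(E, ch.U x) :=
        AddEquiv.toLinearEquiv eN (fun a b => (Props58.LocFree.specTopEquiv E (ch.hU x)).map_smul a b)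
      exact (LinearEquiv.isWeaklyRegular_congr eL _).2 (ch.reg x)
    have := subsingleton_ext_tilde ((Scheme.Modules.restrictFunctor j).obj M) (ch.rs x) N hN
      (fun r hr => hM x r hr) q (by rw [ch.len]; exact hq)
    refine Function.Surjective.subsingleton (f := fun z : Ext ((Scheme.Modules.restrictFunctor j).obj M)
      ((tilde.functor _).obj N) q => z.comp (Ext.mk₀ e.hom) (add_zero q)) fun z => ?_
    refine ⟨z.comp (Ext.mk₀ e.inv) (add_zero q), ?_⟩
    dsimp only
    rw [Ext.comp_assoc_of_third_deg_zero, Ext.mk₀_comp_mk₀, e.inv_hom_id, Ext.comp_mk₀_id]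
  intro q
  induction q with
  | zero =>
    intro hq M hM
    refine subsingleton_of_forall_eq 0 fun z => ?_
    obtain ⟨f, rfl⟩ := (Ext.mk₀_bijective _ _).2 z
    haveI := epi_desc ch M
    rw [(cancel_epi (Sigma.desc fun x => (CxOX.extZeroAdj (ch.hU x).fromSpec).counit.app M)).1
      (Sigma.hom_ext (_ ≫ f) (_ ≫ 0) fun x => ?_), Ext.mk₀_zero]
    haveI := hpiece 0 hq M hM x
    exact (Ext.mk₀_bijective _ _).1 (Subsingleton.elim (α := Ext (piece ch M x) E 0) _ _)
  | succ q ih =>
    intro hq M hM
    let P := ∐ fun x => piece ch M x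
    let d : P ⟶ M := Sigma.desc fun x => (CxOX.extZeroAdj (ch.hU x).fromSpec).counit.app M
    haveI : Epi d := epi_desc ch M
    have hP : Killed ch P := killed_sigma ch _ fun x =>
      haveI := mono_piece ch M x
      killed_of_mono ch ((CxOX.extZeroAdj (ch.hU x).fromSpec).counit.app M) hM
    have hS : (ShortComplex.mk (kernel.ι d) d (kernel.condition d)).ShortExact :=
      { exact := ShortComplex.exact_of_f_is_kernel _ (kernelIsKernel d) }
    refine subsingleton_of_forall_eq 0 fun z => ?_
    have hz : (Ext.mk₀ d).comp z (zero_add (q + 1)) = 0 := by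
      refine ext_eq_zero_of_components _ (q + 1) E _ fun x => ?_
      haveI := hpiece (q + 1) hq M hM x
      exact Subsingleton.elim (α := Ext (piece ch M x) E (q + 1)) _ _
    obtain ⟨w, hw⟩ := Ext.contravariant_sequence_exact₃ hS E z hz (by omega : 1 + q = q + 1)
    have := ih (by omega) (kernel d) (killed_of_mono ch (kernel.ι d) hP)
    rw [← hw, Subsingleton.elim (α := Ext (kernel d) E q) w 0, Ext.comp_zero]

end Global

/-- `Ext^q(i_* F, E) = 0` below the codimension. -/
theorem subsingleton_ext_pushforward {X Z : Scheme.{u}} [HasExt.{u} X.Modules]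
    (i : Z ⟶ X) [IsClosedImmersion i] (c : ℕ)
    (hi : RegImm.IsRegularImmersionOfCodim RegImm.Kind.regular c i) (E : X.Modules)
    (hE : FlatMod.IsFinLocFree E) (F : Z.Modules) (q : ℕ) (hq : q < c) :
    Subsingleton (Ext ((Scheme.Modules.pushforward i).obj F) E q) := by
  haveI := Props58.LocFree.isQuasicoherent_of_isFinLocFree hE
  have hflat : ∀ {U : X.Opens}, IsAffineOpen U → Module.Flat Γ(X, U) Γ(E, U) := fun hU =>
    have := Props58.LocFree.projective_sections hE hU
    inferInstance
  have hch : ∀ x : X, ∃ (U : X.Opens) (_ : IsAffineOpen U) (_ : x ∈ U) (rs : List Γ(X, U)),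
      rs.length = c ∧ RingTheory.Sequence.IsWeaklyRegular Γ(X, U) rs ∧ ∀ r ∈ rs, i.app U r = 0 := by
    intro x
    by_cases hx : x ∈ Set.range i
    · obtain ⟨z, rfl⟩ := hx
      obtain ⟨U, hU, -, rs, hlen, hrs, hker⟩ := hi.2 z
      exact ⟨U.1, U.2, hU, rs, hlen, hrs.toIsWeaklyRegular, fun r hr => hker.ge (Ideal.subset_span hr)⟩
    · obtain ⟨_, ⟨U, hU, rfl⟩, hxU, hUZ⟩ := X.isBasis_affineOpens.exists_subset_of_mem_open
        (show x ∈ (Set.range i)ᶜ from hx) i.isClosedEmbedding.isClosed_range.isOpen_compl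
      refine ⟨U, hU, hxU, List.replicate c 1, List.length_replicate, ?_, fun r hr => ?_⟩
      · refine ⟨fun k hk => ?_⟩
        rw [List.getElem_replicate]
        exact IsSMulRegular.one _
      · rw [List.eq_of_mem_replicate hr, map_one]
        have : i ⁻¹ᵁ U = ⊥ := by
          ext z
          exact ⟨fun hz => absurd ⟨z, rfl⟩ (hUZ hz), fun hz => hz.elim⟩
        haveI : Subsingleton Γ(Z, i ⁻¹ᵁ U) := by rw [this]; infer_instance
        exact Subsingleton.elim _ _
  choose U hU hxU rs hlen hreg hkill using hch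
  let ch : Charts X E c :=
    { U := U, hU := hU, mem := hxU, rs := rs, len := hlen
      reg := fun x => by
        have := hflat (hU x)
        exact (LinearEquiv.isWeaklyRegular_congr (TensorProduct.rid Γ(X, U x) Γ(E, U x)) _).1
          ((hreg x).isWeaklyRegular_lTensor (M₂ := Γ(E, U x))) }
  refine subsingleton_ext_of_killed ch hE q hq _ fun x r hr => ?_
  let j := (hU x).fromSpec
  let G := (Scheme.Modules.restrictFunctor j).obj ((Scheme.Modules.pushforward i).obj F)
  refine (smulEnd_ext (r := (Scheme.ΓSpecIso _).inv r) (φ := (0 : G ⟶ G)) fun W m => ?_).symm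
  have hW : j ''ᵁ W ≤ U x := (Scheme.Hom.image_le_opensRange j W).trans (hU x).opensRange_fromSpec.le
  have key : (j.appIso W).inv (resO (Spec Γ(X, U x)) (le_top : W ≤ ⊤) ((Scheme.ΓSpecIso _).inv r)) =
      resO X hW r := by
    have h1 : j.appLE (U x) ⊤ (hU x).fromSpec_preimage_self.ge = (Scheme.ΓSpecIso _).inv :=
      Omega57.fromSpec_appLE_top (hU x)
    have h2 : (j.appIso W).hom (resO X hW r) =
        resO (Spec Γ(X, U x)) (le_top : W ≤ ⊤) ((Scheme.ΓSpecIso _).inv r) := by
      rw [← h1, Scheme.Hom.appIso_hom']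
      show (X.presheaf.map _ ≫ j.appLE _ _ _) r = (j.appLE _ _ _ ≫ (Spec Γ(X, U x)).presheaf.map _) r
      rw [Scheme.Hom.map_appLE, Scheme.Hom.appLE_map]
    rw [← h2, Iso.hom_inv_id_apply]
  let m' : Γ(F, i ⁻¹ᵁ (j ''ᵁ W)) := m
  show (0 : Γ(F, i ⁻¹ᵁ (j ''ᵁ W))) =
    i.app (j ''ᵁ W) ((j.appIso W).inv (resO (Spec Γ(X, U x)) (le_top : W ≤ ⊤) ((Scheme.ΓSpecIso _).inv r))) • m'
  rw [key]
  have h0 : i.app (j ''ᵁ W) (resO X hW r) = 0 := by
    show (X.presheaf.map _ ≫ i.app _) r = 0
    rw [Scheme.Hom.naturality, ConcreteCategory.comp_apply]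
    exact (congrArg _ (hkill x r hr)).trans (map_zero _)
  rw [h0, zero_smul]

end Groth.Agent.RegImm10.ExtVanish
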