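import Groth.Agent.RegImm10.BlowModel
import Groth.Agent.RegImm10.BlowFlat
import Mathlib.AlgebraicGeometry.Morphisms.Flat
import Mathlib.AlgebraicGeometry.Pullbacks

/-! Blow-ups in ideals with flat powers commute with base change. -/

set_option autoImplicit false
set_option backward.isDefEq.respectTransparency.types false
set_option linter.style.haveILetI false

noncomputable section

universe u

open CategoryTheory CategoryTheory.Limits AlgebraicGeometry TensorProduct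

namespace Groth.Agent.RegImm10.BlowFlatBC

variable {X X' S : Scheme.{u}}

theorem flat_quot (f : X ⟶ S) (J : X.IdealSheafData) [Flat (J.subschemeι ≫ f)] {U : X.Opens}
    (hU : IsAffineOpen U) {V : S.Opens} (hV : IsAffineOpen V) (e : U ≤ f ⁻¹ᵁ V) :
    letI := (f.appLE V U e).hom.toAlgebra
    Module.Flat Γ(S, V) (Γ(X, U) ⧸ J.ideal ⟨U, hU⟩) := by
  letI := (f.appLE V U e).hom.toAlgebra
  let W := J.subschemeι ⁻¹ᵁ U
  have hW : IsAffineOpen W := hU.preimage J.subschemeι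
  have eW : W ≤ (J.subschemeι ≫ f) ⁻¹ᵁ V := fun y hy => e hy
  have h := (J.subschemeι ≫ f).flat_appLE hV hW eW
  letI : Algebra Γ(S, V) Γ(J.subscheme, W) := ((J.subschemeι ≫ f).appLE V W eW).hom.toAlgebra
  haveI : Module.Flat Γ(S, V) Γ(J.subscheme, W) := h
  let φ := (J.subschemeι.app U).hom
  have hφ : ∀ r, φ (algebraMap Γ(S, V) Γ(X, U) r) = algebraMap Γ(S, V) Γ(J.subscheme, W) r := fun r => by
    simp only [RingHom.algebraMap_toAlgebra, φ]
    rw [← ConcreteCategory.comp_apply, Scheme.Hom.app_eq_appLE, Scheme.Hom.appLE_comp_appLE]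
  let φₐ : Γ(X, U) →ₐ[Γ(S, V)] Γ(J.subscheme, W) := { φ with commutes' := hφ }
  have hker : RingHom.ker φₐ.toRingHom = J.ideal ⟨U, hU⟩ := J.ker_subschemeι_app ⟨U, hU⟩
  exact Module.Flat.of_linearEquiv
    ((Ideal.quotientEquivAlgOfEq Γ(S, V) hker.symm).trans
      (Ideal.quotientKerAlgEquivOfSurjective (f := φₐ) (J.subschemeι_app_surjective ⟨U, hU⟩))).toLinearEquiv

variable (f : X ⟶ S) [Flat f] {𝓘 : X.IdealSheafData}
  (hfl : ∀ m : ℕ, 1 ≤ m → Flat ((𝓘 ^ m).subschemeι ≫ f))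
  {b : X' ⟶ X} (hb : BlowUp.IsBlowUp b 𝓘)

include hfl hb in
/-- Charts of the blow-up that are flat over the base, with flat exceptional divisor. -/
theorem exists_flat_chart (x' : X') :
    ∃ (V : S.Opens) (hV : IsAffineOpen V) (C : CommRingCat.{u}) (ψ : Γ(S, V) ⟶ C) (a : C)
      (j : Spec C ⟶ X'), IsOpenImmersion j ∧ x' ∈ Set.range j ∧
      j ≫ b ≫ f = Spec.map ψ ≫ hV.fromSpec ∧
      (𝓘.comap b).comap j = FSch.idealSpec C (Ideal.span {a}) ∧ a ∈ nonZeroDivisors C ∧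
      (letI := ψ.hom.toAlgebra; Module.Flat Γ(S, V) C ∧ Module.Flat Γ(S, V) (C ⧸ Ideal.span {a})) := by
  obtain ⟨_, ⟨V, hV, rfl⟩, hxV, -⟩ :=
    S.isBasis_affineOpens.exists_subset_of_mem_open (Set.mem_univ (f (b x'))) isOpen_univ
  obtain ⟨_, ⟨U, hU, rfl⟩, hxU, e⟩ :=
    X.isBasis_affineOpens.exists_subset_of_mem_open (show b x' ∈ f ⁻¹ᵁ V from hxV) (f ⁻¹ᵁ V).2
  have e : U ≤ f ⁻¹ᵁ V := e
  obtain ⟨a, ha, j, hj, hxj, hjb, hcomap⟩ := BlowModel.exists_chart hb hU hxU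
  letI := (f.appLE V U e).hom.toAlgebra
  haveI : Module.Flat Γ(S, V) Γ(X, U) := f.flat_appLE hV hU e
  have hq : ∀ n, 1 ≤ n → Module.Flat Γ(S, V) (Γ(X, U) ⧸ (𝓘.ideal ⟨U, hU⟩) ^ n) := fun n hn => by
    haveI := hfl n hn
    exact flat_quot f (𝓘 ^ n) hU hV e
  let C := BlowUp.affineAlgebra Γ(X, U) (𝓘.ideal ⟨U, hU⟩) a
  let ψ : Γ(S, V) ⟶ CommRingCat.of C := f.appLE V U e ≫ CommRingCat.ofHom (algebraMap Γ(X, U) C)
  refine ⟨V, hV, CommRingCat.of C, ψ, algebraMap Γ(X, U) C a, j, hj, hxj, ?_, hcomap,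
    FBlow13.affineAlgebra_nzd a, ?_⟩
  · rw [← Category.assoc, hjb, Category.assoc, Spec.map_comp, Category.assoc,
      hV.SpecMap_appLE_fromSpec f hU e]
  · have e1 := BlowFlat.flat_affineAlgebra hq ha
    have e2 := BlowFlat.flat_quotient hq ha
    have hinst : ψ.hom.toAlgebra = (inferInstance : Algebra Γ(S, V) C) := by
      refine Algebra.algebra_ext _ _ fun r => ?_
      rfl
    exact hinst.symm ▸ ⟨e1, e2⟩

include hfl hb in
theorem flat_blowUp : Flat (b ≫ f) := by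
  choose V hV C ψ a j hj hxj hjf _ _ hflat _ using exists_flat_chart f hfl hb
  let 𝒰 : X'.OpenCover :=
    { I₀ := X'
      X := fun x => Spec (C x)
      f := j
      mem₀ := by
        rw [Scheme.presieve₀_mem_precoverage_iff]
        exact ⟨fun x => ⟨x, hxj x⟩, fun x => hj x⟩ }
  refine IsZariskiLocalAtSource.of_openCover 𝒰 fun x => ?_
  show Flat (j x ≫ b ≫ f)
  rw [hjf x]
  haveI : Flat (Spec.map (ψ x)) := (HasRingHomProperty.Spec_iff (P := @Flat)).mpr (hflat x)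
  infer_instance

include hfl hb in
/-- The exceptional divisor stays Cartier after any base change. -/
theorem isEffCartier_baseChange {T P : Scheme.{u}} (g : T ⟶ S) (p : P ⟶ X') (q : P ⟶ T)
    (hP : IsPullback p q (b ≫ f) g) : BlowUp.IsEffCartierIdeal ((𝓘.comap b).comap p) := by
  refine MP99.isEffCartier_of_local fun z => ?_
  obtain ⟨V, hV, C, ψ, a, j, hj, hxj, hjf, hcomap, hnzd, hflat, hflatq⟩ := exists_flat_chart f hfl hb (p z)
  have hzV : g (q z) ∈ V := by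
    obtain ⟨c, hc⟩ := hxj
    have h1 : (b ≫ f) (p z) = g (q z) := congr(($(hP.w)) z)
    rw [← h1, ← hc, ← Scheme.Hom.comp_apply, hjf, Scheme.Hom.comp_apply, ← SetLike.mem_coe, ← hV.range_fromSpec]
    exact ⟨_, rfl⟩
  obtain ⟨_, ⟨W, hW, rfl⟩, hzW, eW⟩ :=
    T.isBasis_affineOpens.exists_subset_of_mem_open (show q z ∈ g ⁻¹ᵁ V from hzV) (g ⁻¹ᵁ V).2
  have eW : W ≤ g ⁻¹ᵁ V := eW
  letI a1 : Algebra Γ(S, V) C := ψ.hom.toAlgebra
  letI a2 : Algebra Γ(S, V) Γ(T, W) := (g.appLE V W eW).hom.toAlgebra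
  haveI := hj
  let fC : Spec C ⟶ Spec Γ(S, V) := Spec.map (CommRingCat.ofHom (algebraMap Γ(S, V) C))
  let fW : Spec Γ(T, W) ⟶ Spec Γ(S, V) := Spec.map (CommRingCat.ofHom (algebraMap Γ(S, V) Γ(T, W)))
  have e1 : fC ≫ hV.fromSpec = j ≫ b ≫ f := hjf.symm
  have e2 : fW ≫ hV.fromSpec = hW.fromSpec ≫ g := hV.SpecMap_appLE_fromSpec g hW eW
  let m := pullback.map fC fW (b ≫ f) g j hW.fromSpec hV.fromSpec e1 e2 ≫ hP.isoPullback.inv
  haveI : IsOpenImmersion m := inferInstance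
  refine ⟨m.opensRange, ?_, ?_⟩
  · show z ∈ Set.range m
    have hr : hP.isoPullback.hom z ∈ Set.range (pullback.map fC fW (b ≫ f) g j hW.fromSpec hV.fromSpec e1 e2) := by
      rw [Scheme.Pullback.range_map]
      refine ⟨?_, ?_⟩
      · show pullback.fst (b ≫ f) g (hP.isoPullback.hom z) ∈ Set.range j
        rw [← Scheme.Hom.comp_apply, hP.isoPullback_hom_fst]; exact hxj
      · show pullback.snd (b ≫ f) g (hP.isoPullback.hom z) ∈ Set.range hW.fromSpec
        rw [← Scheme.Hom.comp_apply, hP.isoPullback_hom_snd, hW.range_fromSpec]; exact hzW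
    obtain ⟨w, hw⟩ := hr
    refine ⟨w, ?_⟩
    simp only [m, Scheme.Hom.comp_apply, hw]
    rw [← Scheme.Hom.comp_apply, hP.isoPullback.hom_inv_id]
    rfl
  · rw [← m.isoOpensRange_inv_comp, Scheme.IdealSheafData.comap_comp]
    refine MP99.isEffCartier_comap_isOpenImmersion ?_ _
    haveI := hflatq
    have hn := Div89.tmul_one_mem_nonZeroDivisors (R := Γ(S, V)) hnzd Γ(T, W)
    let s := pullbackSpecIso Γ(S, V) C Γ(T, W)
    have hm : s.inv ≫ m ≫ p =
        Spec.map (CommRingCat.ofHom Algebra.TensorProduct.includeLeftRingHom) ≫ j := by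
      simp only [m, Category.assoc, hP.isoPullback_inv_fst, pullback.lift_fst]
      rw [← Category.assoc]
      exact congrArg (· ≫ j) (pullbackSpecIso_inv_fst Γ(S, V) C Γ(T, W))
    have hc : BlowUp.IsEffCartierIdeal ((((𝓘.comap b).comap p).comap m).comap s.inv) := by
      rw [← Scheme.IdealSheafData.comap_comp, ← Scheme.IdealSheafData.comap_comp, Category.assoc, hm,
        Scheme.IdealSheafData.comap_comp _ _ j, hcomap]
      intro y
      refine ⟨⟨⊤, isAffineOpen_top _⟩, trivial,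
        (Scheme.ΓSpecIso (CommRingCat.of (C ⊗[Γ(S, V)] Γ(T, W)))).inv (a ⊗ₜ 1), ?_, ?_⟩
      · let ε := (Scheme.ΓSpecIso (CommRingCat.of (C ⊗[Γ(S, V)] Γ(T, W)))).commRingCatIsoToRingEquiv.symm
        exact (MulEquivClass.map_nonZeroDivisors ε ▸ Submonoid.mem_map_of_mem _ hn :
          ε (a ⊗ₜ 1) ∈ nonZeroDivisors _)
      · rw [MP99.ideal_comap_top_of_isAffine, FBlow13.idealSpec_ideal_top, Ideal.map_map,
          ← CommRingCat.hom_comp, ← Scheme.ΓSpecIso_inv_naturality, CommRingCat.hom_comp, ← Ideal.map_map,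
          Ideal.map_span, Set.image_singleton, Ideal.map_span, Set.image_singleton]
        rfl
    have h2 := MP99.isEffCartier_comap_isOpenImmersion hc s.hom
    rwa [← Scheme.IdealSheafData.comap_comp, s.hom_inv_id, Scheme.IdealSheafData.comap_id] at h2

end Groth.Agent.RegImm10.BlowFlatBC
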