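import Groth.Agent.DCK91.PullStalk
import Groth.Agent.QC70.Loc
import Groth.Agent.QC70.Stalk
import Groth.Agent.Curves2.IdealFrame
import Groth.Agent.FlatMor68.FlatInfNbhd
import Groth.Agent.EGA4Alg4.QuasiReg
import Groth.Agent.Props58.LocFree.Criteria
import Mathlib.LinearAlgebra.TensorProduct.Quotient

/-! The zero scheme of a regular section: the section identifies the pulled-back module with the conormal sheaf. -/

set_option autoImplicit false
set_option backward.isDefEq.respectTransparency.types false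
set_option linter.style.haveILetI false

noncomputable section

universe u

open CategoryTheory CategoryTheory.Limits AlgebraicGeometry Opposite TensorProduct
open Groth.Agent.QC70

namespace Groth.Agent.RegImm10.RegSection

/-- The kernel of a base change along a surjective ring map. -/
theorem mem_ker_smul_of_isBaseChange {R S M N : Type u} [CommRing R] [CommRing S] [Algebra R S]
    [AddCommGroup M] [Module R M] [AddCommGroup N] [Module R N] [Module S N] [IsScalarTower R S N]
    (hs : Function.Surjective (algebraMap R S)) {β : M →ₗ[R] N} (hβ : IsBaseChange S β) {m : M}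
    (hm : β m = 0) : m ∈ RingHom.ker (algebraMap R S) • (⊤ : Submodule R M) := by
  have h1 : (1 : S) ⊗ₜ[R] m = 0 := by
    apply hβ.equiv.injective
    rw [map_zero, hβ.equiv_tmul, one_smul, hm]
  let K := RingHom.ker (Algebra.ofId R S)
  let e : (R ⧸ K) ≃ₐ[R] S := Ideal.quotientKerAlgEquivOfSurjective (f := Algebra.ofId R S) hs
  have h2 := congrArg (TensorProduct.quotTensorEquivQuotSMul M K)
    (congrArg (LinearEquiv.rTensor M e.symm.toLinearEquiv) h1)
  rw [map_zero, map_zero, LinearEquiv.rTensor_tmul] at h2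
  rw [show e.symm.toLinearEquiv (1 : S) = Ideal.Quotient.mk K (1 : R) from (map_one e.symm).trans (map_one _).symm,
    TensorProduct.quotTensorEquivQuotSMul_mk_tmul, Submodule.Quotient.mk_eq_zero, one_smul] at h2
  exact h2

variable {X Y : Scheme.{u}}

theorem pullη_naturality {M N : X.Modules} (f : Y ⟶ X) (φ : M ⟶ N) (y : Y) (v : M.presheaf.stalk (f y)) :
    stalkMapM ((Scheme.Modules.pullback f).map φ) y (DCK91.pullη f M y v) =
      DCK91.pullη f N y (stalkMapM φ (f y) v) := by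
  obtain ⟨W, hW, t, rfl⟩ := germM_exist v
  rw [DCK91.pullη_germ, stalkMapM_germ, stalkMapM_germ, DCK91.pullη_germ]
  exact congrArg (germM ((Scheme.Modules.pullback f).obj N) (f ⁻¹ᵁ W) y hW)
    (congr(Scheme.Modules.Hom.app $(((Scheme.Modules.pullbackPushforwardAdjunction f).unit.naturality φ)) W t)).symm

theorem exists_mem_map {U : X.affineOpens} {x : X} (hx : x ∈ U.1) (J : Ideal Γ(X, U.1))
    {r : X.presheaf.stalk x} (hr : r ∈ J.map (X.presheaf.germ U.1 x hx).hom) :
    ∃ s a : Γ(X, U.1), x ∈ X.basicOpen s ∧ a ∈ J ∧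
      X.presheaf.germ U.1 x hx s * r = X.presheaf.germ U.1 x hx a := by
  letI := Div89.stalkAlg U.1 x hx
  haveI := Div89.isLocalization_stalk U x hx
  haveI := Div89.primeAt_isPrime U x hx
  obtain ⟨⟨⟨a, ha⟩, s⟩, h⟩ := (IsLocalization.mem_map_algebraMap_iff
    (Div89.primeAt U x hx).primeCompl (X.presheaf.stalk x)).mp hr
  refine ⟨s.1, a, ?_, ha, (mul_comm _ _).trans h⟩
  exact (X.mem_basicOpen _ x hx).mpr ((Div89.germ_isUnit_iff U x hx _).2 s.2)

theorem fnSect_smul (U : X.Opens) (a : Γ(X, U)) (m : Γ(Coh.structureModule X, U)) :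
    OmegaSh.fnSect X U (a • m) = a * OmegaSh.fnSect X U m := rfl

theorem isIso_pullback_map (n : ℕ) (E : X.Modules) (hE : FlatMod.IsFinLocFreeOfRank n E)
    (s : E ⟶ Coh.structureModule X)
    (hs : ∀ x : X, ∃ U : X.affineOpens, x ∈ U.1 ∧
      ∃ b : Module.Basis (Fin n) Γ(X, U.1) (E.val.obj (op U.1)),
        @RingTheory.Sequence.IsWeaklyRegular Γ(X, U.1) Γ(X, U.1) _ _ _
          (List.ofFn fun k => (s.val.app (op U.1)).hom (b k)))
    (i : Y ⟶ X) [IsClosedImmersion i] (t : E ⟶ ClSub.idealMod i.ker) [Epi t]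
    (hts : t ≫ ClSub.idealModι i.ker = s) :
    IsIso ((Scheme.Modules.pullback i).map t) := by
  haveI : E.IsQuasicoherent := Props58.LocFree.isQuasicoherent_of_isFinLocFree fun x => by
    obtain ⟨U, hU, h⟩ := hE x
    exact ⟨U, n, hU, h⟩
  haveI : Epi ((Scheme.Modules.pullback i).map t) := by
    haveI := (Scheme.Modules.pullbackPushforwardAdjunction i).leftAdjoint_preservesColimits
    infer_instance
  refine isIso_of_bijective_stalkMapM _ fun y =>
    ⟨(injective_iff_map_eq_zero ((TopCat.Presheaf.stalkFunctor _ y).map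
      ((Scheme.Modules.pullback i).map t).mapPresheaf).hom).mpr fun z hz => ?_, surjective_stalkMapM_of_epi _ y⟩
  obtain ⟨U, hxU, b, hb⟩ := hs (i y)
  set x := i y with hx
  let b' : Module.Basis (Fin n) Γ(X, U.1) Γ(E, U.1) := b
  let f : Fin n → Γ(X, U.1) := fun k => OmegaSh.fnSect X U.1 (s.app U.1 (b' k))
  have hq : CAlgX.IsQuasiRegular f := EGA4Alg4.isQuasiRegular_of_isWeaklyRegular n f hb
  have hloc : IsLocAt E U.1 := isLocAt_of_isQuasicoherent E U.2
  have hst : ∀ m : Γ(E, U.1), OmegaSh.idealSect i.ker U.1 (t.app U.1 m) = OmegaSh.fnSect X U.1 (s.app U.1 m) :=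
    fun m => by rw [OmegaSh.idealSect_apply, ← hts]; rfl
  have hlin : ∀ c : Fin n → Γ(X, U.1),
      OmegaSh.fnSect X U.1 (s.app U.1 (∑ k, c k • b' k)) = ∑ k, c k * f k := fun c => by
    simp only [map_sum, Scheme.Modules.Hom.app_smul, fnSect_smul, f]
  have hspan : ∀ m : Γ(E, U.1), OmegaSh.fnSect X U.1 (s.app U.1 m) ∈ Ideal.span (Set.range f) := fun m => by
    rw [← b'.sum_repr m, hlin]
    exact Ideal.sum_mem _ fun k _ => Ideal.mul_mem_left _ _ (Ideal.subset_span ⟨k, rfl⟩)
  have hJ : ∀ k, f k ∈ i.ker.ideal U := fun k => by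
    have := Curves2.idealSect_mem_ideal i.ker U (t.app U.1 (b' k))
    rwa [hst] at this
  -- sections of the ideal come from `E` near `x`
  have hlift : ∀ w : (ClSub.idealMod i.ker).presheaf.stalk x, ∃ (g : Γ(X, U.1)) (m : Γ(E, U.1)),
      x ∈ X.basicOpen g ∧ X.presheaf.germ U.1 x hxU g • w = germM (ClSub.idealMod i.ker) U.1 x hxU (t.app U.1 m) := by
    intro w
    obtain ⟨v, rfl⟩ := surjective_stalkMapM_of_epi t x w
    obtain ⟨g, m, hg, hgm⟩ := stalk_exists_smul hloc U.2 hxU v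
    refine ⟨g, m, hg, ?_⟩
    rw [show germM (ClSub.idealMod i.ker) U.1 x hxU (t.app U.1 m) =
      stalkMapM t x (germM E U.1 x hxU m) from (stalkMapM_germ t hxU m).symm, ← hgm]
    exact ((stalkLinear t x).map_smul _ v).symm
  have hres : ∀ {m m' : Γ(ClSub.idealMod i.ker, U.1)},
      germM (ClSub.idealMod i.ker) U.1 x hxU m = germM (ClSub.idealMod i.ker) U.1 x hxU m' →
      ∃ g : Γ(X, U.1), x ∈ X.basicOpen g ∧
        g * OmegaSh.idealSect i.ker U.1 m = g * OmegaSh.idealSect i.ker U.1 m' := by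
    intro m m' h
    obtain ⟨W, hWx, i₁, i₂, e⟩ := TopCat.Presheaf.germ_eq (ClSub.idealMod i.ker).presheaf x hxU hxU m m' h
    obtain ⟨g, hgW, hg⟩ := U.2.exists_basicOpen_le ⟨x, hWx⟩ hxU
    have e' := congrArg (fun z => (X.presheaf.map (homOfLE hgW).op).hom z)
      ((Curves2.idealSect_res i.ker i₁.le m).symm.trans
        ((congrArg (OmegaSh.idealSect i.ker W) e).trans (Curves2.idealSect_res i.ker i₂.le m')))
    simp only [← CommRingCat.comp_apply, ← X.presheaf.map_comp] at e'
    letI : Algebra Γ(X, U.1) Γ(X, X.basicOpen g) := (X.presheaf.map (homOfLE (X.basicOpen_le g)).op).hom.toAlgebra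
    haveI : IsLocalization.Away g Γ(X, X.basicOpen g) := U.2.isLocalization_basicOpen g
    obtain ⟨⟨_, k, rfl⟩, hk⟩ := (IsLocalization.eq_iff_exists (Submonoid.powers g) _).mp e'
    refine ⟨g ^ (k + 1), ?_, ?_⟩
    · rwa [X.basicOpen_pow g (n := k + 1) k.succ_pos]
    · rw [pow_succ', mul_assoc, mul_assoc]
      exact congrArg (g * ·) hk
  have hJspan : ∀ r ∈ i.ker.ideal U, ∃ g : Γ(X, U.1), x ∈ X.basicOpen g ∧ g * r ∈ Ideal.span (Set.range f) := by
    intro r hr
    obtain ⟨m', hm'⟩ := Curves2.exists_idealSect_of_mem i.ker U hr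
    obtain ⟨g, m, hg, hgm⟩ := hlift (germM (ClSub.idealMod i.ker) U.1 x hxU m')
    rw [← germM_smul] at hgm
    obtain ⟨h, hh, hhm⟩ := hres hgm
    refine ⟨h * g, by rw [X.basicOpen_mul]; exact ⟨hh, hg⟩, ?_⟩
    have e1 : OmegaSh.idealSect i.ker U.1 (g • m') = g * r := by
      rw [OmegaSh.idealSect_apply, Scheme.Modules.Hom.app_smul, fnSect_smul, ← OmegaSh.idealSect_apply, hm']
    rw [mul_assoc, ← e1, hhm, hst]
    exact Ideal.mul_mem_left _ _ (hspan m)
  -- base change structure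
  letI := (i.stalkMap y).hom.toAlgebra
  have hφ : Function.Surjective (algebraMap (X.presheaf.stalk x) (Y.presheaf.stalk y)) :=
    (i.stalkMap_surjective y : Function.Surjective (i.stalkMap y))
  letI := Module.compHom (((Scheme.Modules.pullback i).obj E).presheaf.stalk y) (i.stalkMap y).hom
  haveI : IsScalarTower (X.presheaf.stalk x) (Y.presheaf.stalk y)
      (((Scheme.Modules.pullback i).obj E).presheaf.stalk y) :=
    IsScalarTower.of_algebraMap_smul fun r e => rfl
  letI := Module.compHom (((Scheme.Modules.pullback i).obj (ClSub.idealMod i.ker)).presheaf.stalk y) (i.stalkMap y).hom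
  haveI : IsScalarTower (X.presheaf.stalk x) (Y.presheaf.stalk y)
      (((Scheme.Modules.pullback i).obj (ClSub.idealMod i.ker)).presheaf.stalk y) :=
    IsScalarTower.of_algebraMap_smul fun r e => rfl
  have hbE : IsBaseChange (Y.presheaf.stalk y) (DCK91.pullη i E y) := DCK91.isBaseChange_pullη i E y
  have hbI : IsBaseChange (Y.presheaf.stalk y) (DCK91.pullη i (ClSub.idealMod i.ker) y) :=
    DCK91.isBaseChange_pullη i (ClSub.idealMod i.ker) y
  have hsurjE : ∀ z, ∃ v, DCK91.pullη i E y v = z := by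
    intro z
    induction z using hbE.inductionOn with
    | zero => exact ⟨0, map_zero _⟩
    | tmul v => exact ⟨v, rfl⟩
    | smul c w hw =>
      obtain ⟨v, rfl⟩ := hw
      obtain ⟨r, rfl⟩ := hφ c
      exact ⟨r • v, ((DCK91.pullη i E y).map_smul r v).trans (algebraMap_smul _ r _).symm⟩
    | add w w' hw hw' =>
      obtain ⟨v, rfl⟩ := hw
      obtain ⟨v', rfl⟩ := hw'
      exact ⟨v + v', map_add _ _ _⟩
  obtain ⟨v, rfl⟩ := hsurjE z
  have hz2 : DCK91.pullη i (ClSub.idealMod i.ker) y (stalkLinear t x v) = 0 :=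
    (pullη_naturality i t y v).symm.trans hz
  obtain ⟨g₀, m, hg₀, hg₀m⟩ := stalk_exists_smul hloc U.2 hxU v
  obtain ⟨u₀, hu₀⟩ : IsUnit (X.presheaf.germ U.1 x hxU g₀) := isUnit_germ hg₀
  suffices hm : DCK91.pullη i E y (germM E U.1 x hxU m) = 0 by
    have hv : v = (↑u₀⁻¹ : X.presheaf.stalk x) • germM E U.1 x hxU m := by
      rw [← hg₀m, ← hu₀, smul_smul, Units.inv_mul, one_smul]
    exact (congrArg (DCK91.pullη i E y) hv).trans (((DCK91.pullη i E y).map_smul _ _).trans
      ((congrArg (((↑u₀⁻¹ : X.presheaf.stalk x)) • ·) hm).trans (smul_zero _)))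
  have hz' : DCK91.pullη i (ClSub.idealMod i.ker) y (germM (ClSub.idealMod i.ker) U.1 x hxU (t.app U.1 m)) = 0 := by
    rw [show germM (ClSub.idealMod i.ker) U.1 x hxU (t.app U.1 m) =
      stalkLinear t x (germM E U.1 x hxU m) from (stalkMapM_germ t hxU m).symm, ← hg₀m]
    exact (congrArg (DCK91.pullη i (ClSub.idealMod i.ker) y) ((stalkLinear t x).map_smul _ v)).trans
      (((DCK91.pullη i (ClSub.idealMod i.ker) y).map_smul _ _).trans
        ((congrArg ((X.presheaf.germ U.1 x hxU g₀) • ·) hz2).trans (smul_zero _)))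
  have hmem := mem_ker_smul_of_isBaseChange hφ hbI hz'
  have hK : RingHom.ker (algebraMap (X.presheaf.stalk x) (Y.presheaf.stalk y)) =
      (i.ker.ideal U).map (X.presheaf.germ U.1 x hxU).hom := by
    rw [RingHom.algebraMap_toAlgebra, FlatMor68.FlatInfNbhd.ker_stalkMap_closedImmersion,
      Div89.stalkIdeal_eq _ U _ hxU]
  rw [hK] at hmem
  obtain ⟨g₁, p, hg₁, hp, hgp⟩ : ∃ (g : Γ(X, U.1)) (p : Γ(ClSub.idealMod i.ker, U.1)), x ∈ X.basicOpen g ∧
      p ∈ (i.ker.ideal U) • (⊤ : Submodule Γ(X, U.1) Γ(ClSub.idealMod i.ker, U.1)) ∧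
      X.presheaf.germ U.1 x hxU g • germM (ClSub.idealMod i.ker) U.1 x hxU (t.app U.1 m) =
        germM (ClSub.idealMod i.ker) U.1 x hxU p := by
    refine Submodule.smul_induction_on hmem (fun r hr w _ => ?_) ?_
    · obtain ⟨g, a, hg, ha, hga⟩ := exists_mem_map hxU _ hr
      obtain ⟨g', m', hg', hgm'⟩ := hlift w
      refine ⟨g * g', a • t.app U.1 m', by rw [X.basicOpen_mul]; exact ⟨hg, hg'⟩,
        Submodule.smul_mem_smul ha Submodule.mem_top, ?_⟩
      rw [germM_smul, ← hgm', ← hga, smul_smul, smul_smul, map_mul, mul_right_comm]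
    · rintro w w' ⟨g, p, hg, hp, e⟩ ⟨g', p', hg', hp', e'⟩
      refine ⟨g * g', g' • p + g • p', by rw [X.basicOpen_mul]; exact ⟨hg, hg'⟩,
        add_mem (Submodule.smul_mem _ _ hp) (Submodule.smul_mem _ _ hp'), ?_⟩
      rw [germM_add, germM_smul, germM_smul, ← e, ← e', smul_add, smul_smul, smul_smul, map_mul, mul_comm]
  rw [← germM_smul] at hgp
  obtain ⟨g₂, hg₂, hg₂p⟩ := hres hgp
  have hsq : OmegaSh.idealSect i.ker U.1 p ∈ i.ker.ideal U * i.ker.ideal U := by
    refine Submodule.smul_induction_on hp (fun a ha q _ => ?_) (fun q q' hq hq' => ?_)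
    · rw [OmegaSh.idealSect_apply, Scheme.Modules.Hom.app_smul, fnSect_smul, ← OmegaSh.idealSect_apply]
      exact Ideal.mul_mem_mul ha (Curves2.idealSect_mem_ideal i.ker U q)
    · rw [map_add]; exact add_mem hq hq'
  obtain ⟨g₃, hg₃, hg₃p⟩ : ∃ g : Γ(X, U.1), x ∈ X.basicOpen g ∧
      g * OmegaSh.idealSect i.ker U.1 p ∈ Ideal.span (Set.range f) ^ 2 := by
    refine Submodule.mul_induction_on hsq (fun a ha c hc => ?_) (fun a c ⟨g, hg, hga⟩ ⟨g', hg', hgc⟩ => ?_)
    · obtain ⟨g, hg, hga⟩ := hJspan a ha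
      obtain ⟨g', hg', hgc⟩ := hJspan c hc
      refine ⟨g * g', by rw [X.basicOpen_mul]; exact ⟨hg, hg'⟩, ?_⟩
      rw [pow_two, show g * g' * (a * c) = g * a * (g' * c) by ring]
      exact Ideal.mul_mem_mul hga hgc
    · refine ⟨g * g', by rw [X.basicOpen_mul]; exact ⟨hg, hg'⟩, ?_⟩
      rw [show g * g' * (a + c) = g' * (g * a) + g * (g' * c) by ring]
      exact add_mem (Ideal.mul_mem_left _ _ hga) (Ideal.mul_mem_left _ _ hgc)
  let c : Fin n → Γ(X, U.1) := fun k => b'.repr m k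
  let G := g₃ * g₂ * g₁
  have hG : x ∈ X.basicOpen G := by
    rw [X.basicOpen_mul, X.basicOpen_mul]; exact ⟨⟨hg₃, hg₂⟩, hg₁⟩
  have hsum : ∑ k, G * c k * f k ∈ Ideal.span (Set.range f) ^ 2 := by
    have e1 : OmegaSh.idealSect i.ker U.1 (g₁ • t.app U.1 m) = g₁ * ∑ k, c k * f k := by
      rw [OmegaSh.idealSect_apply, Scheme.Modules.Hom.app_smul, fnSect_smul, ← OmegaSh.idealSect_apply,
        hst, ← hlin]
      congr 4
      exact (b'.sum_repr m).symm
    rw [show ∑ k, G * c k * f k = g₃ * (g₂ * (g₁ * ∑ k, c k * f k)) by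
      simp only [G, Finset.mul_sum]; exact Finset.sum_congr rfl fun k _ => by ring, ← e1, hg₂p,
      mul_left_comm]
    exact Ideal.mul_mem_left _ _ hg₃p
  have hcoef : ∀ k, G * c k ∈ i.ker.ideal U := by
    classical
    intro k
    have hP : (∑ j, MvPolynomial.C (G * c j) * MvPolynomial.X j : MvPolynomial (Fin n) Γ(X, U.1)).IsHomogeneous 1 :=
      MvPolynomial.IsHomogeneous.sum _ _ _ fun j _ => (MvPolynomial.isHomogeneous_X _ j).C_mul _
    have h := hq 1 _ hP (by simpa [map_sum] using hsum) (Finsupp.single k 1)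
    simp only [MvPolynomial.coeff_sum, MvPolynomial.coeff_C_mul, MvPolynomial.coeff_X,
      Finsupp.single_left_inj one_ne_zero, mul_ite, mul_one, mul_zero, Finset.sum_ite_eq', Finset.mem_univ,
      if_true] at h
    exact Ideal.span_le.mpr (Set.range_subset_iff.mpr hJ) h
  have hm0 : germM E U.1 x hxU m = ∑ k, X.presheaf.germ U.1 x hxU (c k) • germM E U.1 x hxU (b' k) := by
    conv_lhs => rw [← b'.sum_repr m]
    simp only [← germM_smul, c]
    exact map_sum (E.presheaf.germ U.1 x hxU).hom _ _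
  rw [hm0, map_sum]
  refine Finset.sum_eq_zero fun k _ => ?_
  rw [map_smul, ← algebraMap_smul (Y.presheaf.stalk y)]
  have h0 : algebraMap (X.presheaf.stalk x) (Y.presheaf.stalk y) (X.presheaf.germ U.1 x hxU (G * c k)) = 0 := by
    rw [← RingHom.mem_ker, hK]
    exact Ideal.mem_map_of_mem _ (hcoef k)
  rw [map_mul, map_mul] at h0
  rw [((isUnit_germ hG).map (algebraMap (X.presheaf.stalk x) (Y.presheaf.stalk y))).mul_right_eq_zero.mp h0,
    zero_smul]

end Groth.Agent.RegImm10.RegSection
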