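import Groth.Agent.Amp73.Ample
import Groth.Agent.An92.Ample.Family

/-!
Clearing denominators of finitely many functions on the generating locus of a section of an
invertible module.
-/

set_option autoImplicit false
set_option linter.style.haveILetI false
set_option backward.isDefEq.respectTransparency.types false

noncomputable section

universe u

open CategoryTheory CategoryTheory.Limits AlgebraicGeometry Opposite TopologicalSpace

namespace Groth.Agent.RegImm10.BlowDenom

open Var76.LineBundle Var76.ZeroScheme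

variable {X : Scheme.{u}}

/-- Finitely many functions on `X_s` times a common denominator generate an ideal sheaf. -/
theorem exists_ideal [CompactSpace X] [QuasiSeparatedSpace X] {L : X.Modules}
    (hL : PicF.IsInvertible L) (s : Coh.structureModule X ⟶ L) {ι : Type} [Finite ι]
    (c : ι → Γ(X, CohB1.genLocus L s)) {η : X} (hη : η ∈ CohB1.genLocus L s) :
    ∃ I : X.IdealSheafData, ∀ x : X, ∃ W : X.affineOpens, x ∈ W.1 ∧
      ∃ (a : ι → Γ(X, W.1)) (δ : Γ(X, W.1)), I.ideal W = Ideal.span (Set.range a) ∧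
        ∀ hηW : η ∈ W.1, IsUnit (X.presheaf.germ W.1 η hηW δ) ∧
          ∀ l, X.presheaf.germ W.1 η hηW (a l) =
            X.presheaf.germ W.1 η hηW δ * X.presheaf.germ _ η hη (c l) := by
  classical
  cases nonempty_fintype ι
  have hO : Coh.IsQCoh (Coh.structureModule X) :=
    Mero90.isQCoh_of_isInvertible EGA73.isInvertible_structureModule
  choose n₀ hn₀ using fun l => Amp73.exists_tw_extend hL s hO
    (c l : Γ(Coh.structureModule X, CohB1.genLocus L s))
  let n := Finset.univ.sup n₀
  choose t' ht' using fun l => hn₀ l n (Finset.le_sup (Finset.mem_univ l))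
  let P := CohB1.tensorMod (Coh.structureModule X) (CohB1.tensorPow L n)
  have hP : PicF.IsInvertible P :=
    EGA73.isInvertible_tensorMod EGA73.isInvertible_structureModule (EGA73.isInvertible_tensorPow hL n)
  refine ⟨⨆ l, PicF2.zeroScheme P (Var76.Frames.ofSection P (t' l)), fun x => ?_⟩
  obtain ⟨W, hxW, -, e, he⟩ := Mero90.exists_affine_frame hL x ⊤ trivial
  obtain ⟨γ, hγ⟩ := Amp73.exists_coord s he
  let one : Γ(Coh.structureModule X, W.1) := (1 : Γ(X, W.1))
  have hone : IsFrame (Coh.structureModule X) W.1 one := Amp73.isFrame_epow he 0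
  have hfr : IsFrame P W.1 (Amp73.tm (Coh.structureModule X) _ one (Amp73.epow e n)) :=
    Amp73.isFrame_tm hone (Amp73.isFrame_epow he n)
  choose a ha using fun l => Amp73.exists_coord (Var76.Frames.ofSection P (t' l)) hfr
  refine ⟨W, hxW, a, γ ^ n, ?_, fun hηW => ?_⟩
  · rw [Scheme.IdealSheafData.ideal_iSup, iSup_apply]
    simp only [ideal_zeroScheme (Mero90.isFinLocFreeOfRank_of_isInvertible hP) W hfr (ha _)]
    rw [← Set.iUnion_singleton_eq_range, Ideal.span_iUnion]
  have hV : η ∈ CohB1.genLocus L s ⊓ W.1 := ⟨hη, hηW⟩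
  refine ⟨?_, fun l => ?_⟩
  · rw [map_pow]
    refine IsUnit.pow n ?_
    rw [← Scheme.mem_basicOpen, ← Amp73.genLocus_inf_eq_basicOpen s he hγ]
    exact hV
  set V := CohB1.genLocus L s ⊓ W.1
  have hle₁ : V ≤ CohB1.genLocus L s := inf_le_left
  have hle₂ : V ≤ W.1 := inf_le_right
  have key : fres hle₂ (a l) = fres hle₂ γ ^ n * fres hle₁ (c l) := by
    have hfrV := (hfr.res hle₂)
    refine (hfrV V le_rfl).1 ?_
    show fres hle₂ (a l) • res P le_rfl (res P hle₂ _) =
      (fres hle₂ γ ^ n * fres hle₁ (c l)) • res P le_rfl (res P hle₂ _)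
    rw [res_res]
    have h1 : fres hle₂ (a l) • res P hle₂ (Amp73.tm (Coh.structureModule X) _ one (Amp73.epow e n)) =
        res P hle₂ (a l • Amp73.tm (Coh.structureModule X) _ one (Amp73.epow e n)) :=
      (res_smul P hle₂ _ _).symm
    rw [h1, ha, Var76.Frames.val_ofSection, res_res,
      ← res_res P (le_top : CohB1.genLocus L s ≤ ⊤) hle₁, ht', Amp73.res_tw,
      Amp73.tw_of_coord s n (e := res L hle₂ e) (c := fres hle₂ γ)
        (by rw [← res_smul, hγ, res_val]), Amp73.res_tm, Amp73.res_epow, ← Amp73.tm_smul_left]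
    congr 1
    show fres hle₂ γ ^ n * fres hle₁ (c l) =
      (fres hle₂ γ ^ n * fres hle₁ (c l)) * fres hle₂ (1 : Γ(X, W.1))
    rw [show fres hle₂ (1 : Γ(X, W.1)) = 1 from map_one _, mul_one]
  have h2 := congrArg (X.presheaf.germ V η hV) key
  simp only [fres, map_mul, map_pow, TopCat.Presheaf.germ_res_apply] at h2
  simpa only [map_pow] using h2

end Groth.Agent.RegImm10.BlowDenom
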