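import Groth.Agent.RegImm10.BlowCharts
import Groth.Agent.RegImm10.BlowDenom
import Groth.Agent.Approx60.Segre

/-!
A projective birational morphism onto an integral scheme with an ample invertible module is a
blow-up.
-/

set_option autoImplicit false
set_option linter.style.haveILetI false
set_option backward.isDefEq.respectTransparency.types false
set_option backward.isDefEq.respectTransparency false

noncomputable section

universe u

open CategoryTheory CategoryTheory.Limits AlgebraicGeometry Opposite TopologicalSpace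

namespace Groth.Agent.RegImm10.BlowBirational

open Approx60

/-- The base ring of projective space. -/
abbrev ZU : Type u := ULift.{u} ℤ

variable {X Z : Scheme.{u}} {N : ℕ} (i : Z ⟶ CohB1.ProjSpaceOver N X)

/-- The map to projective space over the integers. -/
abbrev toProj : Z ⟶ CohB1.ProjSpace N ZU.{u} :=
  i ≫ pullback.fst (CohB1.ProjSpace.toSpec N ZU.{u}) (specULiftZIsTerminal.from X)

/-- The part of `Z` over an open of the base in a standard chart. -/
def part (W : X.Opens) (j : Fin (N + 1)) : Z.Opens :=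
  i ⁻¹ᵁ (CohB1.ProjSpaceOver.toBase N X ⁻¹ᵁ W ⊓
    pullback.fst (CohB1.ProjSpace.toSpec N ZU.{u}) (specULiftZIsTerminal.from X) ⁻¹ᵁ ProjCharts.U ZU.{u} N j)

theorem part_le_base (W : X.Opens) (j : Fin (N + 1)) :
    part i W j ≤ (i ≫ CohB1.ProjSpaceOver.toBase N X) ⁻¹ᵁ W := fun _ h => h.1

theorem part_le_chart (W : X.Opens) (j : Fin (N + 1)) :
    part i W j ≤ toProj i ⁻¹ᵁ ProjCharts.U ZU.{u} N j := fun _ h => h.2

theorem isAffineOpen_proj {W : X.Opens} (hW : IsAffineOpen W) (j : Fin (N + 1)) :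
    IsAffineOpen (CohB1.ProjSpaceOver.toBase N X ⁻¹ᵁ W ⊓
      pullback.fst (CohB1.ProjSpace.toSpec N ZU.{u}) (specULiftZIsTerminal.from X) ⁻¹ᵁ
        ProjCharts.U ZU.{u} N j) := by
  have H := (IsPullback.of_hasPullback (CohB1.ProjSpace.toSpec N ZU.{u})
    (specULiftZIsTerminal.from X)).flip
  have h := Scheme.Hom.isPullback_resLE H (US := ⊤) (UT := ProjCharts.U ZU.{u} N j) (UX := W)
    (UY := CohB1.ProjSpaceOver.toBase N X ⁻¹ᵁ W ⊓
      pullback.fst (CohB1.ProjSpace.toSpec N ZU.{u}) (specULiftZIsTerminal.from X) ⁻¹ᵁ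
        ProjCharts.U ZU.{u} N j) (by simp) (by simp) rfl
  have : IsAffine _ := ProjCharts.isAffineOpen_U ZU.{u} N j
  have : IsAffine _ := hW
  have : IsAffine ((⊤ : (Spec (CommRingCat.of ZU.{u})).Opens) : Scheme.{u}) := isAffineOpen_top _
  exact .of_isIso h.isoPullback.hom

variable [IsClosedImmersion i]

theorem isAffineOpen_part {W : X.Opens} (hW : IsAffineOpen W) (j : Fin (N + 1)) :
    IsAffineOpen (part i W j) := (isAffineOpen_proj hW j).preimage i

/-- The functions on a part are generated by the base and the ratios of coordinates. -/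
theorem generation {W : X.Opens} (hW : IsAffineOpen W) (j : Fin (N + 1)) (x : Γ(Z, part i W j)) :
    x ∈ Subring.closure
      (Set.range ((i ≫ CohB1.ProjSpaceOver.toBase N X).appLE W (part i W j) (part_le_base i W j)) ∪
        Set.range fun l => (toProj i).appLE (ProjCharts.U ZU.{u} N j) (part i W j) (part_le_chart i W j)
          (Segre.f ZU.{u} N j l)) := by
  set S := Subring.closure
      (Set.range ((i ≫ CohB1.ProjSpaceOver.toBase N X).appLE W (part i W j) (part_le_base i W j)) ∪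
        Set.range fun l => (toProj i).appLE (ProjCharts.U ZU.{u} N j) (part i W j) (part_le_chart i W j)
          (Segre.f ZU.{u} N j l)) with hS
  set Y : (CohB1.ProjSpaceOver N X).Opens := CohB1.ProjSpaceOver.toBase N X ⁻¹ᵁ W ⊓
    pullback.fst (CohB1.ProjSpace.toSpec N ZU.{u}) (specULiftZIsTerminal.from X) ⁻¹ᵁ
      ProjCharts.U ZU.{u} N j with hY
  obtain ⟨y, rfl⟩ := i.app_surjective Y (isAffineOpen_proj hW j) x
  have H := (IsPullback.of_hasPullback (CohB1.ProjSpace.toSpec N ZU.{u})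
    (specULiftZIsTerminal.from X)).flip
  have := isIso_pushoutSection_of_isAffineOpen H (US := ⊤) (UT := ProjCharts.U ZU.{u} N j) (UX := W)
    (UY := Y) (by simp) (by simp) rfl (isAffineOpen_top _)
    (ProjCharts.isAffineOpen_U ZU.{u} N j) hW
  refine Segre.eq_top_of_isPushout ((isIso_pushoutSection_iff H (by simp) (by simp) rfl).1 this)
    (S.comap (i.app Y).hom) ?_ ?_ y
  · intro b
    refine Subring.mem_comap.2 (Subring.subset_closure (Or.inl ⟨b, ?_⟩))
    show _ = i.app Y ((CohB1.ProjSpaceOver.toBase N X).appLE W Y _ b)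
    rw [Scheme.Hom.app_eq_appLE, ← CommRingCat.comp_apply, Scheme.Hom.appLE_comp_appLE]
    rfl
  · intro c
    obtain ⟨p, rfl⟩ := ProjCharts.exists_eval₂_eq ZU.{u} N j c
    let χ : MvPolynomial (Fin (N + 1)) ZU.{u} →+* Γ(Z, part i W j) :=
      (i.app Y).hom.comp
        (((pullback.fst (CohB1.ProjSpace.toSpec N ZU.{u}) (specULiftZIsTerminal.from X)).appLE
          (ProjCharts.U ZU.{u} N j) Y inf_le_right).hom.comp
          (MvPolynomial.eval₂Hom (ProjCharts.const (k := ZU.{u}) (CohB1.ProjSpace N ZU.{u}) _)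
            (Segre.f ZU.{u} N j)))
    show χ p ∈ S
    induction p using MvPolynomial.induction_on with
    | C r =>
      obtain ⟨r⟩ := r
      have e : (MvPolynomial.C (ULift.up r) : MvPolynomial (Fin (N + 1)) ZU.{u}) = (r : MvPolynomial _ ZU.{u}) := by
        rw [show (ULift.up r : ZU.{u}) = ((r : ℤ) : ZU.{u}) from rfl, map_intCast]
      rw [e, map_intCast]
      exact intCast_mem S r
    | add p q hp hq => rw [map_add]; exact add_mem hp hq
    | mul_X p l hp =>
      rw [map_mul]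
      refine mul_mem hp (Subring.subset_closure (Or.inr ⟨l, ?_⟩))
      refine Eq.trans ?_ (congrArg (fun z => i.app Y ((pullback.fst (CohB1.ProjSpace.toSpec N ZU.{u})
        (specULiftZIsTerminal.from X)).appLE (ProjCharts.U ZU.{u} N j) Y inf_le_right z))
        (MvPolynomial.eval₂Hom_X' _ (Segre.f ZU.{u} N j) l)).symm
      rw [Scheme.Hom.app_eq_appLE]
      exact congr($((Scheme.Hom.appLE_comp_appLE i (pullback.fst (CohB1.ProjSpace.toSpec N ZU.{u})
        (specULiftZIsTerminal.from X)) (ProjCharts.U ZU.{u} N j) Y (i ⁻¹ᵁ Y) inf_le_right le_rfl).symm).hom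
          (Segre.f ZU.{u} N j l))

variable [IsIntegral Z] [IsIntegral X]

theorem germ_eq_zero_iff {Y : Scheme.{u}} [IsIntegral Y] {U : Y.Opens} (x : Y) (hx : x ∈ U)
    (a : Γ(Y, U)) : Y.presheaf.germ U x hx a = 0 ↔ a = 0 :=
  map_eq_zero_iff _ (germ_injective_of_isIntegral (X := Y) x hx)

theorem subsingleton_of_notMem {O : Z.Opens} (h : genericPoint Z ∉ O) : Subsingleton Γ(Z, O) := by
  have hO : O = ⊥ := by
    rw [← SetLike.coe_set_eq, Opens.coe_bot, ← Set.not_nonempty_iff_eq_empty]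
    exact fun hne => h (((genericPoint_spec Z).mem_open_set_iff O.2).2 (by simpa using hne))
  subst hO
  exact CommRingCat.subsingleton_of_isTerminal Z.sheaf.isTerminalOfEmpty

/-- Projective birational morphisms are blow-ups. -/
theorem exists_isBlowUp [CompactSpace X] (M : X.Modules) (hM : CohB1.IsAmple M)
    (hbir : ∃ U : X.Opens, (U : Set X).Nonempty ∧
      IsIso ((i ≫ CohB1.ProjSpaceOver.toBase N X) ∣_ U)) :
    ∃ I : X.IdealSheafData, BlowUp.IsBlowUp (i ≫ CohB1.ProjSpaceOver.toBase N X) I := by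
  obtain ⟨U₀, hU₀, hiso⟩ := hbir
  set f := i ≫ CohB1.ProjSpaceOver.toBase N X with hf
  set q := toProj i with hq
  let ζ : Z := genericPoint Z
  have hζ : ∀ O : Z.Opens, (O : Set Z).Nonempty → ζ ∈ O := fun O hO =>
    ((genericPoint_spec Z).mem_open_set_iff O.2).2 (by simpa using hO)
  have hpre : ∀ V : X.Opens, (V : Set X).Nonempty → (V : Set X) ⊆ U₀ → (f ⁻¹ᵁ V : Set Z).Nonempty := by
    rintro V ⟨x, hx⟩ hV
    obtain ⟨z, hz⟩ := (asIso (f ∣_ U₀)).hom.homeomorph.surjective ⟨x, hV hx⟩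
    exact ⟨z.1, by
      have h : f z.1 = x := by
        have := congrArg Subtype.val hz
        simpa [morphismRestrict_base] using this
      show f z.1 ∈ V
      rw [h]
      exact hx⟩
  have hη : ∀ V : X.Opens, (V : Set X).Nonempty → f ζ ∈ V := fun V hV => by
    have hne := nonempty_preirreducible_inter V.2 U₀.2 hV hU₀
    exact (hζ (f ⁻¹ᵁ (V ⊓ U₀)) (hpre _ hne inf_le_right)).1
  haveI hstalk : IsIso (f.stalkMap ζ) :=
    ((MorphismProperty.isomorphisms CommRingCat.{u}).arrow_mk_iso_iff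
      (morphismRestrictStalkMap f U₀ ⟨ζ, hη U₀ hU₀⟩)).1
      (inferInstanceAs (IsIso ((f ∣_ U₀).stalkMap _)))
  have hsinj : Function.Injective (f.stalkMap ζ).hom :=
    (ConcreteCategory.bijective_of_isIso (f.stalkMap ζ)).1
  -- the ratios of coordinates at the generic point
  obtain ⟨j₀, hj₀⟩ := ProjCharts.exists_mem_U ZU.{u} N (q ζ)
  let T : ∀ (j : Fin (N + 1)), q ζ ∈ ProjCharts.U ZU.{u} N j → Fin (N + 1) → Z.presheaf.stalk ζ :=
    fun j hj l => q.stalkMap ζ ((CohB1.ProjSpace N ZU.{u}).presheaf.germ _ (q ζ) hj (Segre.f ZU.{u} N j l))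
  have hTmul : ∀ (j m l : Fin (N + 1)) (hj : q ζ ∈ ProjCharts.U ZU.{u} N j)
      (hm : q ζ ∈ ProjCharts.U ZU.{u} N m), T j hj l = T j hj m * T m hm l := fun j m l hj hm => by
    have h := congrArg (fun z => q.stalkMap ζ ((CohB1.ProjSpace N ZU.{u}).presheaf.germ
      (ProjCharts.U ZU.{u} N j ⊓ ProjCharts.U ZU.{u} N m) (q ζ) ⟨hj, hm⟩ z))
      (Segre.f_cocycle ZU.{u} N j m l inf_le_left inf_le_right)
    simp only [map_mul, TopCat.Presheaf.germ_res_apply] at h
    exact h
  have hTself : ∀ (j : Fin (N + 1)) (hj : q ζ ∈ ProjCharts.U ZU.{u} N j), T j hj j = 1 := fun j hj => by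
    simp only [T, Segre.f_self, map_one]
  have hTzero : ∀ (l : Fin (N + 1)), q ζ ∉ ProjCharts.U ZU.{u} N l → T j₀ hj₀ l = 0 := fun l hl => by
    by_contra hne
    have hu : IsUnit ((CohB1.ProjSpace N ZU.{u}).presheaf.germ _ (q ζ) hj₀ (Segre.f ZU.{u} N j₀ l)) := by
      refine isUnit_of_map_unit (q.stalkMap ζ).hom _ ?_
      exact (show IsUnit (T j₀ hj₀ l : Z.functionField) from isUnit_iff_ne_zero.2 hne)
    exact hl (Segre.basicOpen_f ZU.{u} N j₀ l ((Scheme.mem_basicOpen _ _ _ hj₀).2 hu))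
  -- regularity on a generating locus
  choose V hηV c hc using fun l : Fin (N + 1) =>
    X.presheaf.exists_germ_eq (inv (f.stalkMap ζ) (T j₀ hj₀ l))
  let V₀ : X.Opens := ⟨⋂ l, (V l : Set X), isOpen_iInter_of_finite fun l => (V l).2⟩
  obtain ⟨G, ⟨k, s, rfl⟩, hηG, hGle, -⟩ := Amp73.exists_affine_genSet_le hM (f ζ) V₀
    (Set.mem_iInter.2 hηV)
  have := Amp73.quasiSeparatedSpace_of_isAmple hM
  have hGV : ∀ l, CohB1.genLocus _ s ≤ V l := fun l x hx => Set.mem_iInter.1 (hGle hx) l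
  obtain ⟨I, hI⟩ := BlowDenom.exists_ideal (EGA73.isInvertible_tensorPow hM.1 (k + 1)) s
    (fun l => X.presheaf.map (homOfLE (hGV l)).op (c l)) hηG
  choose W hxW a δ hW hWη using hI
  refine ⟨I, BlowLocal.isBlowUp_of_cover (fun x : X => (W x).1)
    (top_le_iff.1 fun x _ => Opens.mem_iSup.2 ⟨x, hxW x⟩) f I fun x => ?_⟩
  have hηW : f ζ ∈ (W x).1 := hη _ ⟨x, hxW x⟩
  obtain ⟨hδ, ha⟩ := hWη x hηW
  let θ : Γ(X, (W x).1) →+* Z.presheaf.stalk ζ :=
    (f.stalkMap ζ).hom.comp (X.presheaf.germ (W x).1 (f ζ) hηW).hom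
  have hθinj : Function.Injective θ :=
    hsinj.comp (germ_injective_of_isIntegral (X := X) (f ζ) hηW)
  have hθa : ∀ l, θ (a x l) = θ (δ x) * T j₀ hj₀ l := fun l => by
    show f.stalkMap ζ _ = f.stalkMap ζ _ * _
    rw [ha, map_mul, TopCat.Presheaf.germ_res_apply, hc]
    congr 1
    exact IsIso.inv_hom_id_apply (f.stalkMap ζ) _
  have hδ0 : θ (δ x) ≠ 0 := fun h =>
    (hδ.map (f.stalkMap ζ).hom).ne_zero (M₀ := Z.functionField) h
  let O : Fin (N + 1) → Z.Opens := part i (W x).1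
  have hO : ∀ l, IsAffineOpen (O l) := isAffineOpen_part i (W x).2
  have hle : ∀ l, O l ≤ f ⁻¹ᵁ (W x).1 := part_le_base i (W x).1
  let φ : ∀ l, Γ(X, (W x).1) ⟶ Γ(Z, O l) := fun l => f.appLE (W x).1 (O l) (hle l)
  let t : ∀ l, Fin (N + 1) → Γ(Z, O l) := fun l m =>
    q.appLE (ProjCharts.U ZU.{u} N l) (O l) (part_le_chart i (W x).1 l) (Segre.f ZU.{u} N l m)
  have hφg : ∀ (l : Fin (N + 1)) (h : ζ ∈ O l) (r : Γ(X, (W x).1)),
      Z.presheaf.germ (O l) ζ h (φ l r) = θ r := fun l h r => by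
    show Z.presheaf.germ (O l) ζ h (Z.presheaf.map _ (f.app (W x).1 r)) = f.stalkMap ζ _
    rw [TopCat.Presheaf.germ_res_apply, Scheme.Hom.germ_stalkMap_apply]
  have htg : ∀ (l m : Fin (N + 1)) (h : ζ ∈ O l),
      Z.presheaf.germ (O l) ζ h (t l m) = T l (part_le_chart i (W x).1 l h) m := fun l m h => by
    show Z.presheaf.germ (O l) ζ h (Z.presheaf.map _ (q.app (ProjCharts.U ZU.{u} N l) _)) = q.stalkMap ζ _
    rw [TopCat.Presheaf.germ_res_apply, Scheme.Hom.germ_stalkMap_apply]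
  let j : ∀ l, Spec Γ(Z, O l) ⟶ (f ⁻¹ᵁ (W x).1).toScheme := fun l =>
    IsOpenImmersion.lift (f ⁻¹ᵁ (W x).1).ι (hO l).fromSpec (by
      rw [(hO l).range_fromSpec, Scheme.Opens.range_ι]; exact hle l)
  haveI : ∀ l, IsOpenImmersion (j l) := fun l =>
    @IsOpenImmersion.of_comp _ _ _ (j l) (f ⁻¹ᵁ (W x).1).ι _
      (by rw [IsOpenImmersion.lift_fac]; infer_instance)
  have hjι : ∀ l, j l ≫ (f ⁻¹ᵁ (W x).1).ι = (hO l).fromSpec := fun l =>
    IsOpenImmersion.lift_fac _ _ _
  have hjapp : ∀ l p, (f ⁻¹ᵁ (W x).1).ι (j l p) = (hO l).fromSpec p := fun l p => by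
    rw [← Scheme.Hom.comp_apply, hjι]
  have hmemj : ∀ l (z : (f ⁻¹ᵁ (W x).1).toScheme), q z.1 ∈ ProjCharts.U ZU.{u} N l →
      z ∈ Set.range (j l) := fun l z hz => by
    obtain ⟨p, hp⟩ : z.1 ∈ Set.range (hO l).fromSpec := by
      rw [(hO l).range_fromSpec]; exact ⟨z.2, hz⟩
    exact ⟨p, (f ⁻¹ᵁ (W x).1).ι.isOpenEmbedding.injective ((hjapp l p).trans hp)⟩
  have hg : ∀ l, j l ≫ (f ∣_ (W x).1) ≫ (W x).2.isoSpec.hom = Spec.map (φ l) := fun l => by
    rw [← cancel_mono (W x).2.fromSpec]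
    simp only [Category.assoc, (W x).2.isoSpec_hom_fromSpec, morphismRestrict_ι]
    rw [← Category.assoc, hjι, ← (W x).2.SpecMap_appLE_fromSpec f (hO l) (hle l)]
  have main : BlowUp.IsBlowUp ((f ∣_ (W x).1) ≫ (W x).2.isoSpec.hom)
      (FSch.idealSpec Γ(X, (W x).1) (Ideal.span (Set.range (a x)))) := by
    refine BlowCharts.isBlowUp_of_charts (B := fun l => Γ(Z, O l)) (j := j) (φ := φ) (t := t) hg ?_ ?_ ?_ ?_ ?_ ?_
    · intro z
      obtain ⟨l, hl⟩ := ProjCharts.exists_mem_U ZU.{u} N (q z.1)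
      exact ⟨l, hmemj l z hl⟩
    · intro l
      by_cases h : ζ ∈ O l
      · haveI : Nonempty (O l).toScheme := ⟨⟨ζ, h⟩⟩
        refine mem_nonZeroDivisors_of_ne_zero fun h0 => ?_
        have h1 := congrArg (Z.presheaf.germ (O l) ζ h) h0
        rw [hφg, hθa, map_zero] at h1
        have h2 := part_le_chart i (W x).1 l h
        have h3 : T j₀ hj₀ l * T l h2 j₀ = 1 := by rw [← hTmul, hTself]
        exact hδ0 (by rw [← mul_one (θ (δ x)), ← h3, ← mul_assoc, h1, zero_mul])
      · haveI := subsingleton_of_notMem h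
        exact mem_nonZeroDivisors_iff_right.2 fun y _ => Subsingleton.elim _ _
    · intro l m
      by_cases h : ζ ∈ O l
      · refine germ_injective_of_isIntegral (X := Z) ζ h ?_
        rw [map_mul, hφg, hφg, htg, hθa, hθa,
          hTmul j₀ l m hj₀ (part_le_chart i (W x).1 l h)]
        ring
      · haveI := subsingleton_of_notMem h
        exact Subsingleton.elim _ _
    · intro l m p hp
      refine hmemj m _ ?_
      have h1 : (hO l).fromSpec p ∈ Z.basicOpen (t l m) := by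
        show p ∈ (hO l).fromSpec ⁻¹ᵁ Z.basicOpen (t l m)
        rw [(hO l).fromSpec_preimage_basicOpen]
        exact hp
      rw [← hjapp] at h1
      rw [show t l m = Z.presheaf.map _ (q.app _ (Segre.f ZU.{u} N l m)) from rfl,
        Scheme.basicOpen_res, ← Scheme.preimage_basicOpen] at h1
      exact Segre.basicOpen_f ZU.{u} N l m h1.2
    · exact fun l y => generation i (W x).2 l y
    · intro l r hr
      by_cases h : ζ ∈ O l
      · have h1 := congrArg (Z.presheaf.germ (O l) ζ h) hr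
        rw [hφg, map_zero] at h1
        rw [(map_eq_zero_iff θ hθinj).1 h1, zero_mul]
      · have hl : q ζ ∉ ProjCharts.U ZU.{u} N l := fun hl => h ⟨hηW, hl⟩
        have h1 : θ (a x l) = 0 := by rw [hθa, hTzero l hl, mul_zero]
        rw [(map_eq_zero_iff θ hθinj).1 h1, mul_zero]
  rw [← hW x, BlowModel.idealSpec_comap] at main
  have e : I.comap (W x).2.fromSpec = (I.comap (W x).1.ι).comap (W x).2.isoSpec.inv := by
    rw [← Scheme.IdealSheafData.comap_comp]
    rfl
  rw [e] at main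
  have h2 := Div89.isBlowUp_comp_iso (W x).2.isoSpec.symm _ _ main
  simpa using h2

end Groth.Agent.RegImm10.BlowBirational
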