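import Groth.Agent.RegImm10.StrictRegular
import Groth.Agent.FBlow13.Exist

/-!
Recognition of a blow-up of an affine scheme from a cover by its charts.
-/

set_option autoImplicit false
set_option linter.style.haveILetI false
set_option backward.isDefEq.respectTransparency.types false

noncomputable section

universe u

open CategoryTheory CategoryTheory.Limits AlgebraicGeometry

namespace Groth.Agent.RegImm10.BlowCharts

theorem comap_specMap {A : Type u} [CommRing A] {Q : CommRingCat.{u}}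
    (φ : CommRingCat.of A ⟶ Q) (K : Ideal A) :
    (FSch.idealSpec A K).comap (Spec.map φ) = FSch.idealSpec Q (K.map φ.hom) := by
  refine Scheme.IdealSheafData.ext_of_isAffine ?_
  rw [MP99.ideal_comap_top_of_isAffine, FBlow13.idealSpec_ideal_top, FBlow13.idealSpec_ideal_top,
    Ideal.map_map, ← CommRingCat.hom_comp, ← Scheme.ΓSpecIso_inv_naturality, CommRingCat.hom_comp,
    ← Ideal.map_map]
  rfl

theorem le_of_idealSpec_le {A : Type u} [CommRing A] {K L : Ideal A}
    (h : FSch.idealSpec A K ≤ FSch.idealSpec A L) : K ≤ L := by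
  have h1 := h ⟨⊤, isAffineOpen_top _⟩
  rw [FBlow13.idealSpec_ideal_top, FBlow13.idealSpec_ideal_top] at h1
  have hb : Function.Bijective (Scheme.ΓSpecIso (CommRingCat.of A)).inv.hom :=
    ConcreteCategory.bijective_of_isIso _
  have h2 := Ideal.comap_mono (f := (Scheme.ΓSpecIso (CommRingCat.of A)).inv.hom) h1
  rwa [Ideal.comap_map_of_bijective _ hb, Ideal.comap_map_of_bijective _ hb] at h2

section Core

variable {A : Type u} [CommRing A] {ι : Type} {a : ι → A} {Z : Scheme.{u}}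
  {g : Z ⟶ Spec (CommRingCat.of A)} {B : ι → CommRingCat.{u}} {j : ∀ l, Spec (B l) ⟶ Z}
  [∀ l, IsOpenImmersion (j l)] {φ : ∀ l, CommRingCat.of A ⟶ B l} {t : ∀ l, ι → B l}

theorem map_span_eq (h2 : ∀ l m, φ l (a m) = t l m * φ l (a l)) (l : ι) :
    (Ideal.span (Set.range a)).map (φ l).hom = Ideal.span {φ l (a l)} := by
  rw [Ideal.map_span]
  refine le_antisymm (Ideal.span_le.2 ?_) (Ideal.span_le.2 ?_)
  · rintro _ ⟨_, ⟨m, rfl⟩, rfl⟩
    exact Ideal.mem_span_singleton'.2 ⟨_, (h2 l m).symm⟩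
  · rintro _ rfl
    exact Ideal.subset_span ⟨_, ⟨l, rfl⟩, rfl⟩

theorem isEffCartier_comap (hj : ∀ l, j l ≫ g = Spec.map (φ l)) (hcov : ∀ z, ∃ l, z ∈ Set.range (j l))
    (h1 : ∀ l, φ l (a l) ∈ nonZeroDivisors (B l))
    (h2 : ∀ l m, φ l (a m) = t l m * φ l (a l)) :
    BlowUp.IsEffCartierIdeal ((FSch.idealSpec A (Ideal.span (Set.range a))).comap g) := by
  refine MP99.isEffCartier_of_local fun z => ?_
  obtain ⟨l, hl⟩ := hcov z
  refine ⟨(j l).opensRange, hl, ?_⟩
  rw [← (j l).isoOpensRange_inv_comp, Scheme.IdealSheafData.comap_comp,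
    ← Scheme.IdealSheafData.comap_comp _ (j l) g, hj, comap_specMap, map_span_eq h2]
  exact Div89.isEffCartier_comap_of_flat _ (StrictRegular.isEffCartier_idealSpec_span (h1 l))

/-- A scheme covered by charts of the blow-up algebra shape is the blow-up. -/
theorem isBlowUp_of_charts (hj : ∀ l, j l ≫ g = Spec.map (φ l))
    (hcov : ∀ z, ∃ l, z ∈ Set.range (j l))
    (h1 : ∀ l, φ l (a l) ∈ nonZeroDivisors (B l))
    (h2 : ∀ l m, φ l (a m) = t l m * φ l (a l))
    (h3 : ∀ l m, ∀ p ∈ PrimeSpectrum.basicOpen (t l m), j l p ∈ Set.range (j m))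
    (h4 : ∀ l x, x ∈ Subring.closure (Set.range (φ l) ∪ Set.range (t l)))
    (h5 : ∀ l r, φ l r = 0 → r * a l = 0) :
    BlowUp.IsBlowUp g (FSch.idealSpec A (Ideal.span (Set.range a))) := by
  set 𝔞 := Ideal.span (Set.range a) with h𝔞
  have ha : ∀ m, a m ∈ 𝔞 := fun m => Ideal.subset_span ⟨m, rfl⟩
  obtain ⟨P, π, hπ⟩ := FBlow13.exists_isBlowUp_spec (A := A) (𝔞 := 𝔞)
  obtain ⟨k, hk, -⟩ := hπ.2 Z g (isEffCartier_comap hj hcov h1 h2)
  have hjk : ∀ l, (j l ≫ k) ≫ π = Spec.map (φ l) := fun l => by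
    rw [Category.assoc, hk, hj]
  have hpre : ∀ m, ((k ⁻¹ᵁ FBlow13.chartOpen π 𝔞 (a m) : Z.Opens) : Set Z) = Set.range (j m) := by
    intro m
    refine Set.Subset.antisymm (fun z hz => ?_) ?_
    · obtain ⟨l, p, rfl⟩ := hcov z
      refine h3 l m p ?_
      have hp : p ∈ ((j l ≫ k) ⁻¹ᵁ FBlow13.chartOpen π 𝔞 (a m)) := hz
      obtain ⟨_, ⟨q, rfl⟩, hpq, hq⟩ :=
        PrimeSpectrum.isTopologicalBasis_basic_opens.exists_subset_of_mem_open hp
          ((j l ≫ k) ⁻¹ᵁ FBlow13.chartOpen π 𝔞 (a m)).2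
      let ρ : B l ⟶ CommRingCat.of (Localization.Away q) :=
        CommRingCat.ofHom (algebraMap (B l) (Localization.Away q))
      have hρ : Set.range (Spec.map ρ) =
          ((PrimeSpectrum.basicOpen q : TopologicalSpace.Opens (PrimeSpectrum (B l))) :
            Set (PrimeSpectrum (B l))) :=
        PrimeSpectrum.localization_away_comap_range (Localization.Away q) q
      have hsub : Set.range (Spec.map ρ ≫ j l ≫ k) ⊆
          Set.range (FBlow13.chartOpen π 𝔞 (a m)).ι := by
        rintro _ ⟨w, rfl⟩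
        rw [Scheme.Opens.range_ι]
        exact hq (hρ.le ⟨w, rfl⟩)
      have e : IsOpenImmersion.lift _ _ hsub ≫ (FBlow13.chartOpen π 𝔞 (a m)).ι ≫ π =
          Spec.map (φ l ≫ ρ) := by
        rw [IsOpenImmersion.lift_fac_assoc, Category.assoc, hjk, Spec.map_comp]
      have hle := Scheme.IdealSheafData.comap_mono (IsOpenImmersion.lift _ _ hsub)
        (FBlow13.chartPred_chartOpen π hπ.1 (ha m)).1
      beta_reduce at hle
      rw [← Scheme.IdealSheafData.comap_comp, ← Scheme.IdealSheafData.comap_comp, e, comap_specMap,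
        comap_specMap, Ideal.map_span _ {a m}, Set.image_singleton] at hle
      obtain ⟨c, hc⟩ := Ideal.mem_span_singleton'.1
        (le_of_idealSpec_le hle (Ideal.mem_map_of_mem _ (ha l)))
      have hnz : ρ (φ l (a l)) ∈ nonZeroDivisors (Localization.Away q) :=
        IsLocalization.map_nonZeroDivisors_le (Submonoid.powers q) (Localization.Away q)
          (Submonoid.mem_map_of_mem _ (h1 l))
      have hu : c * ρ (t l m) = 1 := by
        refine (mul_cancel_right_mem_nonZeroDivisors hnz).1 ?_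
        rw [one_mul, mul_assoc, ← map_mul, ← h2]
        exact hc
      obtain ⟨w, hw⟩ : p ∈ Set.range (Spec.map ρ) := hρ.ge hpq
      rw [← hw]
      show ρ (t l m) ∉ (w : PrimeSpectrum (Localization.Away q)).asIdeal
      exact fun hmem => (w : PrimeSpectrum (Localization.Away q)).isPrime.ne_top
        ((Ideal.eq_top_iff_one _).2 (hu ▸ Ideal.mul_mem_left _ c hmem))
    · rintro _ ⟨p, rfl⟩
      refine FBlow13.range_subset_chartOpen π hπ.1 (ha m) (j m ≫ k) ?_ p
      have e : (Ideal.span {a m}).map (φ m).hom = 𝔞.map (φ m).hom := by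
        rw [map_span_eq h2, Ideal.map_span, Set.image_singleton]
      refine ⟨?_, ?_⟩
      · rw [hjk, comap_specMap, comap_specMap, e]
      · rw [hjk, comap_specMap, Ideal.map_span, Set.image_singleton]
        exact StrictRegular.isEffCartier_idealSpec_span (h1 m)
  have hiso : ∀ m, IsIso (k ∣_ FBlow13.chartOpen π 𝔞 (a m)) := by
    intro m
    set V := FBlow13.chartOpen π 𝔞 (a m) with hV
    let C := CommRingCat.of (BlowUp.affineAlgebra A 𝔞 (a m))
    obtain ⟨e, he⟩ := FBlow13.exists_iso_chartOpen π hπ (ha m)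
    have hr : Set.range (j m) = Set.range (k ⁻¹ᵁ V).ι := by
      rw [Scheme.Opens.range_ι, ← hpre m]
    let i := IsOpenImmersion.isoOfRangeEq (j m) (k ⁻¹ᵁ V).ι hr
    obtain ⟨χ, hχ⟩ := Spec.map_surjective (i.hom ≫ (k ∣_ V) ≫ e.inv : Spec (B m) ⟶ Spec C)
    have hχφ : ∀ r, χ (algebraMap A (BlowUp.affineAlgebra A 𝔞 (a m)) r) = φ m r := by
      have h : Spec.map χ ≫ FBlow13.chartMor A 𝔞 (a m) = Spec.map (φ m) := by
        rw [hχ, ← he]
        simp only [Category.assoc, Iso.inv_hom_id_assoc]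
        rw [show (k ∣_ V) ≫ (FBlow13.chartOpen π 𝔞 (a m)).ι ≫ π = (k ⁻¹ᵁ V).ι ≫ k ≫ π from
          morphismRestrict_ι_assoc k V π, IsOpenImmersion.isoOfRangeEq_hom_fac_assoc, hk, hj]
      rw [FBlow13.chartMor, ← Spec.map_comp] at h
      exact fun r => congr($(Spec.map_injective h).hom r)
    have hbij : Function.Bijective χ.hom := by
      refine ⟨(injective_iff_map_eq_zero _).2 fun y hy => ?_, fun x => ?_⟩
      · obtain ⟨⟨r, ⟨_, n, rfl⟩⟩, hr'⟩ :=
          IsLocalization.surj (Submonoid.powers (a m)) (y : Localization.Away (a m))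
        have h0 : y * algebraMap A (BlowUp.affineAlgebra A 𝔞 (a m)) (a m ^ n) =
            algebraMap A (BlowUp.affineAlgebra A 𝔞 (a m)) r := Subtype.ext hr'
        have hφr : φ m r = 0 := by
          rw [← hχφ, ← h0]
          show χ.hom (y * _) = 0
          rw [map_mul, hy, zero_mul]
        have hr0 := h5 m r hφr
        refine (mul_left_mem_nonZeroDivisors_eq_zero_iff
          (pow_mem (FBlow13.affineAlgebra_nzd (𝔞 := 𝔞) (a m)) (n + 1))).1 ?_
        rw [mul_comm, pow_succ, ← mul_assoc, ← map_pow, h0, ← map_mul, hr0, map_zero]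
      · induction h4 m x using Subring.closure_induction with
        | mem x hx =>
          rcases hx with ⟨r, rfl⟩ | ⟨l, rfl⟩
          · exact ⟨_, hχφ r⟩
          · obtain ⟨c, hc⟩ := FBlow13.affineAlgebra_div (a := a m) (ha l)
            refine ⟨c, (mul_cancel_right_mem_nonZeroDivisors (h1 m)).1 ?_⟩
            rw [← h2, ← hχφ, ← hχφ, hc]
            exact (map_mul χ.hom _ _).symm
        | zero => exact ⟨0, map_zero _⟩
        | one => exact ⟨1, map_one _⟩
        | add x y _ _ hx hy =>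
          obtain ⟨c, rfl⟩ := hx
          obtain ⟨d, rfl⟩ := hy
          exact ⟨c + d, map_add _ _ _⟩
        | neg x _ hx =>
          obtain ⟨c, rfl⟩ := hx
          exact ⟨-c, map_neg _ _⟩
        | mul x y _ _ hx hy =>
          obtain ⟨c, rfl⟩ := hx
          obtain ⟨d, rfl⟩ := hy
          exact ⟨c * d, map_mul _ _ _⟩
    haveI : IsIso χ := (ConcreteCategory.isIso_iff_bijective χ).2 hbij
    haveI : IsIso (i.hom ≫ (k ∣_ V) ≫ e.inv) := hχ ▸ inferInstance
    haveI : IsIso ((k ∣_ V) ≫ e.inv) := IsIso.of_isIso_comp_left i.hom _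
    exact IsIso.of_isIso_comp_right (k ∣_ V) e.inv
  have hcov' : ⨆ m : ι, FBlow13.chartOpen π 𝔞 (a m) = ⊤ := by
    refine top_le_iff.1 fun p _ => ?_
    obtain ⟨_, ⟨m, rfl⟩, hm⟩ := FBlow13.exists_mem_chartOpen_of_span π hπ.1 h𝔞.symm p
    exact TopologicalSpace.Opens.mem_iSup.2 ⟨m, hm⟩
  haveI : IsIso k :=
    IsZariskiLocalAtTarget.of_iSup_eq_top (P := MorphismProperty.isomorphisms Scheme) _ hcov' hiso
  rw [← hk]
  exact BlowLocal.isBlowUp_iso_comp (asIso k) hπ

end Core

end Groth.Agent.RegImm10.BlowCharts
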