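import Groth.Agent.Om3.EulerLift

/-!
The standard affine charts of a projective bundle.
-/

set_option autoImplicit false
set_option backward.isDefEq.respectTransparency.types false
set_option linter.style.haveILetI false

noncomputable section

universe u

open CategoryTheory CategoryTheory.Limits AlgebraicGeometry TopologicalSpace Opposite

namespace Groth.Agent.RegImm10.BundleChart

open Groth.Agent QC70 Om3.EulerLift

variable {S P : Scheme.{u}} {π : P ⟶ S} {F : S.Modules} [F.IsQuasicoherent] {O1 : P.Modules}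
  {q : (Scheme.Modules.pullback π).obj F ⟶ O1}

theorem isQuasicoherent_O1 (hPB : KRR.IsProjBundle π F O1 q) : O1.IsQuasicoherent :=
  Props58.LocFree.isQuasicoherent_of_isFinLocFree fun x =>
    let ⟨V, hV, i⟩ := hPB.invertible x
    ⟨V, 1, hV, i⟩

omit [F.IsQuasicoherent] in
/-- Two maps from an affine scheme classifying the same quotient agree. -/
theorem classify_unique (hPB : KRR.IsProjBundle π F O1 q) {C : CommRingCat.{u}} {h h' : Spec C ⟶ P}
    {g : Spec C ⟶ S} (hg : h ≫ π = g) (hg' : h' ≫ π = g)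
    {s : (Scheme.Modules.pullback g).obj F ⟶ Coh.structureModule _} (hs : Epi s)
    (h1 : ∃ e' : (Scheme.Modules.pullback h).obj O1 ≅ _, comp q h hg ≫ e'.hom = s)
    (h2 : ∃ e' : (Scheme.Modules.pullback h').obj O1 ≅ _, comp q h' hg' ≫ e'.hom = s) : h = h' := by
  obtain ⟨e₁, he₁⟩ := h1
  obtain ⟨e₂, he₂⟩ := h2
  exact (hPB.univ _ g _ (isFinLocFreeOfRank_one_structureModule _) s hs).unique
    ⟨hg, e₁, by rw [← he₁]; simp only [comp, Category.assoc]⟩
    ⟨hg', e₂, by rw [← he₂]; simp only [comp, Category.assoc]⟩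

section

variable {U : S.Opens} (hU : IsAffineOpen U) {t : ℕ} (e : Module.Basis (Fin (t + 1)) Γ(S, U) Γ(F, U))

/-- The affine space over `U`. -/
abbrev Aff (U : S.Opens) (t : ℕ) : CommRingCat.{u} := CommRingCat.of (MvPolynomial (Fin t) Γ(S, U))

/-- The structure map of the affine space. -/
abbrev strRing : Γ(S, U) ⟶ Aff U t := CommRingCat.ofHom MvPolynomial.C

/-- The affine space to the base. -/
abbrev affStr : Spec (Aff U t) ⟶ S := Spec.map (strRing (U := U) (t := t)) ≫ hU.fromSpec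

/-- The row `(1, x₁, …, x_t)`. -/
def row (k : Fin (t + 1)) : MvPolynomial (Fin t) Γ(S, U) :=
  Fin.cases 1 MvPolynomial.X k

theorem top_le_affStr {C : CommRingCat.{u}} (τ : Γ(S, U) ⟶ C) :
    (⊤ : (Spec C).Opens) ≤ (Spec.map τ ≫ hU.fromSpec) ⁻¹ᵁ U :=
  (Spec.map τ).preimage_mono hU.fromSpec_preimage_self.ge

/-- `ψ` classifies the row `(1, x₁, …, x_t)`. -/
def IsStdChart (q : (Scheme.Modules.pullback π).obj F ⟶ O1) (ψ : Spec (Aff U t) ⟶ P) : Prop :=
  ∃ (hg : ψ ≫ π = affStr hU) (e₀ : (Scheme.Modules.pullback ψ).obj O1 ≅ Coh.structureModule _),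
    ∀ k, (comp q ψ hg ≫ e₀.hom).app ⊤ (pl (affStr hU) F (top_le_affStr hU _) (e k)) =
      ((Scheme.ΓSpecIso _).inv (row k) : Γ(Coh.structureModule (Spec (Aff U t)), ⊤))

theorem exists_isStdChart (hPB : KRR.IsProjBundle π F O1 q) : ∃ ψ, IsStdChart (t := t) hU e q ψ := by
  obtain ⟨s, hs, hsv⟩ := exists_quot hU e (isAffineOpen_top _) (top_le_affStr hU (strRing (U := U) (t := t)))
    (fun k => (Scheme.ΓSpecIso (Aff U t)).inv (row k))
    (fun k => (Scheme.ΓSpecIso (Aff U t)).inv (if k = 0 then 1 else 0)) (by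
      rw [Finset.sum_eq_single (0 : Fin (t + 1)) (fun b _ hb => by rw [if_neg hb, map_zero, zero_mul])
        (fun h => absurd (Finset.mem_univ _) h), if_pos rfl, map_one, one_mul]
      exact map_one _)
  obtain ⟨ψ, ⟨hg, e₀, he₀⟩, -⟩ :=
    hPB.univ _ (affStr hU) _ (isFinLocFreeOfRank_one_structureModule _) s hs
  exact ⟨ψ, hg, e₀, fun k => by
    rw [← hsv k, ← he₀]
    simp only [comp, Category.assoc]⟩

/-- A frame chart normalized at the zeroth coordinate. -/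
structure NChart (π : P ⟶ S) (F : S.Modules) (q : (Scheme.Modules.pullback π).obj F ⟶ O1)
    (e : Module.Basis (Fin (t + 1)) Γ(S, U) Γ(F, U)) where
  /-- the open of the bundle -/
  A : P.Opens
  hA : IsAffineOpen A
  hAU : A ≤ π ⁻¹ᵁ U
  /-- the frame -/
  γ : Γ(O1, A)
  hγ : Var76.LineBundle.IsFrame O1 A γ
  /-- the coordinates -/
  a : Fin (t + 1) → Γ(P, A)
  ha : ∀ k, a k • γ = q.app A (res _ hAU (Amp73.pullS π F U (e k)))
  ha0 : a 0 = 1

omit [F.IsQuasicoherent] in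
theorem exists_coord (hPB : KRR.IsProjBundle π F O1 q) {p : P} (hp : π p ∈ U) :
    ∃ (A : P.Opens) (_ : IsAffineOpen A) (hAU : A ≤ π ⁻¹ᵁ U) (γ : Γ(O1, A))
      (_ : Var76.LineBundle.IsFrame O1 A γ) (a : Fin (t + 1) → Γ(P, A)),
      p ∈ A ∧ ∀ k, a k • γ = q.app A (res _ hAU (Amp73.pullS π F U (e k))) := by
  obtain ⟨A₀, hpA, γ₀, hγ₀⟩ := Var76.LineBundle.exists_frame hPB.invertible p
  obtain ⟨A, hA, hpA', hAle⟩ := exists_isAffineOpen_mem_and_subset (show p ∈ A₀ ⊓ π ⁻¹ᵁ U from ⟨hpA, hp⟩)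
  have h1 : A ≤ A₀ := fun x hx => (hAle hx).1
  have h2 : A ≤ π ⁻¹ᵁ U := fun x hx => (hAle hx).2
  have hγ := hγ₀.res h1
  choose a ha using fun k => (hγ A le_rfl).2 (q.app A (res _ h2 (Amp73.pullS π F U (e k))))
  refine ⟨A, hA, h2, _, hγ, a, hpA', fun k => Eq.trans ?_ (ha k)⟩
  show _ • _ = _ • res O1 le_rfl _
  rw [res_self]

omit [F.IsQuasicoherent] in
/-- Where the zeroth coordinate is invertible there is a normalized chart. -/
theorem exists_nChart {A : P.Opens} (hA : IsAffineOpen A) {hAU : A ≤ π ⁻¹ᵁ U} {γ : Γ(O1, A)}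
    (hγ : Var76.LineBundle.IsFrame O1 A γ) (a : Fin (t + 1) → Γ(P, A))
    (ha : ∀ k, a k • γ = q.app A (res _ hAU (Amp73.pullS π F U (e k)))) :
    ∃ N : NChart π F q e, N.A = P.basicOpen (a 0) := by
  let B := P.basicOpen (a 0)
  have hBA : B ≤ A := P.basicOpen_le _
  let ρ := (P.presheaf.map (homOfLE hBA).op).hom
  have hu : IsUnit (ρ (a 0)) := RingedSpace.isUnit_res_basicOpen _ (a 0)
  have hB := hγ.res hBA
  refine ⟨⟨B, hA.basicOpen _, hBA.trans hAU, ρ (a 0) • res O1 hBA γ, fun V hV => ?_,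
    fun k => ρ (a k) * ↑hu.unit⁻¹, fun k => ?_, hu.mul_val_inv⟩, rfl⟩
  · have hv : IsUnit (P.presheaf.map (homOfLE hV).op (ρ (a 0))) := hu.map (P.presheaf.map (homOfLE hV).op).hom
    have hmul : Function.Bijective fun x : Γ(P, V) => x * P.presheaf.map (homOfLE hV).op (ρ (a 0)) :=
      hv.unit.mulRight_bijective
    convert (hB V hV).comp hmul using 1
    funext x
    show x • res O1 hV (ρ (a 0) • res O1 hBA γ) = _
    rw [res_smul, ← mul_smul]
    rfl
  · rw [smul_smul, mul_assoc, hu.val_inv_mul, mul_one]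
    have h1 := congrArg (res O1 hBA) (ha k)
    rw [res_smul, ← QC70.app_res, res_res] at h1
    exact h1

variable (hPB : KRR.IsProjBundle π F O1 q) {ψ : Spec (Aff U t) ⟶ P} (hψ : IsStdChart hU e q ψ)

variable {e} in
/-- The coordinates of a normalized chart. -/
def coordMap (N : NChart π F q e) : Aff U t ⟶ Γ(P, N.A) :=
  CommRingCat.ofHom (MvPolynomial.eval₂Hom (π.appLE U N.A N.hAU).hom fun j => N.a j.succ)

omit [F.IsQuasicoherent] in
theorem coordMap_row (N : NChart π F q e) (k : Fin (t + 1)) : coordMap N (row k) = N.a k := by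
  induction k using Fin.cases with
  | zero =>
    show MvPolynomial.eval₂Hom _ _ 1 = _
    rw [map_one, N.ha0]
  | succ j => exact MvPolynomial.eval₂Hom_X' _ _ j

omit [F.IsQuasicoherent] in
theorem strRing_coordMap (N : NChart π F q e) :
    strRing ≫ coordMap N = π.appLE U N.A N.hAU :=
  CommRingCat.hom_ext (RingHom.ext fun x => MvPolynomial.eval₂Hom_C _ _ x)

include hψ in
/-- The row of a point of the affine space. -/
theorem exists_row_point {C : CommRingCat.{u}} (τ : Aff U t ⟶ C) :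
    ∃ (hg : (Spec.map τ ≫ ψ) ≫ π = Spec.map (strRing ≫ τ) ≫ hU.fromSpec)
      (e' : (Scheme.Modules.pullback (Spec.map τ ≫ ψ)).obj O1 ≅ Coh.structureModule _),
      ∀ k, (comp q (Spec.map τ ≫ ψ) hg ≫ e'.hom).app ⊤
          (pl (Spec.map (strRing ≫ τ) ≫ hU.fromSpec) F (top_le_affStr hU _) (e k)) =
        ((Scheme.ΓSpecIso C).inv (τ (row k)) : Γ(Coh.structureModule (Spec C), ⊤)) := by
  obtain ⟨hg0, e₀, hv⟩ := hψ
  have hg : (Spec.map τ ≫ ψ) ≫ π = Spec.map (strRing ≫ τ) ≫ hU.fromSpec := by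
    rw [Category.assoc, hg0, Spec.map_comp, Category.assoc]
  obtain ⟨e', he'⟩ := comp_natural e (Spec.map τ) ψ hg0 (top_le_affStr hU _) hg (top_le_affStr hU _) e₀
  refine ⟨hg, e', fun k => (he' k).trans ?_⟩
  rw [hv k]
  exact congr($((Scheme.ΓSpecIso_inv_naturality τ).symm) (row k))

include hPB hψ in
/-- A normalized chart goes through the affine space. -/
theorem coordMap_fac (N : NChart π F q e) : Spec.map (coordMap N) ≫ ψ = N.hA.fromSpec := by
  obtain ⟨hg, e', he'⟩ := exists_row_point hU e hψ (coordMap N)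
  have h0 : N.hA.fromSpec = Spec.map (𝟙 _) ≫ N.hA.fromSpec := by simp
  have hgg : (Spec.map (𝟙 _) ≫ N.hA.fromSpec) ≫ π = Spec.map (strRing ≫ coordMap N) ≫ hU.fromSpec := by
    rw [specMap_fromSpec_comp hU N.hA N.hAU, strRing_coordMap, Category.comp_id]
  rw [h0]
  have hq := hPB.epi
  let s := comp q _ hg ≫ e'.hom
  have hs : Epi s := inferInstanceAs (Epi (_ ≫ e'.hom))
  refine classify_unique hPB hg hgg hs ⟨e', rfl⟩ ?_
  refine (exists_iso_iff hU e N.hA N.hAU N.hγ N.a N.ha (isQuasicoherent_O1 hPB) (isAffineOpen_top _) _ hgg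
    (top_le_affStr hU _) (specMap_fromSpec_le N.hA _) s _ he').2 ⟨1, isUnit_one, fun k => ?_⟩
  rw [mul_one, specMap_fromSpec_appLE, coordMap_row]
  rfl

include hPB hψ in
/-- Coordinates of a point of the affine space over a chart. -/
theorem row_eq {C : CommRingCat.{u}} (τ : Aff U t ⟶ C) {A : P.Opens} (hA : IsAffineOpen A)
    {hAU : A ≤ π ⁻¹ᵁ U} {γ : Γ(O1, A)} (hγ : Var76.LineBundle.IsFrame O1 A γ) (a : Fin (t + 1) → Γ(P, A))
    (ha : ∀ k, a k • γ = q.app A (res _ hAU (Amp73.pullS π F U (e k))))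
    (σ : Γ(P, A) ⟶ C) (h : Spec.map τ ≫ ψ = Spec.map σ ≫ hA.fromSpec) :
    strRing ≫ τ = π.appLE U A hAU ≫ σ ∧ ∃ w : C, IsUnit w ∧ ∀ k, τ (row k) = σ (a k) * w := by
  obtain ⟨hg, e', he'⟩ := exists_row_point hU e hψ τ
  have hgg : (Spec.map σ ≫ hA.fromSpec) ≫ π = Spec.map (strRing ≫ τ) ≫ hU.fromSpec := by rw [← h]; exact hg
  refine ⟨?_, ?_⟩
  · rw [specMap_fromSpec_comp hU hA hAU, cancel_mono] at hgg
    exact (Spec.map_injective hgg).symm
  have key : ∀ (h' : Spec C ⟶ P) (hh : Spec.map τ ≫ ψ = h') (hg' : h' ≫ π = Spec.map (strRing ≫ τ) ≫ hU.fromSpec),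
      ∃ e'' : (Scheme.Modules.pullback h').obj O1 ≅ Coh.structureModule _,
        comp q h' hg' ≫ e''.hom = comp q (Spec.map τ ≫ ψ) hg ≫ e'.hom := by
    rintro _ rfl _
    exact ⟨e', rfl⟩
  obtain ⟨w, hw, hwv⟩ := (exists_iso_iff hU e hA hAU hγ a ha (isQuasicoherent_O1 hPB) (isAffineOpen_top _) _ hgg
    (top_le_affStr hU _) (specMap_fromSpec_le hA σ) _ _ he').1 (key _ h hgg)
  refine ⟨(Scheme.ΓSpecIso C).hom w, hw.map (Scheme.ΓSpecIso C).hom.hom, fun k => ?_⟩
  have h2 := congrArg (Scheme.ΓSpecIso C).hom (hwv k)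
  rw [specMap_fromSpec_appLE, map_mul] at h2
  exact (Iso.inv_hom_id_apply (Scheme.ΓSpecIso C) (τ (row k))).symm.trans
    (h2.trans (congrArg (· * _) (Iso.inv_hom_id_apply (Scheme.ΓSpecIso C) (σ (a k)))))

include hPB hψ in
theorem coord_unique {C : CommRingCat.{u}} (m : Spec C ⟶ Spec (Aff U t)) (N : NChart π F q e)
    (σ : Γ(P, N.A) ⟶ C) (h : m ≫ ψ = Spec.map σ ≫ N.hA.fromSpec) :
    m = Spec.map σ ≫ Spec.map (coordMap N) := by
  obtain ⟨τ, rfl⟩ := Spec.map_surjective m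
  rw [← Spec.map_comp]
  congr 1
  obtain ⟨hbase, w, -, hw⟩ := row_eq hU e hPB hψ τ N.hA N.hγ N.a N.ha σ h
  have hw1 : w = 1 := by
    have := hw 0
    rw [N.ha0, map_one, one_mul] at this
    rw [← this]
    exact map_one τ.hom
  refine CommRingCat.hom_ext (MvPolynomial.ringHom_ext (fun x => ?_) fun j => ?_)
  · refine (congr($hbase x)).trans ?_
    exact congrArg σ (congr($(strRing_coordMap e N) x)).symm
  · have h1 := hw j.succ
    rw [hw1, mul_one] at h1
    exact h1.trans (congrArg σ (coordMap_row e N j.succ).symm)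

include hPB hψ in
/-- The affine space is isomorphic to the preimage of a normalized chart. -/
theorem isIso_restrict (N : NChart π F q e) : IsIso (ψ ∣_ N.A) := by
  let χ : N.A.toScheme ⟶ Spec (Aff U t) := N.hA.isoSpec.hom ≫ Spec.map (coordMap N)
  have hχ : χ ≫ ψ = N.A.ι := by
    rw [Category.assoc, coordMap_fac hU e hPB hψ N, IsAffineOpen.isoSpec_hom_fromSpec]
  let inv : N.A.toScheme ⟶ (ψ ⁻¹ᵁ N.A).toScheme := IsOpenImmersion.lift (ψ ⁻¹ᵁ N.A).ι χ (by
    rw [Scheme.Opens.range_ι]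
    rintro _ ⟨x, rfl⟩
    show (χ ≫ ψ) x ∈ N.A
    rw [hχ]
    exact x.2)
  have hinv : inv ≫ (ψ ⁻¹ᵁ N.A).ι = χ := IsOpenImmersion.lift_fac _ _ _
  refine ⟨inv, ?_, ?_⟩
  · rw [← cancel_mono (ψ ⁻¹ᵁ N.A).ι, Category.assoc, hinv, Category.id_comp]
    refine Scheme.Cover.hom_ext (ψ ⁻¹ᵁ N.A).toScheme.affineCover _ _ fun i => ?_
    let m := (ψ ⁻¹ᵁ N.A).toScheme.affineCover.f i ≫ (ψ ⁻¹ᵁ N.A).ι
    let m' := (ψ ⁻¹ᵁ N.A).toScheme.affineCover.f i ≫ ψ ∣_ N.A ≫ N.hA.isoSpec.hom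
    obtain ⟨σ, hσ⟩ := Spec.map_surjective m'
    have key : (ψ ⁻¹ᵁ N.A).ι ≫ ψ = (ψ ∣_ N.A ≫ N.hA.isoSpec.hom) ≫ N.hA.fromSpec := by
      rw [Category.assoc, IsAffineOpen.isoSpec_hom_fromSpec, morphismRestrict_ι]
    have h : m ≫ ψ = Spec.map σ ≫ N.hA.fromSpec := by
      rw [hσ]
      exact (Category.assoc _ _ _).trans
        ((congrArg ((ψ ⁻¹ᵁ N.A).toScheme.affineCover.f i ≫ ·) key).trans (Category.assoc _ _ _).symm)
    have := coord_unique hU e hPB hψ m N σ h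
    rw [hσ] at this
    simp only [m, m', Category.assoc] at this
    exact this.symm
  · rw [← cancel_mono N.A.ι, Category.assoc, morphismRestrict_ι, ← Category.assoc, hinv, hχ,
      Category.id_comp]

include hPB hψ in
/-- The zeroth coordinate is invertible on the image of the affine space. -/
theorem mem_basicOpen {y : Spec (Aff U t)} {A : P.Opens} (hA : IsAffineOpen A)
    {hAU : A ≤ π ⁻¹ᵁ U} {γ : Γ(O1, A)} (hγ : Var76.LineBundle.IsFrame O1 A γ) (a : Fin (t + 1) → Γ(P, A))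
    (ha : ∀ k, a k • γ = q.app A (res _ hAU (Amp73.pullS π F U (e k)))) (hy : ψ y ∈ A) :
    ψ y ∈ P.basicOpen (a 0) := by
  obtain ⟨_, ⟨V, hV, rfl⟩, hyV, hVA⟩ :=
    (Spec (Aff U t)).isBasis_affineOpens.exists_subset_of_mem_open (show y ∈ ψ ⁻¹ᵁ A from hy) (ψ ⁻¹ᵁ A).isOpen
  obtain ⟨τ, hτ⟩ := Spec.map_surjective hV.fromSpec
  let σ := ψ.appLE A V hVA
  obtain ⟨-, w, -, hw⟩ := row_eq hU e hPB hψ τ hA hγ a ha σ
    (by rw [hτ, IsAffineOpen.SpecMap_appLE_fromSpec ψ hA hV hVA])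
  have h0 : IsUnit (σ (a 0)) := IsUnit.of_mul_eq_one w ((hw 0).symm.trans (map_one τ.hom))
  have h1 : y ∈ (Spec (Aff U t)).basicOpen (σ (a 0)) := by rwa [Scheme.basicOpen_of_isUnit _ h0]
  rw [Scheme.basicOpen_appLE] at h1
  exact h1.2

include hPB hψ in
theorem exists_nChart_of_mem (y : Spec (Aff U t)) : ∃ N : NChart π F q e, ψ y ∈ N.A := by
  have hp : π (ψ y) ∈ U := by
    rw [← Scheme.Hom.comp_apply, hψ.1]
    exact top_le_affStr hU strRing (trivial : y ∈ ⊤)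
  obtain ⟨A, hA, hAU, γ, hγ, a, hyA, ha⟩ := exists_coord e hPB hp
  obtain ⟨N, hN⟩ := exists_nChart e hA hγ a ha
  exact ⟨N, hN ▸ mem_basicOpen hU e hPB hψ hA hγ a ha hyA⟩

include hPB hψ in
/-- The image of the affine space. -/
theorem range_eq : Set.range ψ = ⋃ N : NChart π F q e, (N.A : Set P) := by
  refine Set.Subset.antisymm ?_ (Set.iUnion_subset fun N x hx => ?_)
  · rintro _ ⟨y, rfl⟩
    exact Set.mem_iUnion.2 (exists_nChart_of_mem hU e hPB hψ y)
  · refine ⟨(N.hA.isoSpec.hom ≫ Spec.map (coordMap N)) ⟨x, hx⟩, ?_⟩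
    rw [← Scheme.Hom.comp_apply, Category.assoc, coordMap_fac hU e hPB hψ N,
      IsAffineOpen.isoSpec_hom_fromSpec]
    rfl

include hPB hψ in
/-- The affine space is an open part of the bundle. -/
theorem isOpenImmersion : IsOpenImmersion ψ := by
  let D : P.Opens := ⨆ N : NChart π F q e, N.A
  have hD : ψ ⁻¹ᵁ D = ⊤ := top_le_iff.1 fun y _ => by
    obtain ⟨N, hN⟩ := exists_nChart_of_mem hU e hPB hψ y
    exact Opens.mem_iSup.2 ⟨N, hN⟩
  haveI : IsIso (ψ ∣_ D) := by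
    refine (IsZariskiLocalAtTarget.iff_of_iSup_eq_top (P := MorphismProperty.isomorphisms Scheme.{u})
      (fun N : NChart π F q e => D.ι ⁻¹ᵁ N.A) ?_).2 fun N => ?_
    · rw [← Scheme.Hom.preimage_iSup]
      exact Scheme.Opens.ι_preimage_self D
    · refine ((MorphismProperty.arrow_mk_iso_iff _ (morphismRestrictRestrict ψ D _ ≪≫
        morphismRestrictEq ψ ?_))).2 (isIso_restrict hU e hPB hψ N)
      rw [Scheme.Hom.image_preimage_eq_opensRange_inf, Scheme.Opens.opensRange_ι, inf_eq_right]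
      exact le_iSup (fun N : NChart π F q e => N.A) N
  have h1 : IsOpenImmersion ((ψ ⁻¹ᵁ D).ι ≫ ψ) := by
    rw [← morphismRestrict_ι]
    infer_instance
  haveI : IsIso (ψ ⁻¹ᵁ D).ι := by rw [hD]; exact (Scheme.topIso _).isIso_hom
  exact (MorphismProperty.cancel_left_of_respectsIso (P := @IsOpenImmersion) (ψ ⁻¹ᵁ D).ι ψ).1 h1

end

end Groth.Agent.RegImm10.BundleChart
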