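import Groth.Agent.Div89.BlowUp
import Groth.Agent.MP99.Basic
import Groth.Agent.RegImmB94.Koszul
import Mathlib.RingTheory.AdicCompletion.AsTensorProduct
import Mathlib.RingTheory.AdicCompletion.Completeness
import Mathlib.RingTheory.DiscreteValuationRing.Basic

/-! Ideal sheaves supported in the closed fibre descend from the completion. -/

set_option autoImplicit false
set_option backward.isDefEq.respectTransparency.types false
set_option linter.style.haveILetI false

noncomputable section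

universe u

open CategoryTheory CategoryTheory.Limits AlgebraicGeometry TensorProduct

namespace Groth.Agent.RegImm10.ComplDesc

theorem exists_modEq (R : Type u) [CommRing R] (ϖ : R) (n : ℕ)
    (s : AdicCompletion (Ideal.span {ϖ}) R) :
    ∃ (r : R) (t : AdicCompletion (Ideal.span {ϖ}) R), s = algebraMap R _ r + (algebraMap R _ ϖ) ^ n * t := by
  obtain ⟨r, hr⟩ := Ideal.Quotient.mk_surjective (AdicCompletion.evalₐ (Ideal.span {ϖ}) n s)
  have hk : s - algebraMap R _ r ∈ LinearMap.ker (AdicCompletion.eval (Ideal.span {ϖ}) R n) := by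
    have h0 : AdicCompletion.evalₐ (Ideal.span {ϖ}) n (s - algebraMap R _ r) = 0 := by
      rw [map_sub, AlgHom.commutes, Ideal.Quotient.algebraMap_eq, hr, sub_self]
    rw [LinearMap.mem_ker]
    simp only [AdicCompletion.evalₐ, AlgHom.coe_comp, Function.comp_apply] at h0
    exact (map_eq_zero_iff _ (AlgEquiv.injective _)).mp h0
  rw [← AdicCompletion.pow_smul_top_eq_ker_eval (Submodule.fg_span_singleton ϖ), Ideal.span_singleton_pow,
    Submodule.ideal_span_singleton_smul] at hk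
  obtain ⟨t, -, ht⟩ := hk
  refine ⟨r, t, ?_⟩
  have ht' : ϖ ^ n • t = s - algebraMap R _ r := ht
  rw [← map_pow, ← Algebra.smul_def, ht']
  abel

theorem exists_modEq_tensor {R A B : Type u} [CommRing R] [CommRing A] [CommRing B] [Algebra R A]
    [Algebra R B] (c : R) (h : ∀ b : B, ∃ r t, b = algebraMap R B r + algebraMap R B c * t)
    (x : A ⊗[R] B) : ∃ a y, x = algebraMap A _ a + algebraMap A _ (algebraMap R A c) * y := by
  induction x using TensorProduct.induction_on with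
  | zero => exact ⟨0, 0, by simp⟩
  | add x y hx hy =>
    obtain ⟨a, s, rfl⟩ := hx
    obtain ⟨b, t, rfl⟩ := hy
    exact ⟨a + b, s + t, by rw [map_add, mul_add]; ring⟩
  | tmul a b =>
    obtain ⟨r, t, rfl⟩ := h b
    refine ⟨r • a, a ⊗ₜ t, ?_⟩
    simp only [Algebra.TensorProduct.algebraMap_apply, Algebra.algebraMap_self, RingHom.id_apply,
      Algebra.TensorProduct.tmul_mul_tmul, one_mul, TensorProduct.tmul_add]
    rw [← Algebra.smul_def, ← Algebra.smul_def, Algebra.algebraMap_eq_smul_one r, TensorProduct.tmul_smul,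
      TensorProduct.tmul_smul, ← TensorProduct.smul_tmul', ← TensorProduct.smul_tmul']

variable {R S : CommRingCat.{u}} (φ : R ⟶ S) {Y : Scheme.{u}} (q : Y ⟶ Spec R)

/-- An ideal sheaf supported where `ϖ` vanishes descends along `Spec S → Spec R` when
`R → S` is surjective modulo every power of `ϖ`. -/
theorem exists_descend (ϖ : R) (hφ : ∀ n (s : S), ∃ r t, s = φ r + (φ ϖ) ^ n * t)
    (I : (pullback q (Spec.map φ)).IdealSheafData)
    (hI : ∀ y ∈ I.support, ϖ ∈ (q (pullback.fst q (Spec.map φ) y)).asIdeal) :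
    (∀ y ∈ (I.map (pullback.fst q (Spec.map φ))).support, ϖ ∈ (q y).asIdeal) ∧
      (I.map (pullback.fst q (Spec.map φ))).comap (pullback.fst q (Spec.map φ)) = I := by
  let f := pullback.fst q (Spec.map φ)
  haveI : IsAffineHom f := MorphismProperty.pullback_fst _ _ inferInstance
  let ϖ' : Γ(Spec R, ⊤) := (Scheme.ΓSpecIso R).inv ϖ
  have hb : ∀ x : Spec R, x ∈ (Spec R).basicOpen ϖ' ↔ ϖ ∉ x.asIdeal := fun x => by
    rw [show (Spec R).basicOpen ϖ' = PrimeSpectrum.basicOpen ϖ from basicOpen_eq_of_affine ϖ]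
    rfl
  -- over each affine open of the base
  have key : ∀ U : Y.affineOpens, ∃ (n : ℕ) (p : Γ(Y, U.1)),
      p ^ n ∈ (I.map f).ideal U ∧ (∀ y ∈ U.1, y ∈ Y.basicOpen p ↔ ϖ ∉ (q y).asIdeal) ∧
      I.ideal ⟨f ⁻¹ᵁ U.1, U.2.preimage f⟩ = ((I.map f).ideal U).map (f.app U.1).hom := by
    intro U
    let p : Γ(Y, U.1) := q.appLE ⊤ U.1 le_top ϖ'
    have hp : ∀ y ∈ U.1, y ∈ Y.basicOpen p ↔ ϖ ∉ (q y).asIdeal := fun y hy => by
      rw [← hb, show p = (Y.presheaf.map (homOfLE (le_top : U.1 ≤ q ⁻¹ᵁ ⊤)).op).hom (q.app ⊤ ϖ') from rfl,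
        Scheme.basicOpen_res]
      exact ⟨fun h => (Scheme.preimage_basicOpen q ϖ').ge h.2,
        fun h => ⟨hy, (Scheme.preimage_basicOpen q ϖ').le h⟩⟩
    let W : (pullback q (Spec.map φ)).affineOpens := ⟨f ⁻¹ᵁ U.1, U.2.preimage f⟩
    let h := f.app U.1 p
    have hrad : h ∈ (I.ideal W).radical := by
      rw [Ideal.radical_eq_sInf, Submodule.mem_sInf]
      rintro Q ⟨hQ, hQp⟩
      by_contra hne
      have hy : W.2.fromSpec ⟨Q, hQp⟩ ∈ W.1 := by
        rw [← SetLike.mem_coe, ← W.2.range_fromSpec]; exact ⟨_, rfl⟩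
      have hs : W.2.fromSpec ⟨Q, hQp⟩ ∈ I.support := by
        rw [Scheme.IdealSheafData.mem_support_iff_of_mem hy]
        refine ((W.2.fromSpec_image_zeroLocus _).le ⟨⟨Q, hQp⟩, ?_, rfl⟩).1
        exact hQ
      have hmem : W.2.fromSpec ⟨Q, hQp⟩ ∈ (pullback q (Spec.map φ)).basicOpen h := by
        rw [← W.2.fromSpec_image_basicOpen]; exact ⟨_, hne, rfl⟩
      rw [← Scheme.preimage_basicOpen] at hmem
      exact (hp _ hy).mp hmem (hI _ hs)
    obtain ⟨n, hn⟩ := hrad
    have hmap : (I.map f).ideal U = (I.ideal W).comap (f.app U.1).hom :=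
      Scheme.IdealSheafData.ideal_map_of_isAffineHom I f U
    refine ⟨n, p, ?_, hp, ?_⟩
    · rw [hmap, Ideal.mem_comap, map_pow]; exact hn
    rw [hmap]
    refine le_antisymm (fun x hx => ?_) Ideal.map_comap_le
    suffices hsur : ∃ a t, x = f.app U.1 a + h ^ n * t by
      obtain ⟨a, t, ha⟩ := hsur
      have h1 : f.app U.1 a ∈ I.ideal W := by
        rw [eq_sub_of_add_eq ha.symm]
        exact sub_mem hx (Ideal.mul_mem_right _ _ hn)
      rw [ha]
      refine add_mem (Ideal.mem_map_of_mem _ h1) (Ideal.mul_mem_right _ _ ?_)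
      rw [← map_pow]
      exact Ideal.mem_map_of_mem _ (show p ^ n ∈ _ by rw [Ideal.mem_comap, map_pow]; exact hn)
    have hc : IsPullback (pullback.snd q (Spec.map φ)) f (Spec.map φ) q :=
      (IsPullback.of_hasPullback q (Spec.map φ)).flip
    obtain ⟨-, ⟨e⟩⟩ := RegImmB94.chart hc (isAffineOpen_top (Spec R)) U.2 (isAffineOpen_top (Spec S))
      (A := ⊤) (A' := U.1) (B := ⊤) le_top le_top (W := f ⁻¹ᵁ U.1) (by simp)
    letI a0 := (q.appLE ⊤ U.1 le_top).hom.toAlgebra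
    letI a1 := ((Spec.map φ).appLE ⊤ ⊤ le_top).hom.toAlgebra
    letI a2 : Algebra Γ(Y, U.1) Γ(pullback q (Spec.map φ), f ⁻¹ᵁ U.1) :=
      (f.appLE U.1 (f ⁻¹ᵁ U.1) le_rfl).hom.toAlgebra
    have happ : ∀ z, algebraMap Γ(Y, U.1) Γ(pullback q (Spec.map φ), f ⁻¹ᵁ U.1) z = f.app U.1 z := fun z => by
      rw [RingHom.algebraMap_toAlgebra, ← Scheme.Hom.app_eq_appLE]
    have hS : ∀ b : Γ(Spec S, ⊤), ∃ r t, b = algebraMap Γ(Spec R, ⊤) Γ(Spec S, ⊤) r +
        algebraMap Γ(Spec R, ⊤) Γ(Spec S, ⊤) (ϖ' ^ n) * t := by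
      intro b
      obtain ⟨r, t, hrt⟩ := hφ n ((Scheme.ΓSpecIso S).hom b)
      have hnat : ∀ z, algebraMap Γ(Spec R, ⊤) Γ(Spec S, ⊤) ((Scheme.ΓSpecIso R).inv z) =
          (Scheme.ΓSpecIso S).inv (φ z) := fun z => by
        rw [RingHom.algebraMap_toAlgebra, show (Spec.map φ).appLE ⊤ ⊤ le_top = (Spec.map φ).appTop from (Scheme.Hom.app_eq_appLE _).symm]
        exact (ConcreteCategory.congr_hom (Scheme.ΓSpecIso_inv_naturality φ) z).symm
      refine ⟨(Scheme.ΓSpecIso R).inv r, (Scheme.ΓSpecIso S).inv t, ?_⟩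
      rw [map_pow, show ϖ' = (Scheme.ΓSpecIso R).inv ϖ from rfl, hnat, hnat, ← map_pow, ← map_mul,
        ← map_add, ← hrt]
      exact (ConcreteCategory.congr_hom (Scheme.ΓSpecIso S).hom_inv_id b).symm
    obtain ⟨a, y, hy⟩ := exists_modEq_tensor (A := Γ(Y, U.1)) (ϖ' ^ n) hS (e.symm x)
    refine ⟨a, e y, ?_⟩
    have := congrArg e hy
    rw [e.apply_symm_apply, map_add, map_mul, e.commutes, e.commutes] at this
    rw [happ, happ, map_pow, map_pow] at this
    exact this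
  refine ⟨fun y hy => ?_, ?_⟩
  · obtain ⟨_, ⟨U, hU, rfl⟩, hyU, -⟩ :=
      Y.isBasis_affineOpens.exists_subset_of_mem_open (Set.mem_univ y) isOpen_univ
    obtain ⟨n, p, hpn, hp, -⟩ := key ⟨U, hU⟩
    by_contra hne
    have h1 := ((hp y hyU).mpr hne)
    rw [Scheme.IdealSheafData.mem_support_iff_of_mem (U := ⟨U, hU⟩) hyU] at hy
    have h2 := (Scheme.mem_zeroLocus_iff _ _ _).mp hy _ hpn
    rcases Nat.eq_zero_or_pos n with rfl | hn
    · rw [pow_zero] at h2
      exact h2 (by rw [Scheme.basicOpen_of_isUnit _ isUnit_one]; exact hyU)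
    · exact h2 ((congrArg (fun V : Y.Opens => y ∈ V) (Y.basicOpen_pow p hn)).mpr h1)
  · refine Scheme.IdealSheafData.ext_of_iSup_eq_top
      (fun U : Y.affineOpens => ⟨f ⁻¹ᵁ U.1, U.2.preimage f⟩) ?_ fun U => ?_
    · rw [← Scheme.Hom.preimage_iSup, show (⨆ U : Y.affineOpens, U.1) = ⊤ from
        Y.isBasis_affineOpens.isOpenCover.iSup_eq_top]
      rfl
    · obtain ⟨-, -, -, -, hI'⟩ := key U
      rw [hI', MP99.ideal_comap _ f U ⟨f ⁻¹ᵁ U.1, U.2.preimage f⟩ le_rfl, ← Scheme.Hom.app_eq_appLE]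

end Groth.Agent.RegImm10.ComplDesc
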