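import Groth.Agent.RegImm10.H1Descent
import Groth.Agent.RegImmB94.Koszul
import Mathlib.RingTheory.TensorProduct.Quotient

/-! fpqc descent of `H_1`- and quasi-regular immersions. -/

set_option autoImplicit false
set_option backward.isDefEq.respectTransparency.types false
set_option linter.style.haveILetI false

noncomputable section

universe u

open CategoryTheory CategoryTheory.Limits AlgebraicGeometry TensorProduct

namespace Groth.Agent.RegImm10.Fpqc

open RegImm

section Alg

variable {k : Kind} {R S : Type u} [CommRing R] [CommRing S]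

theorem seq_ofFn (P : ∀ c : ℕ, (Fin c → R) → Prop) {n : ℕ} {f : Fin n → R} (h : P n f) :
    P (List.ofFn f).length (List.ofFn f).get := by
  have := (List.equivSigmaTuple (α := R)).apply_symm_apply ⟨n, f⟩
  change (⟨(List.ofFn f).length, (List.ofFn f).get⟩ : Σ c, Fin c → R) = ⟨n, f⟩ at this
  exact (congrArg (fun x : Σ c, Fin c → R => P x.1 x.2) this).mpr h

theorem ofList_eq_span (rs : List R) : Ideal.ofList rs = Ideal.span (Set.range rs.get) := by
  rw [Ideal.ofList, Set.range_list_get]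

theorem ofList_ofFn {n : ℕ} (f : Fin n → R) : Ideal.ofList (List.ofFn f) = Ideal.span (Set.range f) := by
  simp [Ideal.ofList, List.mem_ofFn, Set.range]

theorem seq_loc [Algebra R S] (M : Submonoid R) [IsLocalization M S] (hk : k = .quasi ∨ k = .h1)
    {rs : List R} (h : k.Seq R rs) : k.Seq S (rs.map (algebraMap R S)) := by
  have e : rs.map (algebraMap R S) = List.ofFn fun i => algebraMap R S (rs.get i) := by
    conv_lhs => rw [← List.ofFn_get rs, List.map_ofFn]
    rfl
  rw [e]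
  rcases hk with rfl | rfl
  · exact seq_ofFn (fun _ f => CAlgX.IsQuasiRegular f) (PPH.QR.isQuasiRegular_of_qrs M S
      fun n F hF he d => ⟨1, M.one_mem, by rw [one_mul]; exact h n F hF he d⟩)
  · haveI : Module.Flat R S := IsLocalization.flat S M
    exact seq_ofFn (fun _ f => CAlgX.IsH1Regular f) (H1D.isH1Regular_flat h)

theorem seq_equiv (e : R ≃+* S) (hk : k = .quasi ∨ k = .h1) {rs : List R} (h : k.Seq R rs) :
    k.Seq S (rs.map e) := by
  letI := e.toRingHom.toAlgebra
  haveI : IsLocalization (⊥ : Submonoid R) R :=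
    IsLocalization.self fun x hx => by simp [Submonoid.mem_bot.mp hx]
  haveI : IsLocalization (⊥ : Submonoid R) S :=
    IsLocalization.isLocalization_of_algEquiv (⊥ : Submonoid R)
      (AlgEquiv.ofRingEquiv (f := e) fun _ => rfl : R ≃ₐ[R] S)
  exact seq_loc (⊥ : Submonoid R) hk h

/-- An ideal is locally generated by a sequence of kind `k`. -/
def LocK (k : Kind) (A : Type u) [CommRing A] (J : Ideal A) : Prop :=
  ∀ (P : Ideal A) [P.IsPrime], J ≤ P → ∃ g : A, g ∉ P ∧ ∃ rs : List (Localization.Away g),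
    k.Seq _ rs ∧ J.map (algebraMap A (Localization.Away g)) = Ideal.ofList rs

theorem locK_quasi_iff {J : Ideal R} : LocK .quasi R J ↔ PP16.IsLocallyQuasiRegular R J := by
  constructor <;> intro h P _ hP
  · obtain ⟨g, hg, rs, h1, h2⟩ := h P hP
    exact ⟨g, hg, _, rs.get, h1, (h2.trans (ofList_eq_span rs)).symm⟩
  · obtain ⟨g, hg, r, f, h1, h2⟩ := h P hP
    exact ⟨g, hg, List.ofFn f, seq_ofFn (fun _ f => CAlgX.IsQuasiRegular f) h1,
      h2.symm.trans (ofList_ofFn f).symm⟩

theorem locK_h1_iff {J : Ideal R} : LocK .h1 R J ↔ H1D.IsLocallyH1 R J := by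
  constructor <;> intro h P _ hP
  · obtain ⟨g, hg, rs, h1, h2⟩ := h P hP
    exact ⟨g, hg, _, rs.get, h1, (h2.trans (ofList_eq_span rs)).symm⟩
  · obtain ⟨g, hg, r, f, h1, h2⟩ := h P hP
    exact ⟨g, hg, List.ofFn f, seq_ofFn (fun _ f => CAlgX.IsH1Regular f) h1,
      h2.symm.trans (ofList_ofFn f).symm⟩

theorem locK_descend [Algebra R S] [Module.FaithfullyFlat R S] (hk : k = .quasi ∨ k = .h1) {I : Ideal R}
    (h : LocK k S (I.map (algebraMap R S))) : LocK k R I := by
  rcases hk with rfl | rfl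
  · exact locK_quasi_iff.mpr (PPH.QR.isLocallyQuasiRegular_descend (locK_quasi_iff.mp h))
  · exact locK_h1_iff.mpr (H1D.isLocallyH1_descend (locK_h1_iff.mp h))

variable {ι : Type} [Fintype ι] {Rs : ι → Type u} [∀ j, CommRing (Rs j)]

theorem locK_pi (hk : k = .quasi ∨ k = .h1) {J : Ideal (∀ j, Rs j)}
    (h : ∀ j, LocK k (Rs j) (J.map (Pi.evalRingHom Rs j))) : LocK k (∀ j, Rs j) J := by
  classical
  intro q hq hJq
  obtain ⟨j, hj⟩ : ∃ j, Pi.single j (1 : Rs j) ∉ q := by
    by_contra! hall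
    refine hq.ne_top ((Ideal.eq_top_iff_one _).2 ?_)
    rw [← show (∑ i, Pi.single i (1 : Rs i)) = (1 : ∀ i, Rs i) from Finset.univ_sum_single 1]
    exact sum_mem fun i _ => hall i
  set e : ∀ i, Rs i := Pi.single j 1 with he
  letI : Algebra (∀ i, Rs i) (Rs j) := (Pi.evalRingHom Rs j).toAlgebra
  haveI : IsLocalization.Away e (Rs j) := by
    refine IsLocalization.away_of_isIdempotentElem_of_mul
      (by simp [IsIdempotentElem, he, ← Pi.single_mul]) (fun x y => ?_) fun r => ⟨Pi.single j r, by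
        simp [RingHom.algebraMap_toAlgebra]⟩
    change x j = y j ↔ _
    refine ⟨fun hxy => funext fun i => ?_, fun hxy => by simpa [he] using congrFun hxy j⟩
    rcases eq_or_ne i j with rfl | hi
    · simpa [he] using hxy
    · simp [he, hi]
  have hdisj : Disjoint (Submonoid.powers e : Set (∀ i, Rs i)) (q : Set _) :=
    (Ideal.disjoint_powers_iff_notMem e hq.isRadical).mpr hj
  haveI : (q.map (algebraMap _ (Rs j))).IsPrime :=
    IsLocalization.isPrime_of_isPrime_disjoint (Submonoid.powers e) (Rs j) q hq hdisj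
  obtain ⟨g, hg, rs, hrs, hJ⟩ := h j (q.map (algebraMap _ (Rs j))) (Ideal.map_mono hJq)
  let G : ∀ i, Rs i := Pi.single j g
  have hG : algebraMap (∀ i, Rs i) (Rs j) G = g := by simp [G, RingHom.algebraMap_toAlgebra]
  refine ⟨G, fun hc => hg (hG ▸ Ideal.mem_map_of_mem _ hc), ?_⟩
  haveI : IsLocalization.Away (algebraMap (∀ i, Rs i) (Rs j) G) (Localization.Away g) := by
    rw [hG]; infer_instance
  haveI : IsLocalization.Away G (Localization.Away g) := by
    have h2 := IsLocalization.Away.mul' (Rs j) (Localization.Away g) e G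
    rwa [show e * G = G by simp [he, G, ← Pi.single_mul]] at h2
  let E : Localization.Away G ≃ₐ[∀ i, Rs i] Localization.Away g :=
    IsLocalization.algEquiv (Submonoid.powers G) _ _
  refine ⟨rs.map E.symm.toRingEquiv, seq_equiv E.symm.toRingEquiv hk hrs, ?_⟩
  rw [show algebraMap (∀ i, Rs i) (Localization.Away G) = E.symm.toRingEquiv.toRingHom.comp
    ((algebraMap (Rs j) (Localization.Away g)).comp (Pi.evalRingHom Rs j)) from
      RingHom.ext fun a => (E.symm.commutes a).symm, ← Ideal.map_map, ← Ideal.map_map, hJ, LCI19.map_ofList]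
  rfl

/-- The kernel of the base change of a quotient map. -/
theorem ker_of_tensor {B W V : Type u} [CommRing B] [CommRing W] [CommRing V] [Algebra R B]
    [Algebra R W] [Algebra B V] (hs : Function.Surjective (algebraMap R W))
    (e : B ⊗[R] W ≃ₐ[B] V) :
    RingHom.ker (algebraMap B V) = (RingHom.ker (algebraMap R W)).map (algebraMap R B) := by
  let I := RingHom.ker (Algebra.ofId R W)
  let e₂ : (B ⧸ I.map (algebraMap R B)) ≃ₐ[B] V :=
    ((Algebra.TensorProduct.quotIdealMapEquivTensorQuot B I).trans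
      (Algebra.TensorProduct.congr AlgEquiv.refl
        (Ideal.quotientKerAlgEquivOfSurjective (f := Algebra.ofId R W) hs))).trans e
  have h := e₂.toAlgHom.comp_algebraMap
  rw [← h, RingHom.ker_comp_of_injective _ e₂.injective, Ideal.Quotient.algebraMap_eq, Ideal.mk_ker]
  rfl

end Alg

section Scheme

variable {k : Kind} {X Z : Scheme.{u}}

theorem seq_res {U : X.Opens} (hU : IsAffineOpen U) (b : Γ(X, U)) {D : X.Opens} (hD : D = X.basicOpen b)
    (hk : k = .quasi ∨ k = .h1) {l : List Γ(X, U)} (hl : k.Seq _ l) :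
    k.Seq Γ(X, D) (l.map (X.presheaf.map (homOfLE (hD.trans_le (X.basicOpen_le b))).op).hom) := by
  subst hD
  letI : Algebra Γ(X, U) Γ(X, X.basicOpen b) :=
    (X.presheaf.map (homOfLE (X.basicOpen_le b)).op).hom.toAlgebra
  haveI : IsLocalization.Away b Γ(X, X.basicOpen b) := hU.isLocalization_basicOpen b
  exact seq_loc (Submonoid.powers b) hk hl

theorem ker_res {i : Z ⟶ X} {U : X.Opens} (hU : IsAffineOpen U) [IsClosedImmersion (i ∣_ U)]
    (b : Γ(X, U)) {D : X.Opens} (hD : D = X.basicOpen b) :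
    RingHom.ker (i.app D).hom = (RingHom.ker (i.app U).hom).map
      (X.presheaf.map (homOfLE (hD.trans_le (X.basicOpen_le b))).op).hom := by
  subst hD
  exact RegImmB94.ker_app_basicOpen' i hU b

/-- On an affine chart a regular immersion has a locally regular ideal. -/
theorem locK_of_regular (hk : k = .quasi ∨ k = .h1) {i : Z ⟶ X} (h : IsRegularImmersion k i)
    {A : X.Opens} (hA : IsAffineOpen A) (hcl : IsClosedImmersion (i ∣_ A)) :
    LocK k Γ(X, A) (RingHom.ker (i.app A).hom) := by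
  haveI := hcl
  intro P hP hle
  have hW := RegImmB94.isAffineOpen_preimage_of_restrict i hA
  have hs := RegImmB94.app_surjective_of_restrict i hA
  obtain ⟨p, hp⟩ : ∃ p : Spec Γ(Z, i ⁻¹ᵁ A), Spec.map (i.app A) p = ⟨P, hP⟩ :=
    ⟨⟨P.map (i.app A).hom, Ideal.map_isPrime_of_surjective hs hle⟩, PrimeSpectrum.ext <| by
      refine (Ideal.comap_map_of_surjective _ hs P).trans (sup_eq_left.mpr ?_)
      exact hle⟩
  let z := hW.fromSpec p
  have hz : i z = hA.fromSpec ⟨P, hP⟩ := by
    have h1 := congr(($(hA.SpecMap_appLE_fromSpec i hW (le_refl _))) p)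
    simp only [← Scheme.Hom.app_eq_appLE] at h1
    rw [← hp]
    exact h1.symm
  have hzA : i z ∈ A := by
    rw [hz, ← SetLike.mem_coe, ← hA.range_fromSpec]
    exact ⟨_, rfl⟩
  obtain ⟨U, hzU, hclU, rs, hrs, hker⟩ := h.2 z
  haveI := hclU
  obtain ⟨a, b, hab, hza⟩ := exists_basicOpen_le_affine_inter hA U.2 (i z) ⟨hzA, hzU⟩
  refine ⟨a, fun hc => ?_, ?_⟩
  · rw [hz] at hza
    have h3 : (⟨P, hP⟩ : Spec Γ(X, A)) ∈ hA.fromSpec ⁻¹ᵁ X.basicOpen a := hza
    rw [hA.fromSpec_preimage_basicOpen] at h3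
    exact h3 hc
  letI : Algebra Γ(X, A) Γ(X, X.basicOpen a) :=
    (X.presheaf.map (homOfLE (X.basicOpen_le a)).op).hom.toAlgebra
  haveI : IsLocalization.Away a Γ(X, X.basicOpen a) := hA.isLocalization_basicOpen a
  let E : Localization.Away a ≃ₐ[Γ(X, A)] Γ(X, X.basicOpen a) :=
    IsLocalization.algEquiv (Submonoid.powers a) _ _
  refine ⟨(rs.map (X.presheaf.map (homOfLE (hab.trans_le (X.basicOpen_le b))).op).hom).map
    E.symm.toRingEquiv, seq_equiv E.symm.toRingEquiv hk (seq_res U.2 b hab hk hrs), ?_⟩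
  rw [show algebraMap Γ(X, A) (Localization.Away a) = E.symm.toRingEquiv.toRingHom.comp
      (X.presheaf.map (homOfLE (X.basicOpen_le a)).op).hom from
      RingHom.ext fun x => (E.symm.commutes x).symm, ← Ideal.map_map,
    ← ker_res hA a rfl, ker_res U.2 b hab, hker, LCI19.map_ofList, LCI19.map_ofList]
  rfl

/-- A locally regular ideal on an affine chart gives a regular immersion at the points of the chart. -/
theorem regularAt_of_locK (hk : k = .quasi ∨ k = .h1) {i : Z ⟶ X} {A : X.Opens} (hA : IsAffineOpen A)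
    (hcl : IsClosedImmersion (i ∣_ A)) (h : LocK k Γ(X, A) (RingHom.ker (i.app A).hom)) {z : Z}
    (hzA : i z ∈ A) : IsRegularImmersionAt k i z := by
  haveI := hcl
  let zp := hA.primeIdealOf ⟨i z, hzA⟩
  have hzp : RingHom.ker (i.app A).hom ≤ zp.asIdeal := by
    intro a ha
    by_contra hna
    have h1 : i z ∈ X.basicOpen a := by
      have h0 : hA.fromSpec zp ∈ X.basicOpen a := by rw [← hA.fromSpec_image_basicOpen]; exact ⟨_, hna, rfl⟩
      rwa [hA.fromSpec_primeIdealOf] at h0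
    have h2 : z ∈ i ⁻¹ᵁ X.basicOpen a := h1
    rw [Scheme.preimage_basicOpen, show i.app A a = 0 from ha, Scheme.basicOpen_zero] at h2
    exact h2
  obtain ⟨g, hg, l, hl, hI⟩ := h zp.asIdeal hzp
  letI : Algebra Γ(X, A) Γ(X, X.basicOpen g) :=
    (X.presheaf.map (homOfLE (X.basicOpen_le g)).op).hom.toAlgebra
  haveI : IsLocalization.Away g Γ(X, X.basicOpen g) := hA.isLocalization_basicOpen g
  let E : Localization.Away g ≃ₐ[Γ(X, A)] Γ(X, X.basicOpen g) :=
    IsLocalization.algEquiv (Submonoid.powers g) _ _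
  refine ⟨⟨_, hA.basicOpen g⟩, ?_, RegImmB94.isClosedImmersion_restrict_of_le i (X.basicOpen_le g),
    l.map E.toRingEquiv, seq_equiv E.toRingEquiv hk hl, ?_⟩
  · have h0 : hA.fromSpec zp ∈ X.basicOpen g := by rw [← hA.fromSpec_image_basicOpen]; exact ⟨_, hg, rfl⟩
    rwa [hA.fromSpec_primeIdealOf] at h0
  · show RingHom.ker (i.app (X.basicOpen g)).hom = _
    rw [ker_res hA g rfl, show (X.presheaf.map (homOfLE (X.basicOpen_le g)).op).hom =
      E.toRingEquiv.toRingHom.comp (algebraMap Γ(X, A) (Localization.Away g)) from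
      RingHom.ext fun x => (E.commutes x).symm, ← Ideal.map_map, hI, LCI19.map_ofList]
    rfl

/-- Descent of `H_1`- and quasi-regular immersions. -/
theorem descend (hk : k = .quasi ∨ k = .h1) {X' : Scheme.{u}} (i : Z ⟶ X) [IsImmersion i] (g : X' ⟶ X)
    [Flat g] [Surjective g] [QuasiCompact g] (h : IsRegularImmersion k (pullback.snd i g)) :
    IsRegularImmersion k i := by
  classical
  refine ⟨inferInstance, fun z => ?_⟩
  obtain ⟨_, ⟨A, hA, rfl⟩, hzA, hAO⟩ :=
    X.isBasis_affineOpens.exists_subset_of_mem_open (show i z ∈ i.coborderRange from subset_coborder ⟨z, rfl⟩)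
      i.coborderRange.isOpen
  have hcl : IsClosedImmersion (i ∣_ A) := FlatMor68.KoszulCalc.isClosedImmersion_restrict i hAO
  refine regularAt_of_locK hk hA hcl ?_ hzA
  haveI := hcl
  haveI : IsImmersion (pullback.snd i g) := h.1
  have hc : IsPullback (pullback.fst i g) (pullback.snd i g) i g := IsPullback.of_hasPullback i g
  have hW := RegImmB94.isAffineOpen_preimage_of_restrict i hA
  let ι₀ := {V : X'.affineOpens // (V : X'.Opens) ≤ g ⁻¹ᵁ A}
  obtain ⟨s, hs⟩ := (g.isCompact_preimage hA.isCompact).elim_finite_subcover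
    (fun V : ι₀ => (V.1.1 : Set X')) (fun V => V.1.1.2) (fun x hx => by
      obtain ⟨_, ⟨V, hV, rfl⟩, hxV, hVA⟩ :=
        X'.isBasis_affineOpens.exists_subset_of_mem_open (show x ∈ g ⁻¹ᵁ A from hx) (g ⁻¹ᵁ A).2
      exact Set.mem_iUnion.mpr ⟨⟨⟨V, hV⟩, hVA⟩, hxV⟩)
  let J : Fin s.card → ι₀ := fun j => (s.equivFin.symm j).1
  letI (j : Fin s.card) : Algebra Γ(X, A) Γ(X', (J j).1.1) :=
    (g.appLE A (J j).1.1 (J j).2).hom.toAlgebra
  haveI (j : Fin s.card) : Module.Flat Γ(X, A) Γ(X', (J j).1.1) :=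
    g.flat_appLE hA (J j).1.2 (J j).2
  haveI : Module.FaithfullyFlat Γ(X, A) (∀ j, Γ(X', (J j).1.1)) := by
    refine FlatMor67.faithfullyFlat_pi fun p => ?_
    obtain ⟨x, hx⟩ := g.surjective (hA.fromSpec p)
    have hxA : x ∈ g ⁻¹ᵁ A := by
      change g x ∈ A
      rw [hx, ← SetLike.mem_coe, ← hA.range_fromSpec]
      exact ⟨p, rfl⟩
    obtain ⟨V, hV, hxV⟩ := Set.mem_iUnion₂.mp (hs hxA)
    refine ⟨s.equivFin ⟨V, hV⟩, ?_⟩
    have hJ : J (s.equivFin ⟨V, hV⟩) = V := by simp [J]
    have hxV' : x ∈ (J (s.equivFin ⟨V, hV⟩)).1.1 := by rw [hJ]; exact hxV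
    let j := s.equivFin ⟨V, hV⟩
    refine ⟨(J j).1.2.primeIdealOf ⟨x, hxV'⟩, hA.fromSpec.isOpenEmbedding.injective ?_⟩
    refine (congr(($(hA.SpecMap_appLE_fromSpec g (J j).1.2 (J j).2))
      ((J j).1.2.primeIdealOf ⟨x, hxV'⟩))).trans (Eq.trans ?_ hx)
    exact congrArg g ((J j).1.2.fromSpec_primeIdealOf ⟨x, hxV'⟩)
  refine locK_descend (S := ∀ j, Γ(X', (J j).1.1)) hk (locK_pi hk fun j => ?_)
  let V := (J j).1.1
  have hV : V ≤ g ⁻¹ᵁ A := (J j).2
  have hVc : V ≤ (pullback.snd i g).coborderRange := by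
    intro x hx
    change x ∈ coborder (Set.range (pullback.snd i g))
    rw [Scheme.Pullback.range_snd]
    exact g.continuous.preimage_coborder_subset _ (hAO (hV hx))
  have hclV : IsClosedImmersion (pullback.snd i g ∣_ V) :=
    FlatMor68.KoszulCalc.isClosedImmersion_restrict _ hVc
  have heq : pullback.snd i g ⁻¹ᵁ V = pullback.fst i g ⁻¹ᵁ (i ⁻¹ᵁ A) ⊓ pullback.snd i g ⁻¹ᵁ V := by
    refine (inf_eq_right.mpr fun y hy => ?_).symm
    show i (pullback.fst i g y) ∈ A
    rw [show i (pullback.fst i g y) = g (pullback.snd i g y) from congr(($(hc.w)) y)]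
    exact hV hy
  obtain ⟨-, ⟨e⟩⟩ := RegImmB94.chart hc hA (J j).1.2 hW hV (le_refl _) heq
  letI a1 : Algebra Γ(X, A) Γ(Z, i ⁻¹ᵁ A) := (i.appLE A (i ⁻¹ᵁ A) (le_refl _)).hom.toAlgebra
  letI a2 : Algebra Γ(X', V) Γ(pullback i g, pullback.snd i g ⁻¹ᵁ V) :=
    ((pullback.snd i g).appLE V _ (heq.trans_le inf_le_right)).hom.toAlgebra
  have h1 : RingHom.ker (algebraMap Γ(X, A) Γ(Z, i ⁻¹ᵁ A)) = RingHom.ker (i.app A).hom := by
    rw [Scheme.Hom.app_eq_appLE]; rfl
  have hsurj : Function.Surjective (algebraMap Γ(X, A) Γ(Z, i ⁻¹ᵁ A)) := by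
    have := RegImmB94.app_surjective_of_restrict i hA
    rw [Scheme.Hom.app_eq_appLE] at this
    exact this
  have h2 := ker_of_tensor hsurj e
  rw [h1] at h2
  rw [Ideal.map_map]
  have h3 : RingHom.ker ((pullback.snd i g).app V).hom =
      (RingHom.ker (i.app A).hom).map (algebraMap Γ(X, A) Γ(X', V)) := by
    rw [← h2, Scheme.Hom.app_eq_appLE]; rfl
  exact h3 ▸ locK_of_regular hk h (J j).1.2 hclV

end Scheme

end Groth.Agent.RegImm10.Fpqc
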