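import Groth.Agent.PPH.QRDescent
import Groth.Agent.CAlg1.H1QReg
import Mathlib.RingTheory.Flat.Localization
import Mathlib.RingTheory.Flat.Stability
import Mathlib.LinearAlgebra.Matrix.NonsingularInverse

/-! Descent of locally `H_1`-regular ideals along faithfully flat maps. -/

set_option autoImplicit false
set_option linter.style.haveILetI false

noncomputable section

namespace Groth.Agent.RegImm10.H1D

universe u

open TensorProduct

variable {R : Type u} [CommRing R] {r : ℕ}

/-- The submodule of trivial relations. -/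
def triv (f : Fin r → R) : Submodule R (Fin r → R) :=
  Submodule.span R {v : Fin r → R | ∃ i j : Fin r, v = Pi.single i (f j) - Pi.single j (f i)}

theorem triv_mem (f : Fin r → R) (i j : Fin r) :
    Pi.single i (f j) - Pi.single j (f i) ∈ triv f :=
  Submodule.subset_span ⟨i, j, rfl⟩

theorem coeff_mem_of_triv {f : Fin r → R} {v : Fin r → R} (hv : v ∈ triv f) (i : Fin r) :
    v i ∈ Ideal.span (Set.range f) := by
  suffices h : triv f ≤ Submodule.comap (LinearMap.proj (R := R) (φ := fun _ : Fin r => R) i)
      (Ideal.span (Set.range f)) from h hv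
  refine Submodule.span_le.mpr ?_
  rintro _ ⟨a, b, rfl⟩
  have hm : ∀ c, f c ∈ Ideal.span (Set.range f) := fun c => Ideal.subset_span ⟨c, rfl⟩
  simp only [SetLike.mem_coe, Submodule.mem_comap, LinearMap.proj_apply, Pi.sub_apply, Pi.single_apply]
  split_ifs <;> simp [hm, sub_mem]

theorem isH1Regular_of_span_eq_top {f : Fin r → R} (h : Ideal.span (Set.range f) = ⊤) :
    CAlgX.IsH1Regular f := by
  classical
  intro a ha
  obtain ⟨b, hb⟩ := Ideal.mem_span_range_iff_exists_fun.mp (h ▸ Submodule.mem_top : (1 : R) ∈ _)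
  have : a = ∑ i, ∑ j, (a i * b j) • (Pi.single i (f j) - Pi.single j (f i)) := by
    ext l
    simp only [Finset.sum_apply, Pi.smul_apply, Pi.sub_apply, smul_eq_mul, mul_sub,
      Finset.sum_sub_distrib, Pi.single_apply, mul_ite, mul_zero]
    rw [Finset.sum_comm]
    simp only [Finset.sum_ite_eq, Finset.mem_univ, if_true]
    rw [show ∑ j, a l * b j * f j = a l by simp only [mul_assoc, ← Finset.mul_sum, hb, mul_one],
      show ∑ i, a i * b l * f i = 0 by
        simp only [mul_comm _ (b l), mul_assoc, ← Finset.mul_sum, ha, mul_zero], sub_zero]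
  rw [this]
  exact Submodule.sum_mem _ fun i _ => Submodule.sum_mem _ fun j _ =>
    Submodule.smul_mem _ _ (triv_mem f i j)

/-- `H_1`-regularity is invariant under an invertible change of generators. -/
theorem isH1Regular_of_matrix (f x : Fin r → R) (hx : CAlgX.IsH1Regular x)
    (M N : Matrix (Fin r) (Fin r) R) (hMN : M * N = 1) (hf : ∀ i, ∑ j, M i j * x j = f i) :
    CAlgX.IsH1Regular f := by
  classical
  have hNM : N * M = 1 := mul_eq_one_comm.mp hMN
  have hN : ∀ j, ∑ k, N j k * f k = x j := fun j => by
    simp only [← hf, Finset.mul_sum]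
    rw [Finset.sum_comm]
    simp only [← mul_assoc, ← Finset.sum_mul, ← Matrix.mul_apply, hNM, Matrix.one_apply, ite_mul,
      one_mul, zero_mul, Finset.sum_ite_eq, Finset.mem_univ, if_true]
  intro a ha
  let L := Matrix.vecMulLinear N
  have hrel : ∑ j, Matrix.vecMul a M j * x j = 0 := by
    simp only [Matrix.vecMul, dotProduct, Finset.sum_mul]
    rw [Finset.sum_comm, ← ha]
    exact Finset.sum_congr rfl fun i _ => by rw [← hf i, Finset.mul_sum]; simp [mul_assoc]
  have h1 : L (Matrix.vecMul a M) = a := by
    change Matrix.vecMul (Matrix.vecMul a M) N = a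
    rw [Matrix.vecMul_vecMul, hMN, Matrix.vecMul_one]
  have hle : triv x ≤ (triv f).comap L := by
    refine Submodule.span_le.mpr ?_
    rintro _ ⟨i, j, rfl⟩
    have : L (Pi.single i (x j) - Pi.single j (x i)) =
        ∑ k, ∑ l, (N j k * N i l) • (Pi.single l (f k) - Pi.single k (f l)) := by
      change Matrix.vecMul (Pi.single i (x j) - Pi.single j (x i)) N = _
      rw [Matrix.sub_vecMul, Matrix.single_vecMul, Matrix.single_vecMul]
      ext p
      simp only [Pi.sub_apply, Finset.sum_apply, Pi.smul_apply, smul_eq_mul, mul_sub,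
        Finset.sum_sub_distrib, Pi.single_apply, mul_ite, mul_zero, Matrix.row_apply]
      congr 1
      · simp only [Finset.sum_ite_eq, Finset.mem_univ, if_true]
        rw [← hN j, Finset.sum_mul]
        exact Finset.sum_congr rfl fun k _ => by ring
      · rw [Finset.sum_comm]
        simp only [Finset.sum_ite_eq, Finset.mem_univ, if_true]
        rw [← hN i, Finset.sum_mul]
        exact Finset.sum_congr rfl fun k _ => by ring
    rw [SetLike.mem_coe, Submodule.mem_comap, this]
    exact Submodule.sum_mem _ fun k _ => Submodule.sum_mem _ fun l _ =>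
      Submodule.smul_mem _ _ (triv_mem f l k)
  have := hle (hx _ hrel)
  rwa [Submodule.mem_comap, h1] at this

variable {S : Type u} [CommRing S] [Algebra R S]

theorem map_triv {f : Fin r → R} {v : Fin r → R} (hv : v ∈ triv f) :
    (fun i => algebraMap R S (v i)) ∈ triv (fun i => algebraMap R S (f i)) := by
  classical
  suffices h : triv f ≤ ((triv fun i => algebraMap R S (f i)).restrictScalars R).comap
      (LinearMap.pi fun i => (Algebra.linearMap R S).comp (LinearMap.proj i)) from h hv
  refine Submodule.span_le.mpr ?_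
  rintro _ ⟨i, j, rfl⟩
  rw [SetLike.mem_coe, Submodule.mem_comap, Submodule.restrictScalars_mem]
  convert triv_mem (fun i => algebraMap R S (f i)) i j using 1
  ext p
  simp only [LinearMap.pi_apply, LinearMap.comp_apply, LinearMap.proj_apply, Algebra.linearMap_apply,
    Pi.sub_apply, map_sub, Pi.single_apply, apply_ite (algebraMap R S), map_zero]

/-- `H_1`-regularity is stable under flat extensions. -/
theorem isH1Regular_flat [Module.Flat R S] {f : Fin r → R} (hf : CAlgX.IsH1Regular f) :
    CAlgX.IsH1Regular (fun i => algebraMap R S (f i)) := by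
  intro b hb
  obtain ⟨k, y, c, hy, he⟩ := PPH.QR.exists_rel f b hb
  have : b = ∑ l, c l • fun i => algebraMap R S (y l i) := by
    ext i
    simp [he i]
  rw [this]
  refine Submodule.sum_mem _ fun l _ => Submodule.smul_mem _ _ (map_triv (hf (y l) ?_))
  rw [← hy l]
  exact Finset.sum_congr rfl fun i _ => mul_comm _ _

variable {f : Fin r → R}

/-- `H_1`-regularity can be checked on flat extensions not killed by the maximal ideals. -/
theorem isH1Regular_of_pointwise (h : ∀ (P : Ideal R) [P.IsMaximal], ∃ (L : Type u) (_ : CommRing L)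
      (_ : Algebra R L), Module.Flat R L ∧ P.map (algebraMap R L) ≠ ⊤ ∧
        CAlgX.IsH1Regular fun i => algebraMap R L (f i)) :
    CAlgX.IsH1Regular f := by
  classical
  intro a ha
  let M := (Fin r → R) ⧸ triv f
  let ψ : R →ₗ[R] M := LinearMap.toSpanSingleton R M ((triv f).mkQ a)
  suffices hC : LinearMap.ker ψ = ⊤ by
    have : ψ 1 = 0 := LinearMap.mem_ker.mp (hC ▸ Submodule.mem_top)
    rwa [LinearMap.toSpanSingleton_apply, one_smul, Submodule.mkQ_apply,
      Submodule.Quotient.mk_eq_zero] at this
  by_contra hne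
  obtain ⟨P, hP, hle⟩ := Ideal.exists_le_maximal (LinearMap.ker ψ) hne
  obtain ⟨L, _, _, hflat, hPL, hL⟩ := @h P hP
  haveI := hflat
  let al : Fin r → L := fun i => algebraMap R L (a i)
  have hal : ∑ i, al i * algebraMap R L (f i) = 0 := by
    simp only [al, ← map_mul, ← map_sum, ha, map_zero]
  let Φ : (Fin r → L) →ₗ[L] L ⊗[R] M :=
    Fintype.linearCombination L fun i => (1 : L) ⊗ₜ[R] (triv f).mkQ (Pi.single i 1)
  have hΦ : ∀ v : Fin r → R, Φ (fun i => algebraMap R L (v i)) = (1 : L) ⊗ₜ[R] (triv f).mkQ v := by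
    intro v
    conv_rhs => rw [pi_eq_sum_univ' v]
    simp only [map_sum, map_smul, TensorProduct.tmul_sum, TensorProduct.tmul_smul, Φ,
      Fintype.linearCombination_apply, algebraMap_smul]
  have h0 : Φ al = 0 := by
    suffices hk : triv (fun i => algebraMap R L (f i)) ≤ LinearMap.ker Φ from
      LinearMap.mem_ker.mp (hk (hL al hal))
    refine Submodule.span_le.mpr ?_
    rintro _ ⟨i, j, rfl⟩
    have e : (Pi.single i (algebraMap R L (f j)) - Pi.single j (algebraMap R L (f i)) : Fin r → L) =
        fun p => algebraMap R L ((Pi.single i (f j) - Pi.single j (f i) : Fin r → R) p) := by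
      ext p
      simp only [Pi.sub_apply, map_sub, Pi.single_apply, apply_ite (algebraMap R L), map_zero]
    rw [SetLike.mem_coe, LinearMap.mem_ker, e, hΦ, Submodule.mkQ_apply,
      (Submodule.Quotient.mk_eq_zero _).mpr (triv_mem f i j), TensorProduct.tmul_zero]
  rw [hΦ] at h0
  have hex : Function.Exact (LinearMap.ker ψ).subtype ψ := LinearMap.exact_subtype_ker_map ψ
  obtain ⟨z, hz⟩ := (Module.Flat.lTensor_exact L hex ((1 : L) ⊗ₜ[R] (1 : R))).mp (by
    rw [LinearMap.lTensor_tmul, LinearMap.toSpanSingleton_apply, one_smul]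
    exact h0)
  have hz' := congrArg (TensorProduct.rid R L) hz
  rw [TensorProduct.rid_tmul, one_smul] at hz'
  refine hPL ((Ideal.eq_top_iff_one _).mpr (hz' ▸ ?_))
  clear hz hz'
  induction z using TensorProduct.induction_on with
  | zero => simp
  | add x y hx hy => rw [map_add, map_add]; exact add_mem hx hy
  | tmul l c =>
    rw [LinearMap.lTensor_tmul, Submodule.subtype_apply, TensorProduct.rid_tmul, Algebra.smul_def]
    exact Ideal.mul_mem_right _ _ (Ideal.mem_map_of_mem _ (hle c.2))

/-- Two generating sequences with relations in the maximal ideal: `H_1`-regularity is transported. -/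
theorem isH1Regular_of_minimal {L : Type u} [CommRing L] [IsLocalRing L] {p q : ℕ} (x : Fin p → L)
    (y : Fin q → L) (hspan : Ideal.span (Set.range x) = Ideal.span (Set.range y))
    (hx : CAlgX.IsH1Regular x) (hxm : Ideal.span (Set.range x) ≤ IsLocalRing.maximalIdeal L)
    (hy : ∀ c : Fin q → L, ∑ i, c i * y i = 0 → ∀ i, c i ∈ IsLocalRing.maximalIdeal L) :
    CAlgX.IsH1Regular y := by
  classical
  choose M hM using fun i => Ideal.mem_span_range_iff_exists_fun.mp
    (hspan.ge (Ideal.subset_span ⟨i, rfl⟩) : y i ∈ Ideal.span (Set.range x))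
  choose M' hM' using fun i => Ideal.mem_span_range_iff_exists_fun.mp
    (hspan.le (Ideal.subset_span ⟨i, rfl⟩) : x i ∈ Ideal.span (Set.range y))
  have hx' : ∀ c : Fin p → L, ∑ i, c i * x i = 0 → ∀ i, c i ∈ IsLocalRing.maximalIdeal L :=
    fun c hc i => hxm (coeff_mem_of_triv (hx c hc) i)
  let k := IsLocalRing.ResidueField L
  let red := IsLocalRing.residue L
  have e1 := PPH.QR.residue_mul_eq_one y x M M' hM hM' hy
  have e2 := PPH.QR.residue_mul_eq_one x y M' M hM' hM hx'
  have hpq : p = q := by
    let E : (Fin p → k) ≃ₗ[k] (Fin q → k) := LinearEquiv.ofLinear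
      (Matrix.toLin' (Matrix.of fun i j => red (M i j))) (Matrix.toLin' (Matrix.of fun i j => red (M' i j)))
      (by rw [← Matrix.toLin'_mul, e1, Matrix.toLin'_one]) (by rw [← Matrix.toLin'_mul, e2, Matrix.toLin'_one])
    simpa using E.finrank_eq
  subst hpq
  have hu : IsUnit (Matrix.of M).det := by
    by_contra h
    have h0 : red (Matrix.of M).det = 0 := (IsLocalRing.residue_eq_zero_iff _).mpr h
    have h1 := congrArg Matrix.det e1
    rw [Matrix.det_mul, Matrix.det_one,
      show (Matrix.of fun i j => IsLocalRing.residue L (M i j)) = red.mapMatrix (Matrix.of M) from rfl,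
      ← RingHom.map_det, h0, zero_mul] at h1
    exact zero_ne_one h1
  exact isH1Regular_of_matrix y x hx (Matrix.of M) (Matrix.of M)⁻¹ (Matrix.mul_nonsing_inv _ hu) hM

/-- Locally on the spectrum generated by an `H_1`-regular sequence. -/
def IsLocallyH1 (A : Type u) [CommRing A] (J : Ideal A) : Prop :=
  ∀ (P : Ideal A) [P.IsPrime], J ≤ P → ∃ g : A, g ∉ P ∧ ∃ (r : ℕ) (f : Fin r → Localization.Away g),
    CAlgX.IsH1Regular f ∧ Ideal.span (Set.range f) = J.map (algebraMap A (Localization.Away g))

variable {A B : Type u} [CommRing A] [CommRing B] [Algebra A B]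

theorem isLocallyQuasiRegular_of_h1 {J : Ideal B} (h : IsLocallyH1 B J) :
    PP16.IsLocallyQuasiRegular B J := fun P _ hP => by
  obtain ⟨g, hg, r, f, hf, hs⟩ := h P hP
  exact ⟨g, hg, r, f, CAlg1.isQuasiRegular_of_isH1Regular f hf, hs⟩

theorem coeff_mem_of_qr {r : ℕ} {f : Fin r → R} (hf : CAlgX.IsQuasiRegular f) {a : Fin r → R}
    (ha : ∑ i, a i * f i = 0) (i : Fin r) : a i ∈ Ideal.span (Set.range f) := by
  classical
  open MvPolynomial in
  have hP : (∑ j, C (a j) * X j : MvPolynomial (Fin r) R).IsHomogeneous 1 :=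
    IsHomogeneous.sum _ _ _ fun j _ => (isHomogeneous_X R j).C_mul _
  have := hf 1 _ hP (by simp [map_sum, ha]) (Finsupp.single i 1)
  simpa [MvPolynomial.coeff_sum, MvPolynomial.coeff_C_mul, MvPolynomial.coeff_X,
    Finsupp.single_left_inj one_ne_zero, mul_ite] using this

/-- Descent of local `H_1`-regularity along faithfully flat maps. -/
theorem isLocallyH1_descend [Module.FaithfullyFlat A B] {I : Ideal A}
    (h : IsLocallyH1 B (I.map (algebraMap A B))) : IsLocallyH1 A I := by
  intro P _ hP
  obtain ⟨g, hg, r, f, hf, hspan⟩ :=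
    PPH.QR.isLocallyQuasiRegular_descend (isLocallyQuasiRegular_of_h1 h) P hP
  refine ⟨g, hg, r, f, isH1Regular_of_pointwise fun Pb _ => ?_, hspan⟩
  let Ag := Localization.Away g
  by_cases hfP : Ideal.span (Set.range f) ≤ Pb
  · let P' := Pb.comap (algebraMap A Ag)
    haveI : P'.IsPrime := Ideal.comap_isPrime _ _
    obtain ⟨⟨Q, hQ⟩, hQP⟩ := PrimeSpectrum.comap_surjective_of_faithfullyFlat (A := A) (B := B) ⟨P', ‹_›⟩
    have hPQ : Q.comap (algebraMap A B) = P' := congrArg PrimeSpectrum.asIdeal hQP
    haveI : Q.IsPrime := hQ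
    have hIP' : I ≤ P' := Ideal.map_le_iff_le_comap.mp (hspan ▸ hfP)
    obtain ⟨k, hk, r', x, hx, hxspan⟩ := h Q (Ideal.map_le_iff_le_comap.mpr (hPQ ▸ hIP'))
    let L := Localization.AtPrime Q
    have hgL : IsUnit (algebraMap A L g) := by
      rw [IsScalarTower.algebraMap_apply A B L]
      refine IsLocalization.map_units L (⟨algebraMap A B g, fun hc => ?_⟩ : Q.primeCompl)
      have hgP' : g ∈ P' := hPQ ▸ Ideal.mem_comap.mpr hc
      exact (‹Pb.IsMaximal›.ne_top) (Ideal.eq_top_of_isUnit_mem _ hgP' (IsLocalization.Away.algebraMap_isUnit g))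
    have hkL : IsUnit (algebraMap B L k) := IsLocalization.map_units L (⟨k, hk⟩ : Q.primeCompl)
    letI : Algebra Ag L := (IsLocalization.Away.lift g hgL).toAlgebra
    haveI : IsScalarTower A Ag L := IsScalarTower.of_algebraMap_eq fun a =>
      (IsLocalization.Away.lift_eq (S := Ag) g hgL a).symm
    letI : Algebra (Localization.Away k) L := (IsLocalization.Away.lift k hkL).toAlgebra
    haveI : IsScalarTower B (Localization.Away k) L := IsScalarTower.of_algebraMap_eq fun a =>
      (IsLocalization.Away.lift_eq (S := Localization.Away k) k hkL a).symm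
    haveI : Module.Flat B L := IsLocalization.flat L Q.primeCompl
    haveI : Module.Flat A L := Module.Flat.trans A B L
    haveI hflat : Module.Flat Ag L :=
      (Module.flat_iff_of_isLocalization Ag (Submonoid.powers g) L).mpr inferInstance
    haveI : Module.Flat (Localization.Away k) L :=
      (Module.flat_iff_of_isLocalization (Localization.Away k) (Submonoid.powers k) L).mpr inferInstance
    have hPbL : Pb.map (algebraMap Ag L) ≤ IsLocalRing.maximalIdeal L := by
      rw [← IsLocalization.map_comap (Submonoid.powers g) Ag Pb, Ideal.map_map,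
        ← IsScalarTower.algebraMap_eq, IsScalarTower.algebraMap_eq A B L, ← Ideal.map_map,
        ← Localization.AtPrime.map_eq_maximalIdeal]
      exact Ideal.map_mono (Ideal.map_le_iff_le_comap.mpr hPQ.ge)
    refine ⟨L, inferInstance, inferInstance, hflat,
      fun hc => (IsLocalRing.maximalIdeal.isMaximal L).ne_top (top_le_iff.mp (hc ▸ hPbL)), ?_⟩
    have sp : ∀ {C : Type u} [CommRing C] [Algebra C L] {m : ℕ} (y : Fin m → C),
        Ideal.span (Set.range fun i => algebraMap C L (y i)) = (Ideal.span (Set.range y)).map (algebraMap C L) :=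
      fun y => by rw [Ideal.map_span, ← Set.range_comp]; rfl
    have e : Ideal.span (Set.range fun i => algebraMap (Localization.Away k) L (x i)) =
        Ideal.span (Set.range fun i => algebraMap Ag L (f i)) := by
      rw [sp, sp, hxspan, hspan, Ideal.map_map, Ideal.map_map, Ideal.map_map,
        ← IsScalarTower.algebraMap_eq, ← IsScalarTower.algebraMap_eq, ← IsScalarTower.algebraMap_eq]
    refine isH1Regular_of_minimal _ _ e (isH1Regular_flat hx) ?_ fun c hc i => ?_
    · rw [e, sp]
      exact (Ideal.map_mono hfP).trans hPbL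
    · obtain ⟨n, y, d, hy, he⟩ := PPH.QR.exists_rel f c hc
      rw [he i]
      refine Submodule.sum_mem _ fun l _ => Ideal.mul_mem_left _ _ (hPbL (Ideal.mem_map_of_mem _ (hfP ?_)))
      exact coeff_mem_of_qr hf (by rw [← hy l]; exact Finset.sum_congr rfl fun j _ => mul_comm _ _) i
  · refine ⟨Localization.AtPrime Pb, inferInstance, inferInstance, IsLocalization.flat _ Pb.primeCompl, ?_, ?_⟩
    · rw [Localization.AtPrime.map_eq_maximalIdeal]
      exact (IsLocalRing.maximalIdeal.isMaximal _).ne_top
    · refine isH1Regular_of_span_eq_top ?_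
      obtain ⟨z, hz, hzP⟩ := SetLike.not_le_iff_exists.mp hfP
      rw [show Ideal.span (Set.range fun i => algebraMap Ag (Localization.AtPrime Pb) (f i)) =
        (Ideal.span (Set.range f)).map (algebraMap Ag (Localization.AtPrime Pb)) by
          rw [Ideal.map_span, ← Set.range_comp]; rfl]
      exact Ideal.eq_top_of_isUnit_mem _ (Ideal.mem_map_of_mem _ hz)
        (IsLocalization.map_units _ (⟨z, hzP⟩ : Pb.primeCompl))

end Groth.Agent.RegImm10.H1D
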