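import Groth.Prelude.Def_RegImm
import Groth.Prelude.Def_DRing2
import Groth.Agent.EGA4Alg4.CMMod
import Groth.Agent.FCx40.TorBC
import Groth.Agent.IntMult12.KoszulTor
import Groth.Agent.IntMult12.DiagLocal
import Groth.Agent.RegImm99.Stalk
import Mathlib

/-!
# Intersections of regular immersions in Cohen–Macaulay schemes
-/

set_option autoImplicit false
universe u

open CategoryTheory CategoryTheory.Limits AlgebraicGeometry
open RingTheory.Sequence
open scoped TensorProduct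

namespace Groth.Agent.RegImm10.InterCM

/-- Tor against the quotient by a regular sequence that stays regular -/
theorem subsingleton_tor {A : Type u} [CommRing A] (l : List A) (hA : IsWeaklyRegular A l) (M : Type u)
    [AddCommGroup M] [Module A M] (hM : IsWeaklyRegular M l) (p : ℕ) (hp : 0 < p) :
    Subsingleton (DRing.Tor A p M (A ⧸ Ideal.ofList l)) := by
  rw [← Module.length_eq_zero_iff (R := A), IntMult12.length_tor l (Koszul19.kR_of_isWeaklyRegular l hA) M p]
  clear hA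
  induction l generalizing M with
  | nil => exact LC17.hlen_eq_zero _ M _ (by simp; omega)
  | cons r l ih =>
    rw [isWeaklyRegular_cons_iff] at hM
    rw [LC17.hlen_cons_regular l r M hM.1]
    exact ih _ hM.2

/-- In a CM local ring, sequences with the expected codimension form regular sequences. -/
theorem weaklyRegular_append {R : Type u} [CommRing R] [LocCoh.IsCohenMacaulayLocalRing R]
    (as bs : List R) (hm : ∀ r ∈ as ++ bs, r ∈ IsLocalRing.maximalIdeal R)
    (H : ∀ q : PrimeSpectrum R, Ideal.ofList (as ++ bs) ≤ q.asIdeal →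
      (((as.length + bs.length : ℕ) : ℕ∞) : WithBot ℕ∞) ≤ (q.asIdeal.height : WithBot ℕ∞)) :
    IsWeaklyRegular R (as ++ bs) := by
  let J := Ideal.ofList (as ++ bs)
  refine EGA4Alg4.isWeaklyRegular_of_supportDim LocCoh.IsCohenMacaulayLocalRing.supportDim_eq_depth hm
    (le_antisymm ?_ (EGA4Alg4.supportDim_le_quotient_add_length hm))
  let eM : (R ⧸ (J • (⊤ : Submodule R R))) ≃ₗ[R] (R ⧸ J) :=
    Submodule.quotEquivOfEq _ _ (by rw [smul_eq_mul, Ideal.mul_top])
  rw [Module.supportDim_eq_of_equiv eM, Module.supportDim_quotient_eq_ringKrullDim,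
    Module.supportDim_self_eq_ringKrullDim, ringKrullDim_quotient]
  rcases isEmpty_or_nonempty (PrimeSpectrum.zeroLocus (J : Set R)) with hE | hE
  · rw [Order.krullDim_eq_bot, WithBot.bot_add]; exact bot_le
  rw [Order.krullDim_eq_iSup_coheight_of_nonempty, ← WithBot.coe_natCast, ← WithBot.coe_add, ringKrullDim,
    Order.krullDim_eq_iSup_height_add_coheight_of_nonempty, WithBot.coe_le_coe, ENat.iSup_add]
  refine iSup_le fun q => le_trans ?_ (le_iSup (fun a => Order.height a + Order.coheight a) q.1)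
  rw [add_comm]
  refine add_le_add ?_ ?_
  · have h := H q.1 q.2
    rw [WithBot.coe_le_coe, PrimeSpectrum.height_eq_orderHeight] at h
    rw [List.length_append]
    exact h
  · exact Order.coheight_le_coheight_apply_of_strictMono Subtype.val (fun _ _ h => h) q

theorem ideal_ne_top_iff_mem_range {Y X : Scheme.{u}} (i : Y ⟶ X) [IsClosedImmersion i] (U : X.affineOpens)
    (x : X) (hx : x ∈ U.1) :
    (i.ker.ideal U).map (X.presheaf.germ U.1 x hx).hom ≤ IsLocalRing.maximalIdeal (X.presheaf.stalk x) ↔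
      x ∈ Set.range i := by
  have h0 : x ∈ Set.range i ↔ x ∈ i.ker.support := by
    rw [← SetLike.mem_coe, Scheme.Hom.support_ker, i.isClosedEmbedding.isClosed_range.closure_eq]
  rw [h0, Scheme.IdealSheafData.mem_support_iff_of_mem hx, Scheme.mem_zeroLocus_iff, Ideal.map_le_iff_le_comap]
  refine forall_congr' fun r => forall_congr' fun _ => ?_
  rw [X.mem_basicOpen r x hx, Ideal.mem_comap, IsLocalRing.mem_maximalIdeal, mem_nonunits_iff]

/-- the stalk of an ideal sheaf can be computed on any affine open -/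
theorem map_germ_eq {X : Scheme.{u}} (I : X.IdealSheafData) (U V : X.affineOpens) (x : X) (hxU : x ∈ U.1)
    (hxV : x ∈ V.1) :
    (I.ideal U).map (X.presheaf.germ U.1 x hxU).hom = (I.ideal V).map (X.presheaf.germ V.1 x hxV).hom := by
  have key : ∀ (W U : X.affineOpens) (h : W.1 ≤ U.1) (hxW : x ∈ W.1),
      (I.ideal W).map (X.presheaf.germ W.1 x hxW).hom = (I.ideal U).map (X.presheaf.germ U.1 x (h hxW)).hom := by
    intro W U h hxW
    rw [← I.map_ideal' (U := W) (V := U) (homOfLE h).op, Ideal.map_map, ← CommRingCat.hom_comp]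
    exact congrArg (fun φ => Ideal.map (CommRingCat.Hom.hom φ) (I.ideal U)) (X.presheaf.germ_res (homOfLE h) x hxW)
  obtain ⟨_, ⟨W, hW, rfl⟩, hxW, hle⟩ :=
    X.isBasis_affineOpens.exists_subset_of_mem_open (show x ∈ U.1 ⊓ V.1 from ⟨hxU, hxV⟩) (U.1 ⊓ V.1).2
  rw [← key ⟨W, hW⟩ U (fun y hy => (hle hy).1) hxW, ← key ⟨W, hW⟩ V (fun y hy => (hle hy).2) hxW]

/-- local equations of a regular closed immersion, in the stalk of any affine open -/
theorem exists_stalk_seq {Y X : Scheme.{u}} (i : Y ⟶ X) [IsClosedImmersion i] (a : ℕ)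
    (hi : RegImm.IsRegularImmersionOfCodim RegImm.Kind.regular a i) (x : X) (hx : x ∈ Set.range i) :
    ∃ (U₀ : X.affineOpens) (hx₀ : x ∈ U₀.1) (rs : List Γ(X, U₀.1)), rs.length = a ∧
      i.ker.ideal U₀ = Ideal.ofList rs ∧
      IsWeaklyRegular (X.presheaf.stalk x) (rs.map (X.presheaf.germ U₀.1 x hx₀).hom) := by
  obtain ⟨z, rfl⟩ := hx
  obtain ⟨U₀, hz, -, rs, hlen, hreg, hker⟩ := hi.2 z
  refine ⟨U₀, hz, rs, hlen, by rw [Scheme.Hom.ker_apply, hker], ?_⟩
  let : Algebra Γ(X, U₀.1) (X.presheaf.stalk (i z)) := X.presheaf.algebra_section_stalk ⟨i z, hz⟩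
  have := U₀.2.isLocalization_stalk ⟨i z, hz⟩
  exact hreg.toIsWeaklyRegular.of_isLocalization (X.presheaf.stalk (i z))
    (U₀.2.primeIdealOf ⟨i z, hz⟩).asIdeal.primeCompl

/-- primes of a stalk are generisations of the point -/
theorem exists_point {X : Scheme.{u}} (U : X.affineOpens) (x : X) (hx : x ∈ U.1)
    (q : Ideal (X.presheaf.stalk x)) [q.IsPrime] :
    ∃ (x' : X) (hx' : x' ∈ U.1), ringKrullDim (X.presheaf.stalk x') = (q.height : WithBot ℕ∞) ∧
      ∀ I : Ideal Γ(X, U.1), I.map (X.presheaf.germ U.1 x hx).hom ≤ q →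
        I.map (X.presheaf.germ U.1 x' hx').hom ≤ IsLocalRing.maximalIdeal (X.presheaf.stalk x') := by
  let : Algebra Γ(X, U.1) (X.presheaf.stalk x) := X.presheaf.algebra_section_stalk ⟨x, hx⟩
  have := U.2.isLocalization_stalk ⟨x, hx⟩
  let P : PrimeSpectrum Γ(X, U.1) := ⟨q.comap (algebraMap _ _), Ideal.comap_isPrime _ _⟩
  have hU : IsAffineOpen U.1 := U.2
  have hx' : hU.fromSpec P ∈ U.1 := by
    rw [← SetLike.mem_coe, ← hU.range_fromSpec]; exact ⟨P, rfl⟩
  let a' : Algebra Γ(X, U.1) (X.presheaf.stalk (hU.fromSpec P)) := X.presheaf.algebra_section_stalk ⟨_, hx'⟩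
  have : IsLocalization.AtPrime (X.presheaf.stalk (hU.fromSpec P)) P.asIdeal := hU.isLocalization_stalk' P hx'
  refine ⟨hU.fromSpec P, hx', ?_, fun I hI => ?_⟩
  · rw [IsLocalization.AtPrime.ringKrullDim_eq_height P.asIdeal]
    refine congrArg _ ?_
    exact IsLocalization.height_under (U.2.primeIdealOf ⟨x, hx⟩).asIdeal.primeCompl q
  · rw [Ideal.map_le_iff_le_comap] at hI ⊢
    intro r hr
    have h := (IsLocalization.AtPrime.to_map_mem_maximal_iff (X.presheaf.stalk (hU.fromSpec P)) P.asIdeal r).2 (hI hr)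
    exact h

variable {X Y Z : Scheme.{u}}

theorem stalk_data (hCM : ∀ x : X, LocCoh.IsCohenMacaulayLocalRing (X.presheaf.stalk x))
    (iY : Y ⟶ X) (iZ : Z ⟶ X) [IsClosedImmersion iY] [IsClosedImmersion iZ] (a b : ℕ)
    (hY : RegImm.IsRegularImmersionOfCodim RegImm.Kind.regular a iY)
    (hZ : RegImm.IsRegularImmersionOfCodim RegImm.Kind.regular b iZ)
    (hcodim : ∀ w : ↥(pullback iY iZ), ((a + b : ℕ) : WithBot ℕ∞) ≤
      ringKrullDim (X.presheaf.stalk ((pullback.fst iY iZ ≫ iY).base w)))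
    (U : X.affineOpens) (x : X) (hx : x ∈ U.1) (hxY : x ∈ Set.range iY) (hxZ : x ∈ Set.range iZ) :
    ∃ as bs : List (X.presheaf.stalk x), as.length = a ∧ bs.length = b ∧
      (iY.ker.ideal U).map (X.presheaf.germ U.1 x hx).hom = Ideal.ofList as ∧
      (iZ.ker.ideal U).map (X.presheaf.germ U.1 x hx).hom = Ideal.ofList bs ∧
      IsWeaklyRegular (X.presheaf.stalk x) bs ∧ IsWeaklyRegular (X.presheaf.stalk x) (as ++ bs) := by
  have := hCM x
  obtain ⟨U₁, hx₁, rs, hrs, hI, -⟩ := exists_stalk_seq iY a hY x hxY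
  obtain ⟨U₂, hx₂, ss, hss, hK, hbs⟩ := exists_stalk_seq iZ b hZ x hxZ
  let as := rs.map (X.presheaf.germ U₁.1 x hx₁).hom
  let bs := ss.map (X.presheaf.germ U₂.1 x hx₂).hom
  have ha : (iY.ker.ideal U).map (X.presheaf.germ U.1 x hx).hom = Ideal.ofList as := by
    rw [map_germ_eq iY.ker U U₁ x hx hx₁, hI, Ideal.map_ofList]
  have hb : (iZ.ker.ideal U).map (X.presheaf.germ U.1 x hx).hom = Ideal.ofList bs := by
    rw [map_germ_eq iZ.ker U U₂ x hx hx₂, hK, Ideal.map_ofList]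
  have hA : as.length = a := by simp [as, hrs]
  have hB : bs.length = b := by simp [bs, hss]
  refine ⟨as, bs, hA, hB, ha, hb, hbs, weaklyRegular_append as bs ?_ ?_⟩
  · intro r hr
    rcases List.mem_append.1 hr with h | h
    · exact (ha ▸ (ideal_ne_top_iff_mem_range iY U x hx).2 hxY) (Ideal.subset_span h)
    · exact (hb ▸ (ideal_ne_top_iff_mem_range iZ U x hx).2 hxZ) (Ideal.subset_span h)
  · intro q hq
    rw [Ideal.ofList_append, sup_le_iff, ← ha, ← hb] at hq
    obtain ⟨x', hx', hdim, hmem⟩ := exists_point U x hx q.asIdeal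
    obtain ⟨y, hy⟩ := (ideal_ne_top_iff_mem_range iY U x' hx').1 (hmem _ hq.1)
    obtain ⟨z, hz⟩ := (ideal_ne_top_iff_mem_range iZ U x' hx').1 (hmem _ hq.2)
    obtain ⟨w, hw1, -⟩ := Scheme.Pullback.exists_preimage_pullback y z (hy.trans hz.symm)
    have h := hcodim w
    have hw : (pullback.fst iY iZ ≫ iY).base w = x' := by
      show iY (pullback.fst iY iZ w) = x'
      rw [hw1, hy]
    rw [hw, hdim] at h
    rw [hA, hB]
    exact h

/-- the Tor modules of the two structure sheaves vanish on affine opens -/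
theorem subsingleton_tor_app (hCM : ∀ x : X, LocCoh.IsCohenMacaulayLocalRing (X.presheaf.stalk x))
    (iY : Y ⟶ X) (iZ : Z ⟶ X) [IsClosedImmersion iY] [IsClosedImmersion iZ] (a b : ℕ)
    (hY : RegImm.IsRegularImmersionOfCodim RegImm.Kind.regular a iY)
    (hZ : RegImm.IsRegularImmersionOfCodim RegImm.Kind.regular b iZ)
    (hcodim : ∀ w : ↥(pullback iY iZ), ((a + b : ℕ) : WithBot ℕ∞) ≤
      ringKrullDim (X.presheaf.stalk ((pullback.fst iY iZ ≫ iY).base w)))
    (U : X.affineOpens) (n : ℕ) (hn : 0 < n) :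
    Subsingleton (DRing.Tor Γ(X, U.1) n (Γ(X, U.1) ⧸ iY.ker.ideal U) (Γ(X, U.1) ⧸ iZ.ker.ideal U)) := by
  let A := Γ(X, U.1)
  let I := iY.ker.ideal U
  let K := iZ.ker.ideal U
  let T := DRing.Tor A n (A ⧸ I) (A ⧸ K)
  show Subsingleton T
  refine subsingleton_of_forall_eq 0 fun t => ?_
  by_contra ht
  obtain ⟨P, hPm, hPle⟩ := Ideal.exists_le_maximal ((Submodule.span A {t}).annihilator) (by
    rw [Ne, Ideal.eq_top_iff_one, Submodule.mem_annihilator_span_singleton, one_smul]; exact ht)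
  let p : PrimeSpectrum A := ⟨P, hPm.isPrime⟩
  have hx : U.2.fromSpec p ∈ U.1 := by
    rw [← SetLike.mem_coe, ← U.2.range_fromSpec]; exact ⟨p, rfl⟩
  let x := U.2.fromSpec p
  let L : Type u := X.presheaf.stalk x
  let : Algebra A L := X.presheaf.algebra_section_stalk ⟨x, hx⟩
  have : IsLocalization.AtPrime L P := U.2.isLocalization_stalk' p hx
  have : Module.Flat A L := IsLocalization.flat L P.primeCompl
  obtain ⟨e⟩ := FCx40.nonempty_tor_flat_baseChange (A := (A : Type u)) (A' := L) ((A : Type u) ⧸ I) ((A : Type u) ⧸ K) n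
  suffices h0 : Subsingleton (DRing.Tor L n (L ⊗[A] (A ⧸ I)) (L ⊗[A] (A ⧸ K))) by
    have : IsLocalizedModule P.primeCompl (TensorProduct.mk A L T 1) :=
      (isLocalizedModule_iff_isBaseChange P.primeCompl L _).2 (TensorProduct.isBaseChange A T L)
    have h : TensorProduct.mk A L T 1 t = 0 := e.injective (Subsingleton.elim _ _)
    obtain ⟨s, hs⟩ := (IsLocalizedModule.eq_zero_iff P.primeCompl _).1 h
    exact s.2 (hPle ((Submodule.mem_annihilator_span_singleton _ _).2 hs))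
  let IL := I.map (algebraMap A L)
  let KL := K.map (algebraMap A L)
  let eI : (L ⊗[A] (A ⧸ I)) ≃ₗ[L] (L ⧸ IL) := (Algebra.TensorProduct.quotIdealMapEquivTensorQuot L I).symm.toLinearEquiv
  let eK : (L ⊗[A] (A ⧸ K)) ≃ₗ[L] (L ⧸ KL) := (Algebra.TensorProduct.quotIdealMapEquivTensorQuot L K).symm.toLinearEquiv
  suffices h1 : ∃ l : List L, Ideal.ofList l = KL ∧ IsWeaklyRegular L l ∧ IsWeaklyRegular (L ⧸ IL) l by
    obtain ⟨l, hl, hlA, hlM⟩ := h1
    have := subsingleton_tor l hlA (L ⧸ IL) hlM n hn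
    let eK' := eK.trans (Submodule.quotEquivOfEq _ _ hl.symm)
    exact (((CategoryTheory.Tor (ModuleCat.{u} L) n).mapIso eI.toModuleIso).app _ ≪≫
      ((CategoryTheory.Tor (ModuleCat.{u} L) n).obj _).mapIso eK'.toModuleIso).toLinearEquiv.toEquiv.subsingleton
  by_cases hxZ : x ∈ Set.range iZ
  swap
  · have hKL : KL = ⊤ := by
      by_contra h
      exact hxZ ((ideal_ne_top_iff_mem_range iZ U x hx).1 (IsLocalRing.le_maximalIdeal h))
    exact ⟨[1], by rw [Ideal.ofList_singleton, Ideal.span_singleton_one, hKL],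
      (isWeaklyRegular_singleton_iff _ _).2 (IsSMulRegular.one L),
      (isWeaklyRegular_singleton_iff _ _).2 (IsSMulRegular.one _)⟩
  by_cases hxY : x ∈ Set.range iY
  swap
  · have hIL : IL = ⊤ := by
      by_contra h
      exact hxY ((ideal_ne_top_iff_mem_range iY U x hx).1 (IsLocalRing.le_maximalIdeal h))
    obtain ⟨U₂, hx₂, ss, hss, hK, hbs⟩ := exists_stalk_seq iZ b hZ x hxZ
    refine ⟨_, ?_, hbs, ?_⟩
    · show _ = (iZ.ker.ideal U).map (X.presheaf.germ U.1 x hx).hom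
      rw [map_germ_eq iZ.ker U U₂ x hx hx₂, hK, Ideal.map_ofList]
    · have : Subsingleton (L ⧸ IL) := Ideal.Quotient.subsingleton_iff.2 hIL
      exact ⟨fun i hi => fun x y _ => Subsingleton.elim _ _⟩
  obtain ⟨as, bs, -, -, ha, hb, hbs, hab⟩ := stalk_data hCM iY iZ a b hY hZ hcodim U x hx hxY hxZ
  refine ⟨bs, hb.symm, hbs, ?_⟩
  have h := ((isWeaklyRegular_append_iff _ as bs).1 hab).2
  exact ((Submodule.quotEquivOfEq _ _ (by rw [smul_eq_mul, Ideal.mul_top]; exact ha.symm) :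
    (L ⧸ (Ideal.ofList as • (⊤ : Submodule L L))) ≃ₗ[L] (L ⧸ IL)).isWeaklyRegular_congr bs).1 h

/-- the ideal of a scheme-theoretic intersection of closed subschemes -/
theorem ker_pullback (iY : Y ⟶ X) (iZ : Z ⟶ X) [IsClosedImmersion iY] [IsClosedImmersion iZ] (U : X.affineOpens) :
    RingHom.ker ((pullback.fst iY iZ ≫ iY).app U.1).hom = iY.ker.ideal U ⊔ iZ.ker.ideal U := by
  let w := pullback.fst iY iZ ≫ iY
  let R := Γ(X, U.1)
  let J := iY.ker.ideal U ⊔ iZ.ker.ideal U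
  refine le_antisymm ?_ (sup_le ?_ ?_)
  · have hsY := (RegImm99.app_surjective iY U.2).2
    have hsZ := (RegImm99.app_surjective iZ U.2).2
    intro r hr
    let ρY : Γ(Y, iY ⁻¹ᵁ U.1) →+* R ⧸ J := (iY.app U.1).hom.liftOfSurjective hsY ⟨Ideal.Quotient.mk J, by
      rw [Ideal.mk_ker, ← Scheme.Hom.ker_apply iY U]; exact le_sup_left⟩
    let ρZ : Γ(Z, iZ ⁻¹ᵁ U.1) →+* R ⧸ J := (iZ.app U.1).hom.liftOfSurjective hsZ ⟨Ideal.Quotient.mk J, by
      rw [Ideal.mk_ker, ← Scheme.Hom.ker_apply iZ U]; exact le_sup_right⟩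
    have hc : iY.app U.1 ≫ CommRingCat.ofHom ρY = iZ.app U.1 ≫ CommRingCat.ofHom ρZ := by
      ext a
      show ρY ((iY.app U.1).hom a) = ρZ ((iZ.app U.1).hom a)
      simp only [ρY, ρZ]
      erw [RingHom.liftOfSurjective_comp_apply, RingHom.liftOfSurjective_comp_apply]
    have hpo : IsPushout (iY.app U.1) (iZ.app U.1)
        ((pullback.fst iY iZ).app (iY ⁻¹ᵁ U.1))
        ((pullback.snd iY iZ).appLE (iZ ⁻¹ᵁ U.1) (pullback.fst iY iZ ⁻¹ᵁ iY ⁻¹ᵁ U.1) (by
          rw [← Scheme.Hom.comp_preimage, pullback.condition]; exact le_rfl)) := by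
      have hsq := IsPullback.of_hasPullback iY iZ
      have e : pullback.fst iY iZ ⁻¹ᵁ iY ⁻¹ᵁ U.1 = pullback.fst iY iZ ⁻¹ᵁ iY ⁻¹ᵁ U.1 ⊓ pullback.snd iY iZ ⁻¹ᵁ iZ ⁻¹ᵁ U.1 := by
        refine (inf_eq_left.2 ?_).symm
        rw [← Scheme.Hom.comp_preimage, ← Scheme.Hom.comp_preimage, pullback.condition]
      have hh := isIso_pushoutSection_of_isAffineOpen hsq le_rfl le_rfl e U.2
        (RegImm99.app_surjective iZ U.2).1 (RegImm99.app_surjective iY U.2).1
      have := (isIso_pushoutSection_iff hsq le_rfl le_rfl e).1 hh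
      simp only [Scheme.Hom.app_eq_appLE]
      exact this
    rw [← Ideal.Quotient.eq_zero_iff_mem]
    obtain ⟨u, h1, -⟩ : ∃ u, (pullback.fst iY iZ).app (iY ⁻¹ᵁ U.1) ≫ u = CommRingCat.ofHom ρY ∧ True :=
      ⟨hpo.desc _ _ hc, hpo.inl_desc _ _ _, trivial⟩
    calc Ideal.Quotient.mk J r = ρY ((iY.app U.1).hom r) := by
          simp only [ρY]; erw [RingHom.liftOfSurjective_comp_apply]
      _ = u.hom (((pullback.fst iY iZ).app (iY ⁻¹ᵁ U.1)).hom ((iY.app U.1).hom r)) := by
        conv_lhs => rw [show ρY = (CommRingCat.ofHom ρY).hom from rfl, ← h1]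
        rfl
      _ = 0 := by
        rw [show ((pullback.fst iY iZ).app (iY ⁻¹ᵁ U.1)).hom ((iY.app U.1).hom r) = 0 from hr, map_zero]
  · rw [← Scheme.Hom.ker_apply w U]
    exact (pullback.fst iY iZ).le_ker_comp iY U
  · rw [← Scheme.Hom.ker_apply w U, show w = pullback.snd iY iZ ≫ iZ from pullback.condition]
    exact (pullback.snd iY iZ).le_ker_comp iZ U

theorem isRegularImmersion_inter [IsLocallyNoetherian X]
    (hCM : ∀ x : X, LocCoh.IsCohenMacaulayLocalRing (X.presheaf.stalk x))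
    (iY : Y ⟶ X) (iZ : Z ⟶ X) [IsClosedImmersion iY] [IsClosedImmersion iZ] (a b : ℕ)
    (hY : RegImm.IsRegularImmersionOfCodim RegImm.Kind.regular a iY)
    (hZ : RegImm.IsRegularImmersionOfCodim RegImm.Kind.regular b iZ)
    (hcodim : ∀ w : ↥(pullback iY iZ), ((a + b : ℕ) : WithBot ℕ∞) ≤
      ringKrullDim (X.presheaf.stalk ((pullback.fst iY iZ ≫ iY).base w))) :
    RegImm.IsRegularImmersionOfCodim RegImm.Kind.regular (a + b) (pullback.fst iY iZ ≫ iY) := by
  let w := pullback.fst iY iZ ≫ iY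
  refine ⟨inferInstance, fun t => ?_⟩
  let x := w t
  have hxY : x ∈ Set.range iY := ⟨_, rfl⟩
  have hxZ : x ∈ Set.range iZ := ⟨pullback.snd iY iZ t, by
    show (pullback.snd iY iZ ≫ iZ) t = (pullback.fst iY iZ ≫ iY) t
    rw [pullback.condition]⟩
  obtain ⟨U₁, hx₁, rs, hrs, hI, -⟩ := exists_stalk_seq iY a hY x hxY
  obtain ⟨U₂, hx₂, ss, hss, hK, -⟩ := exists_stalk_seq iZ b hZ x hxZ
  obtain ⟨_, ⟨U, hU, rfl⟩, hx, hle⟩ :=
    X.isBasis_affineOpens.exists_subset_of_mem_open (show x ∈ U₁.1 ⊓ U₂.1 from ⟨hx₁, hx₂⟩) (U₁.1 ⊓ U₂.1).2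
  let V : X.affineOpens := ⟨U, hU⟩
  have h1 : V.1 ≤ U₁.1 := fun y hy => (hle hy).1
  have h2 : V.1 ≤ U₂.1 := fun y hy => (hle hy).2
  let A := Γ(X, U)
  let rs' := rs.map (X.presheaf.map (homOfLE h1).op).hom
  let ss' := ss.map (X.presheaf.map (homOfLE h2).op).hom
  let J : Ideal A := iY.ker.ideal V ⊔ iZ.ker.ideal V
  have hJ : J = Ideal.ofList (rs' ++ ss') := by
    rw [Ideal.ofList_append, ← Ideal.map_ofList, ← Ideal.map_ofList, ← hI, ← hK]
    exact congrArg₂ (· ⊔ ·) (iY.ker.map_ideal' (U := V) (V := U₁) (homOfLE h1).op).symm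
      (iZ.ker.map_ideal' (U := V) (V := U₂) (homOfLE h2).op).symm
  have : IsNoetherianRing A := IsLocallyNoetherian.component_noetherian V
  let L : Type u := X.presheaf.stalk x
  let : Algebra A L := X.presheaf.algebra_section_stalk ⟨x, hx⟩
  have : IsLocalization.AtPrime L (hU.primeIdealOf ⟨x, hx⟩).asIdeal := hU.isLocalization_stalk ⟨x, hx⟩
  have hIp : J ≤ (hU.primeIdealOf ⟨x, hx⟩).asIdeal := by
    intro r hr
    rw [← IsLocalization.AtPrime.to_map_mem_maximal_iff L (hU.primeIdealOf ⟨x, hx⟩).asIdeal r]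
    exact (sup_le (Ideal.map_le_iff_le_comap.1 ((ideal_ne_top_iff_mem_range iY V x hx).2 hxY))
      (Ideal.map_le_iff_le_comap.1 ((ideal_ne_top_iff_mem_range iZ V x hx).2 hxZ)) : J ≤ _) hr
  have := hCM x
  have hw : IsWeaklyRegular L ((rs' ++ ss').map (algebraMap A L)) := by
    rw [List.map_append]
    refine weaklyRegular_append _ _ (fun r hr => ?_) fun q hq => ?_
    · rw [← List.map_append] at hr
      obtain ⟨s, hs, rfl⟩ := List.mem_map.1 hr
      exact (IsLocalization.AtPrime.to_map_mem_maximal_iff L (hU.primeIdealOf ⟨x, hx⟩).asIdeal s).2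
        (hIp (hJ ▸ Ideal.subset_span hs))
    · rw [← List.map_append, ← Ideal.map_ofList, ← hJ, Ideal.map_sup, sup_le_iff] at hq
      obtain ⟨x', hx', hdim, hmem⟩ := exists_point V x hx q.asIdeal
      obtain ⟨y, hy⟩ := (ideal_ne_top_iff_mem_range iY V x' hx').1 (hmem _ hq.1)
      obtain ⟨z, hz⟩ := (ideal_ne_top_iff_mem_range iZ V x' hx').1 (hmem _ hq.2)
      obtain ⟨v, hv1, -⟩ := Scheme.Pullback.exists_preimage_pullback y z (hy.trans hz.symm)
      have h := hcodim v
      have hv : (pullback.fst iY iZ ≫ iY).base v = x' := by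
        show iY (pullback.fst iY iZ v) = x'
        rw [hv1, hy]
      rw [hv, hdim] at h
      simpa [rs', ss', hrs, hss] using h
  obtain ⟨g, hg, hspec⟩ := IntMult12.exists_away_regular (hU.primeIdealOf ⟨x, hx⟩).asIdeal (rs' ++ ss') J hIp
    hJ.ge L (by rw [hJ]) hw
  let : Algebra A Γ(X, X.basicOpen g) := (X.presheaf.map (homOfLE (X.basicOpen_le g)).op).hom.toAlgebra
  obtain ⟨hreg, hgen⟩ := hspec _ (hU.isLocalization_basicOpen g)
  refine ⟨X.affineBasicOpen (U := V) g, ?_, IsZariskiLocalAtTarget.restrict (P := @IsClosedImmersion) inferInstance _,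
    (rs' ++ ss').map (algebraMap A Γ(X, X.basicOpen g)), (List.length_map _).trans (List.length_append.trans (congrArg₂ (· + ·) ((List.length_map _).trans hrs) ((List.length_map _).trans hss))), hreg, ?_⟩
  · show x ∈ X.basicOpen g
    rw [X.mem_basicOpen g x hx]
    exact IsLocalization.map_units L (⟨g, hg⟩ : (hU.primeIdealOf ⟨x, hx⟩).asIdeal.primeCompl)
  · refine ((Scheme.Hom.ker_apply w (X.affineBasicOpen (U := V) g)).symm.trans ?_)
    rw [← w.ker.map_ideal (U := X.affineBasicOpen (U := V) g) (V := V) (X.basicOpen_le g)]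
    refine Eq.trans ?_ hgen
    rw [Scheme.Hom.ker_apply, ker_pullback]
    rfl

end Groth.Agent.RegImm10.InterCM
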