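import Groth.Agent.Proper99.Basic
import Groth.Agent.EGA4H10.Catenary
import Groth.Prelude.Def_BlowUp2
import Mathlib

/-!
# An effective Cartier divisor meets an integral subscheme properly on a catenary irreducible scheme
-/

set_option autoImplicit false
universe u

open CategoryTheory AlgebraicGeometry

namespace Groth.Agent.RegImm10.Proper

variable {X Z : Scheme.{u}}

theorem dim_stalk_fromSpec {U : X.Opens} (hU : IsAffineOpen U) (P : PrimeSpectrum Γ(X, U)) :
    ringKrullDim (X.presheaf.stalk (hU.fromSpec P)) = (P.asIdeal.height : WithBot ℕ∞) := by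
  have hx : hU.fromSpec P ∈ U := by rw [← SetLike.mem_coe, ← hU.range_fromSpec]; exact ⟨P, rfl⟩
  let : Algebra Γ(X, U) (X.presheaf.stalk (hU.fromSpec P)) := X.presheaf.algebra_section_stalk ⟨_, hx⟩
  have : IsLocalization.AtPrime (X.presheaf.stalk (hU.fromSpec P)) P.asIdeal := hU.isLocalization_stalk' P hx
  exact IsLocalization.AtPrime.ringKrullDim_eq_height P.asIdeal _

theorem specializes_iff {U : X.Opens} (hU : IsAffineOpen U) (P Q : PrimeSpectrum Γ(X, U)) :
    (hU.fromSpec P) ⤳ (hU.fromSpec Q) ↔ P ≤ Q := by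
  rw [PrimeSpectrum.le_iff_specializes]
  exact hU.fromSpec.isOpenEmbedding.isInducing.specializes_iff

theorem mem_support_fromSpec (I : X.IdealSheafData) (U : X.affineOpens) (P : PrimeSpectrum Γ(X, U.1)) :
    U.2.fromSpec P ∈ I.support ↔ I.ideal U ≤ P.asIdeal := by
  have hx : U.2.fromSpec P ∈ U.1 := by rw [← SetLike.mem_coe, ← U.2.range_fromSpec]; exact ⟨P, rfl⟩
  rw [Scheme.IdealSheafData.mem_support_iff_of_mem hx, Scheme.mem_zeroLocus_iff]
  refine forall_congr' fun r => forall_congr' fun _ => ?_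
  let : Algebra Γ(X, U.1) (X.presheaf.stalk (U.2.fromSpec P)) := X.presheaf.algebra_section_stalk ⟨_, hx⟩
  have : IsLocalization.AtPrime (X.presheaf.stalk (U.2.fromSpec P)) P.asIdeal := U.2.isLocalization_stalk' P hx
  rw [X.mem_basicOpen r _ hx]
  exact (not_congr (IsLocalization.AtPrime.isUnit_to_map_iff (X.presheaf.stalk (U.2.fromSpec P)) P.asIdeal r)).trans
    not_not

theorem main [IsLocallyNoetherian X] [IrreducibleSpace ↥X]
    (hcat : ∀ x : X, CAlg.IsCatenary ↑(X.presheaf.stalk x))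
    (𝓘 : X.IdealSheafData) (hY : BlowUp.IsEffCartierIdeal 𝓘)
    (i : Z ⟶ X) [IsClosedImmersion i] [IsIntegral Z] (hc : BlowUp.IsEffCartierIdeal (𝓘.comap i))
    (ζ : X) (hζ : ζ ∈ (𝓘.support : Set X) ∩ Set.range i.base)
    (hmax : ∀ ζ' : X, ζ' ∈ (𝓘.support : Set X) ∩ Set.range i.base → ζ' ⤳ ζ → ζ' = ζ) :
    ringKrullDim (X.presheaf.stalk ζ) =
      (⨅ y : (𝓘.support : Set X), ringKrullDim (X.presheaf.stalk y.1)) +
        ringKrullDim (X.presheaf.stalk (i (genericPoint Z))) := by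
  obtain ⟨U, hζU, f, hf, hI⟩ := hY ζ
  have hU : IsAffineOpen U.1 := U.2
  let A := Γ(X, U.1)
  have : IsNoetherianRing A := IsLocallyNoetherian.component_noetherian U
  obtain ⟨Pζ, hPζ⟩ : ∃ P : PrimeSpectrum A, hU.fromSpec P = ζ := (hU.range_fromSpec ▸ hζU : ζ ∈ Set.range hU.fromSpec)
  let η := i (genericPoint Z)
  have hηζ : η ⤳ ζ := by
    obtain ⟨z, rfl⟩ := hζ.2
    exact (genericPoint_specializes z).map i.continuous
  obtain ⟨Pη, hPη⟩ : ∃ P : PrimeSpectrum A, hU.fromSpec P = η :=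
    (hU.range_fromSpec ▸ hηζ.mem_open U.1.2 hζU : η ∈ Set.range hU.fromSpec)
  obtain ⟨P₀, hP₀⟩ : ∃ P : PrimeSpectrum A, hU.fromSpec P = genericPoint X :=
    (hU.range_fromSpec ▸ (genericPoint_specializes ζ).mem_open U.1.2 hζU : genericPoint X ∈ Set.range hU.fromSpec)
  have hηle : Pη ≤ Pζ := (specializes_iff hU _ _).1 (hPη.symm ▸ hPζ.symm ▸ hηζ)
  have hP₀le : ∀ Q : PrimeSpectrum A, P₀ ≤ Q := fun Q =>
    (specializes_iff hU _ _).1 (hP₀.symm ▸ genericPoint_specializes _)
  have hfζ : f ∈ Pζ.asIdeal := by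
    have h : hU.fromSpec Pζ ∈ 𝓘.support := hPζ.symm ▸ hζ.1
    have h' := (mem_support_fromSpec 𝓘 U Pζ).1 h
    rw [hI] at h'
    exact (Ideal.span_singleton_le_iff_mem (I := Pζ.asIdeal)).1 h'
  have hfη : f ∉ Pη.asIdeal := by
    intro hfm
    have h0 : η ∈ 𝓘.support := hPη ▸ (mem_support_fromSpec 𝓘 U Pη).2
      (by rw [hI]; exact (Ideal.span_singleton_le_iff_mem (I := Pη.asIdeal)).2 hfm)
    have h1 : genericPoint Z ∈ ((𝓘.comap i).support : Set Z) := by
      rw [Scheme.IdealSheafData.support_comap]; exact h0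
    have h2 := Proper99.one_le_dim (𝓘.comap i) hc (genericPoint Z) h1
    have h3 : ringKrullDim (Z.presheaf.stalk (genericPoint Z)) = 0 := ringKrullDim_eq_zero_of_field Z.functionField
    rw [h3] at h2
    exact absurd h2 (by norm_num)
  -- maximality
  have hminover : ∀ Q : PrimeSpectrum A, Pη ≤ Q → f ∈ Q.asIdeal → Q ≤ Pζ → Q = Pζ := by
    intro Q h1 h2 h3
    refine hU.fromSpec.isOpenEmbedding.injective ((hmax _ ⟨?_, ?_⟩ ?_).trans hPζ.symm)
    · exact (mem_support_fromSpec 𝓘 U Q).2 (by rw [hI]; exact (Ideal.span_singleton_le_iff_mem (I := Q.asIdeal)).2 h2)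
    · refine i.isClosedEmbedding.isClosed_range.stableUnderSpecialization ((specializes_iff hU _ _).2 h1) ?_
      rw [hPη]; exact ⟨_, rfl⟩
    · exact hPζ ▸ (specializes_iff hU _ _).2 h3
  -- the local ring at `ζ`
  let R : Type u := X.presheaf.stalk ζ
  let : Algebra A R := X.presheaf.algebra_section_stalk ⟨ζ, hζU⟩
  have : IsLocalization.AtPrime R Pζ.asIdeal := by
    subst hPζ
    exact hU.isLocalization_stalk' Pζ hζU
  let e := IsLocalization.AtPrime.orderIsoOfPrime R Pζ.asIdeal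
  have hcomap : ∀ P : PrimeSpectrum A, P ≤ Pζ → ∃ q : Ideal R, q.IsPrime ∧ q.comap (algebraMap A R) = P.asIdeal :=
    fun P hP => ⟨_, (e.symm ⟨P.asIdeal, P.2, hP⟩).2,
      congrArg Subtype.val (e.apply_symm_apply ⟨P.asIdeal, P.2, hP⟩)⟩
  have hle : ∀ q : Ideal R, q.IsPrime → q.comap (algebraMap A R) ≤ Pζ.asIdeal := fun q hq => (e ⟨q, hq⟩).2.2
  obtain ⟨q, hq, hqη⟩ := hcomap Pη hηle
  obtain ⟨q₀, hq₀, hq₀c⟩ := hcomap P₀ (hP₀le _)
  have hq₀le : ∀ q' : Ideal R, q'.IsPrime → q₀ ≤ q' := fun q' hq' => by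
    rw [← IsLocalization.map_under Pζ.asIdeal.primeCompl R q₀, ← IsLocalization.map_under Pζ.asIdeal.primeCompl R q']
    refine Ideal.map_mono ?_
    show q₀.comap (algebraMap A R) ≤ q'.comap (algebraMap A R)
    rw [hq₀c]
    exact hP₀le ⟨_, Ideal.comap_isPrime _ q'⟩
  have hequi : EGA4.IsEquidim R := by
    intro p hp
    have hpq : p = q₀ := le_antisymm (hp.2 ⟨hq₀, bot_le⟩ (hq₀le p hp.1.1)) (hq₀le p hp.1.1)
    subst hpq
    rw [ringKrullDim_quotient]
    have : PrimeSpectrum.zeroLocus (p : Set R) = Set.univ :=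
      Set.eq_univ_of_forall fun x => hq₀le x.asIdeal x.2
    rw [this]
    exact Order.krullDim_eq_of_orderIso ⟨Equiv.Set.univ _, Iff.rfl⟩
  have hdim : ringKrullDim (R ⧸ q) + q.height = ringKrullDim R :=
    EGA4H10.dim_quotient_add_height (EGA4H10.coverSucc_of_catenary_equidim (hcat ζ) hequi) q
  -- `dim R/q = 1`
  let S := R ⧸ q
  let g : S := Ideal.Quotient.mk q (algebraMap A R f)
  have : Nontrivial S := Ideal.Quotient.nontrivial_iff.2 hq.ne_top
  have : IsLocalRing S := .of_surjective' (Ideal.Quotient.mk q) Ideal.Quotient.mk_surjective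
  have hgu : ¬ IsUnit g := by
    intro hu
    have : IsLocalHom (Ideal.Quotient.mk q) := .of_surjective _ Ideal.Quotient.mk_surjective
    exact (IsLocalization.AtPrime.isUnit_to_map_iff R Pζ.asIdeal f).1 (hu.of_map _ _) hfζ
  have hg0 : g ≠ 0 := fun h => hfη (by rw [← hqη]; exact Ideal.mem_comap.2 (Ideal.Quotient.eq_zero_iff_mem.1 h))
  have hmin : IsLocalRing.maximalIdeal S ∈ (Ideal.span {g}).minimalPrimes := by
    refine ⟨⟨inferInstance, (Ideal.span_singleton_le_iff_mem (I := IsLocalRing.maximalIdeal S)).2 hgu⟩, ?_⟩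
    rintro Q ⟨hQ, hgQ⟩ -
    intro s hs
    let Q' : Ideal R := Q.comap (Ideal.Quotient.mk q)
    have hQ' : Q'.IsPrime := Ideal.comap_isPrime _ _
    have h1 : q ≤ Q' := fun r hr => by
      show Ideal.Quotient.mk q r ∈ Q
      rw [Ideal.Quotient.eq_zero_iff_mem.2 hr]; exact zero_mem _
    have h2 : (⟨Q'.comap (algebraMap A R), Ideal.comap_isPrime _ _⟩ : PrimeSpectrum A) = Pζ :=
      hminover _ (show Pη.asIdeal ≤ Q'.comap (algebraMap A R) from hqη ▸ Ideal.comap_mono h1)
        (hgQ (Ideal.mem_span_singleton_self g)) (hle Q' hQ')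
    obtain ⟨r, rfl⟩ := Ideal.Quotient.mk_surjective s
    have hQm : Q' = IsLocalRing.maximalIdeal R := by
      rw [← IsLocalization.map_under Pζ.asIdeal.primeCompl R Q',
        show Q'.under A = Pζ.asIdeal from congrArg PrimeSpectrum.asIdeal h2]
      exact IsLocalization.AtPrime.map_eq_maximalIdeal Pζ.asIdeal R
    show r ∈ Q'
    rw [hQm, IsLocalRing.mem_maximalIdeal]
    exact fun hu => hs (hu.map _)
  have hS : ringKrullDim S = 1 := by
    refine le_antisymm ?_ ?_
    · rw [← IsLocalRing.maximalIdeal_height_eq_ringKrullDim, ← WithBot.coe_one, WithBot.coe_le_coe]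
      exact Ideal.height_le_one_of_isPrincipal_of_mem_minimalPrimes (Ideal.span {g}) _ hmin
    · refine le_trans ?_ (ringKrullDim_quotient_succ_le_of_nonZeroDivisor (mem_nonZeroDivisors_of_ne_zero hg0))
      have : Nontrivial (S ⧸ Ideal.span {g}) :=
        Ideal.Quotient.nontrivial_iff.2 fun h => hgu (Ideal.span_singleton_eq_top.1 h)
      simpa using add_le_add_left (ringKrullDim_nonneg_of_nontrivial (R := S ⧸ Ideal.span {g})) 1
  -- the codimension of `Y`
  have hcod : (⨅ y : (𝓘.support : Set X), ringKrullDim (X.presheaf.stalk y.1)) = 1 := by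
    refine le_antisymm ?_ ?_
    · obtain ⟨Q, hQ, -⟩ := Ideal.exists_minimalPrimes_le (I := Ideal.span {f}) (J := Pζ.asIdeal)
        ((Ideal.span_singleton_le_iff_mem (I := Pζ.asIdeal)).2 hfζ)
      let P : PrimeSpectrum A := ⟨Q, hQ.1.1⟩
      have hmem : hU.fromSpec P ∈ 𝓘.support :=
        (mem_support_fromSpec 𝓘 U P).2 (by rw [hI]; exact hQ.1.2)
      refine (iInf_le _ ⟨hU.fromSpec P, hmem⟩).trans ?_
      rw [dim_stalk_fromSpec hU P, ← WithBot.coe_one, WithBot.coe_le_coe]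
      exact Ideal.height_le_one_of_isPrincipal_of_mem_minimalPrimes (Ideal.span {f}) _ hQ
    · exact le_iInf fun y => Proper99.one_le_dim 𝓘 hY y.1 y.2
  have hη : ringKrullDim (X.presheaf.stalk η) = (q.height : WithBot ℕ∞) := by
    rw [← IsLocalization.height_under Pζ.asIdeal.primeCompl q, show q.under A = Pη.asIdeal from hqη,
      ← dim_stalk_fromSpec hU Pη, hPη]
  rw [hcod, hη, ← hdim, hS]

end Groth.Agent.RegImm10.Proper
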