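import Groth.Agent.RegImm10.SmoothBundle
import Groth.Agent.An92.Ample.Family
import Groth.Agent.An92.Ample.Resolution
import Groth.Agent.RegUFD52.Basic
import Groth.Agent.CAlg1.Regular
import Groth.Agent.CartMod7.Affine
import Groth.Agent.Unr55.SmoothStalkCor

/-!
Factorisations of (quasi-)projective morphisms over a regular base.
-/

set_option autoImplicit false
set_option backward.isDefEq.respectTransparency.types false
set_option linter.style.haveILetI false

universe u

open CategoryTheory CategoryTheory.Limits AlgebraicGeometry TopologicalSpace Opposite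
open scoped HomogeneousIdeal

noncomputable section

namespace Groth.Agent.RegImm10

open EGAProj74

/-- A regular separated Noetherian scheme has an ample family. -/
theorem exists_isAmpleFamily_of_regular {S : Scheme.{u}} [IsNoetherian S] [S.IsSeparated]
    (hS : ∀ s : S, IsRegularLocalRing (S.presheaf.stalk s)) :
    ∃ (ι : Type u) (L : ι → S.Modules), KSix.IsAmpleFamily L := by
  have h := An92.AmpleFam.hasAmpleFamily_of_factorial (X := S)
    (fun s => by
      haveI := hS s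
      haveI := CAlg1.isDomain_regular (S.presheaf.stalk s)
      exact ⟨inferInstance, RegUFD52.ufm_of_regular _⟩)
    (fun U V hU hV => IsAffineOpen.inf hU hV)
  choose L n s hL hn hxs haff using h.2
  refine ⟨S, L, inferInstance, inferInstance, hL, fun x => ?_⟩
  obtain ⟨m, hm⟩ := Nat.exists_eq_add_of_le' (hn x)
  revert hxs haff
  intro hxs haff
  have key : ∀ (k : ℕ) (e : n x = k), ∃ t : Coh.structureModule S ⟶ CohB1.tensorPow (L x) k,
      x ∈ CohB1.genLocus _ t ∧ IsAffineOpen (CohB1.genLocus _ t) := by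
    rintro k rfl
    exact ⟨s x, hxs x, haff x⟩
  exact ⟨x, m, key (m + 1) hm⟩

/-- A projective morphism to a regular separated Noetherian scheme embeds into a smooth projective
scheme over it. -/
theorem exists_smooth_projective {X S : Scheme.{u}} [IsNoetherian S] [S.IsSeparated]
    (hS : ∀ s : S, IsRegularLocalRing (S.presheaf.stalk s)) (f : X ⟶ S) (hf : RelProj.IsProjective f) :
    ∃ (P : Scheme.{u}) (i : X ⟶ P) (p : P ⟶ S),
      IsClosedImmersion i ∧ Smooth p ∧ RelProj.IsProjective p ∧ i ≫ p = f := by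
  obtain ⟨ι, L, hL⟩ := exists_isAmpleFamily_of_regular hS
  obtain ⟨𝒮, P, p, chart, e, hgen, hft, hP, he⟩ := hf
  obtain ⟨E, u, hE, hEft, hu1, husurj⟩ := EGA73.PBundleClosed.exists_degOne_module 𝒮 hft
  obtain ⟨M, π, -, hM, hπ⟩ := An92.AmpleRes.exists_epi_inAddL L hL E hE hEft
  haveI : E.IsQuasicoherent := hE
  have hMq : Coh.IsQCoh M := Props58.LocFree.isQuasicoherent_of_isFinLocFree hM
  haveI : M.IsQuasicoherent := hMq
  obtain ⟨𝒯, j, hj, PT, pT, chartT, hPT, O1, lam, hO1⟩ := exists_projBundle hMq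
  obtain ⟨ubar, hju, -⟩ := hj.1 𝒮.toQCAlg (π ≫ u)
  have happ : ∀ (U : S.Opens) (m : Γ(M, U)), (ubar.hom.app (op U)).hom (j.app U m) = (π ≫ u).app U m :=
    fun U m => congr($(hju).app U m)
  have hu1' : ∀ (U : S.Opens) (hU : IsAffineOpen U) (x : Γ(M, U)), (π ≫ u).app U x ∈ 𝒮.deg U hU 1 :=
    fun U hU x => hu1 U hU (π.app U x)
  have husurj' : ∀ (U : S.Opens) (hU : IsAffineOpen U) (s : 𝒮.presheaf.obj (op U)),
      s ∈ 𝒮.deg U hU 1 → ∃ x, (π ≫ u).app U x = s := fun U hU s hs => by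
    obtain ⟨y, rfl⟩ := husurj U hU s hs
    obtain ⟨x, rfl⟩ := CartMod7.app_surjective_of_epi π hU y
    exact ⟨x, rfl⟩
  have hgr : RelProj.IsGradedHom ubar := isGradedHom_of_grSym hMq hj ubar fun U hU m => by
    rw [happ U m]; exact hu1' U hU m
  have hirr : ∀ (U : S.Opens) (hU : IsAffineOpen U),
      (𝒮.deg U hU)₊ ≤ ((𝒯.deg U hU)₊).map (RelProj.gradedHomAt ubar hgr U hU) := by
    intro U hU
    rw [← SetLike.coe_subset_coe]
    change (𝒮.deg U hU)₊.toIdeal ≤ _
    refine (irrelevant_le_span_one_of_gen (hgen U hU)).trans (Ideal.span_le.mpr fun x hx => ?_)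
    obtain ⟨m, rfl⟩ := husurj' U hU x hx
    rw [← happ U m]
    exact Ideal.mem_map_of_mem (RelProj.gradedHomAt ubar hgr U hU)
      (HomogeneousIdeal.mem_irrelevant_of_mem _ one_pos (hj.2 U hU m))
  obtain ⟨h, hh, -⟩ := existsUnique_relProjMap (hirr := hirr) hPT hP
  have : IsClosedImmersion h := Groth.Agent.S8292.result 𝒮 𝒯 hgen M hMq (π ≫ u) hu1' husurj' j hj
    ubar hgr hju hirr _ _ _ _ hPT hP h hh
  refine ⟨PT, e.hom ≫ h, pT, inferInstance, smooth_projBundle hM hj hPT hO1, ?_,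
    by rw [Category.assoc, relProjMap_over hPT hP hh, he]⟩
  simpa using EGA73.ClosedRelProj.isProjective_of_closedImmersion (isGenDegOne_grSym hMq hj)
    (EGA73.PBundleClosed.isFTDeg_one_grSym hMq (Props58.LocFree.isFiniteType_of_isFinLocFree hM) hj)
    hPT (𝟙 PT)

/-- A quasi-projective morphism to a regular separated Noetherian scheme is a closed immersion into
a smooth quasi-projective scheme over it. -/
theorem exists_smooth_quasiProjective {X S : Scheme.{u}} [IsNoetherian S] [S.IsSeparated]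
    (hS : ∀ s : S, IsRegularLocalRing (S.presheaf.stalk s)) (f : X ⟶ S)
    (hf : ∃ (Z : Scheme.{u}) (v : X ⟶ Z) (q : Z ⟶ S),
      IsOpenImmersion v ∧ RelProj.IsProjective q ∧ v ≫ q = f) :
    ∃ (W : Scheme.{u}) (i : X ⟶ W) (p : W ⟶ S), IsClosedImmersion i ∧ Smooth p ∧
      (∃ (P : Scheme.{u}) (v : W ⟶ P) (q : P ⟶ S),
        IsOpenImmersion v ∧ RelProj.IsProjective q ∧ v ≫ q = p) ∧ i ≫ p = f := by
  obtain ⟨Z, v, q, hv, hq, rfl⟩ := hf
  obtain ⟨P, i, p, hi, hp, hpp, rfl⟩ := exists_smooth_projective hS q hq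
  let W : P.Opens := ⟨(i '' (Set.range v)ᶜ)ᶜ,
    (i.isClosedEmbedding.isClosedMap _ v.isOpenEmbedding.isOpen_range.isClosed_compl).isOpen_compl⟩
  have hW : i ⁻¹ᵁ W = v.opensRange := by
    ext z
    show i z ∈ (i '' (Set.range v)ᶜ)ᶜ ↔ z ∈ Set.range v
    rw [Set.mem_compl_iff, i.isClosedEmbedding.injective.mem_set_image, Set.mem_compl_iff, not_not]
  have hrange : Set.range v ⊆ Set.range (i ⁻¹ᵁ W).ι := by
    rw [Scheme.Opens.range_ι, hW]; exact subset_rfl
  let l := IsOpenImmersion.lift (i ⁻¹ᵁ W).ι v hrange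
  have hl : l ≫ (i ⁻¹ᵁ W).ι = v := IsOpenImmersion.lift_fac _ _ _
  haveI : IsOpenImmersion l := by
    haveI : IsOpenImmersion (l ≫ (i ⁻¹ᵁ W).ι) := by rw [hl]; infer_instance
    exact IsOpenImmersion.of_comp l (i ⁻¹ᵁ W).ι
  haveI : Surjective l := ⟨fun z => by
    have hz : (i ⁻¹ᵁ W).ι z ∈ v.opensRange := hW ▸ z.2
    obtain ⟨w, hw⟩ := hz
    refine ⟨w, (i ⁻¹ᵁ W).ι.isOpenEmbedding.injective ?_⟩
    rw [← hw, ← Scheme.Hom.comp_apply, hl]⟩
  haveI : IsIso l := (isIso_iff_isOpenImmersion_and_surjective l).2 ⟨inferInstance, inferInstance⟩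
  haveI : IsClosedImmersion (i ∣_ W) := IsZariskiLocalAtTarget.restrict (P := @IsClosedImmersion) hi W
  refine ⟨W, l ≫ i ∣_ W, W.ι ≫ p, inferInstance, inferInstance, ⟨P, W.ι, p, inferInstance, hpp, rfl⟩, ?_⟩
  rw [Category.assoc, morphismRestrict_ι_assoc, ← Category.assoc l, hl]

/-- A scheme smooth over a regular scheme is regular. -/
theorem regular_of_smooth {P S : Scheme.{u}} [IsLocallyNoetherian S] (p : P ⟶ S) [Smooth p]
    (hS : ∀ s : S, IsRegularLocalRing (S.presheaf.stalk s)) (x : P) :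
    IsRegularLocalRing (P.presheaf.stalk x) :=
  (Unr55.isRegularLocalRing_stalk_iff_of_smooth p x
    (Scheme.Hom.mem_smoothLocus.mp ((Scheme.Hom.smoothLocus_eq_top p).ge trivial))).2 (hS (p x))

end Groth.Agent.RegImm10
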