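import Groth.Agent.CAlg1.Regular
import Groth.Agent.An92.Nrm.RegIdeal
import Groth.Agent.RegImm99.Stalk
import Groth.Agent.FlatMor68.KoszulCalc
import Mathlib

/-!
An immersion of regular schemes is a regular immersion.
-/

set_option autoImplicit false
set_option linter.style.haveILetI false

noncomputable section

universe u

open CategoryTheory AlgebraicGeometry IsLocalRing RingTheory.Sequence
open scoped Pointwise

namespace Groth.Agent.RegImm10

/-- Near a point where a ring and a quotient are both regular, the ideal is generated by a regular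
sequence. -/
theorem exists_regular_gen_away {A : Type u} [CommRing A] [IsNoetherianRing A] (p : Ideal A)
    [p.IsPrime] (I : Ideal A) (hIp : I ≤ p) (L : Type u) [CommRing L] [Algebra A L]
    [IsLocalization.AtPrime L p] [IsRegularLocalRing L]
    [IsRegularLocalRing (L ⧸ I.map (algebraMap A L))] :
    ∃ g, g ∉ p ∧ ∃ rs : List A, ∀ (B : Type u) [CommRing B] [Algebra A B],
      IsLocalization.Away g B →
        IsRegular B (rs.map (algebraMap A B)) ∧
          I.map (algebraMap A B) = Ideal.ofList (rs.map (algebraMap A B)) := by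
  classical
  obtain ⟨d, hd⟩ : ∃ d, (maximalIdeal L).spanFinrank = d := ⟨_, rfl⟩
  obtain ⟨x, c, hc, hx, hI⟩ := CAlg1.exists_params_quotient L d hd (I.map (algebraMap A L))
  -- numerators
  have hxI : ∀ i : Fin c, x (Fin.castLE hc i) ∈ I.map (algebraMap A L) := fun i =>
    hI ▸ Ideal.subset_span ⟨i, rfl⟩
  have hnum : ∀ i : Fin c, ∃ (a : A) (v : Lˣ), a ∈ I ∧ algebraMap A L a = v * x (Fin.castLE hc i) := by
    intro i
    obtain ⟨⟨⟨a, ha⟩, s⟩, has⟩ := (IsLocalization.mem_map_algebraMap_iff p.primeCompl L).1 (hxI i)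
    obtain ⟨v, hv⟩ := IsLocalization.map_units L s
    exact ⟨a, v, ha, by rw [hv, mul_comm]; exact has.symm⟩
  choose a v haI hav using hnum
  let rs : List A := List.ofFn a
  let y : Fin d → L := fun j => if h : j.1 < c then algebraMap A L (a ⟨j, h⟩) else x j
  have hy1 : ∀ i : Fin c, y (Fin.castLE hc i) = algebraMap A L (a i) := fun i => by
    simp only [y, Fin.val_castLE, i.2, dif_pos, Fin.eta]
  have hymem : ∀ j, ∃ u : Lˣ, y j = u * x j := fun j => by
    by_cases h : j.1 < c
    · exact ⟨v ⟨j, h⟩, by simp only [y, h, dif_pos, hav]; congr 2⟩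
    · exact ⟨1, by simp only [y, h, dif_neg, not_false_eq_true, Units.val_one, one_mul]⟩
  have hy : Ideal.span (Set.range y) = maximalIdeal L := by
    rw [← hx]
    apply le_antisymm <;> rw [Ideal.span_le] <;> rintro _ ⟨j, rfl⟩ <;> obtain ⟨w, hw⟩ := hymem j
    · rw [SetLike.mem_coe, hw]
      exact Ideal.mul_mem_left _ _ (Ideal.subset_span ⟨j, rfl⟩)
    · rw [SetLike.mem_coe, show x j = ↑w⁻¹ * y j by rw [hw, Units.inv_mul_cancel_left]]
      exact Ideal.mul_mem_left _ _ (Ideal.subset_span ⟨j, rfl⟩)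
  have hIy : I.map (algebraMap A L) = (Ideal.ofList rs).map (algebraMap A L) := by
    refine le_antisymm ?_ (Ideal.map_mono (Ideal.span_le.2 fun r hr => ?_))
    · rw [hI, Ideal.span_le]
      rintro _ ⟨i, rfl⟩
      dsimp only
      rw [SetLike.mem_coe, show x (Fin.castLE hc i) = ↑(v i)⁻¹ * algebraMap A L (a i) by
        rw [hav, Units.inv_mul_cancel_left]]
      exact Ideal.mul_mem_left _ _ (Ideal.mem_map_of_mem _
        (Ideal.subset_span (List.mem_ofFn.2 ⟨i, rfl⟩)))
    · obtain ⟨i, rfl⟩ := List.mem_ofFn.1 hr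
      exact haI i
  have hlist : Ideal.ofList (List.ofFn y) = maximalIdeal L := by
    rw [Ideal.ofList, ← hy]; congr 1; ext r; simp [List.mem_ofFn]
  have hw : IsWeaklyRegular L (List.ofFn y) :=
    CAlg1.isWeaklyRegular_params L _ hlist (by rw [List.length_ofFn, hd])
  have hpre : List.ofFn y = rs.map (algebraMap A L) ++ (List.ofFn y).drop c := by
    conv_lhs => rw [← List.take_append_drop c (List.ofFn y)]
    congr 1
    apply List.ext_getElem
    · simp [rs, hc]
    · intro k h1 h2
      simp only [rs, List.getElem_take, List.getElem_ofFn, List.getElem_map]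
      have hk : k < c := by simpa [rs] using h2
      exact hy1 ⟨k, hk⟩
  rw [hpre, isWeaklyRegular_append_iff] at hw
  have hw' := hw.1
  rw [isWeaklyRegular_map_algebraMap_iff] at hw'
  have e : LocalizedModule p.primeCompl A ≃ₗ[A] L :=
    IsLocalizedModule.iso p.primeCompl (Algebra.linearMap A L)
  obtain ⟨g₁, hg₁, hW⟩ := An92.Nrm.exists_W p rs A ((e.isWeaklyRegular_congr rs).2 hw')
  -- equality of ideals near `p`
  obtain ⟨G, hG⟩ := IsNoetherian.noetherian I
  have hex : ∀ r ∈ G, ∃ t, t ∉ p ∧ t * r ∈ Ideal.ofList rs := by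
    intro r hr
    have h1 : algebraMap A L r ∈ (Ideal.ofList rs).map (algebraMap A L) :=
      hIy ▸ Ideal.mem_map_of_mem _ (hG ▸ Submodule.subset_span hr)
    obtain ⟨t, ht, htr⟩ := (IsLocalization.algebraMap_mem_map_algebraMap_iff p.primeCompl _ _ _).1 h1
    exact ⟨t, ht, htr⟩
  choose! t ht htr using hex
  let g := g₁ * ∏ r ∈ G, t r
  have hg : g ∉ p := fun h => ((Ideal.IsPrime.mem_or_mem ‹_› h).elim hg₁ fun h => by
    obtain ⟨r, hr, hr'⟩ := (Ideal.IsPrime.prod_mem_iff (p := p)).1 h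
    exact ht r hr hr')
  have hgW : Ega11.RegSeqSk.W g rs A := Ega11.RegSeqSk.W.mono (dvd_mul_right g₁ _) rs A hW
  have hrs : Ideal.ofList rs ≤ I := Ideal.span_le.2 fun r hr => by
    obtain ⟨i, rfl⟩ := List.mem_ofFn.1 hr; exact haI i
  refine ⟨g, hg, rs, fun B _ _ hB => ⟨⟨?_, ?_⟩, ?_⟩⟩
  · have h1 := Ega11.RegSeqSk.W.isWeaklyRegular rs A hgW
    rw [isWeaklyRegular_map_algebraMap_iff] at h1 ⊢
    haveI : IsLocalizedModule (Submonoid.powers g) (Algebra.linearMap A B) :=
      (isLocalizedModule_iff_isLocalization' _ _).2 hB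
    have e' : LocalizedModule (Submonoid.powers g) A ≃ₗ[A] B :=
      IsLocalizedModule.iso (Submonoid.powers g) (Algebra.linearMap A B)
    exact (e'.isWeaklyRegular_congr rs).1 h1
  · rw [smul_eq_mul, Ideal.mul_top, ne_comm, ← Ideal.map_ofList,
      IsLocalization.map_algebraMap_ne_top_iff_disjoint (Submonoid.powers g) B]
    by_contra hd'
    apply hg
    by_contra hgp
    exact hd' (Set.disjoint_left.2 fun z ⟨n, hn⟩ hz => hgp (Ideal.IsPrime.mem_of_pow_mem ‹_› n
      ((show g ^ n = z from hn).symm ▸ (hrs.trans hIp) hz)))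
  · rw [← Ideal.map_ofList]
    refine le_antisymm ?_ (Ideal.map_mono hrs)
    rw [← hG, Ideal.map_span, Ideal.span_le]
    rintro _ ⟨r, hr, rfl⟩
    have hu : IsUnit (algebraMap A B (t r)) := isUnit_of_dvd_unit
      (map_dvd (algebraMap A B) ((Finset.dvd_prod_of_mem t hr).trans (dvd_mul_left _ g₁)))
      (IsLocalization.Away.algebraMap_isUnit g)
    rw [SetLike.mem_coe, ← Ideal.unit_mul_mem_iff_mem _ hu, ← map_mul]
    exact Ideal.mem_map_of_mem _ (htr r hr)

/-- An immersion between regular schemes is a regular immersion. -/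
theorem isRegularImmersion_of_regular {Z X : Scheme.{u}} (i : Z ⟶ X) [IsImmersion i]
    [IsLocallyNoetherian X] (hX : ∀ x : X, IsRegularLocalRing (X.presheaf.stalk x))
    (hZ : ∀ z : Z, IsRegularLocalRing (Z.presheaf.stalk z)) :
    RegImm.IsRegularImmersion RegImm.Kind.regular i := by
  refine ⟨inferInstance, fun z => ?_⟩
  obtain ⟨U, hU, hzU, hUW⟩ := exists_isAffineOpen_mem_and_subset (X := X) (x := i z)
    (U := i.coborderRange) (subset_coborder ⟨z, rfl⟩)
  haveI hcl : IsClosedImmersion (i ∣_ U) := FlatMor68.KoszulCalc.isClosedImmersion_restrict i hUW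
  obtain ⟨hV, hsurj⟩ := RegImm99.app_surjective i hU
  haveI : IsNoetherianRing Γ(X, U) := IsLocallyNoetherian.component_noetherian ⟨U, hU⟩
  let φ := (i.app U).hom
  let p := (hU.primeIdealOf ⟨i z, hzU⟩).asIdeal
  let q := (hV.primeIdealOf ⟨z, hzU⟩).asIdeal
  letI : Algebra Γ(X, U) (X.presheaf.stalk (i z)) := X.presheaf.algebra_section_stalk ⟨i z, hzU⟩
  haveI : IsLocalization.AtPrime (X.presheaf.stalk (i z)) p := hU.isLocalization_stalk ⟨i z, hzU⟩
  letI : Algebra Γ(Z, i ⁻¹ᵁ U) (Z.presheaf.stalk z) := Z.presheaf.algebra_section_stalk ⟨z, hzU⟩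
  haveI : IsLocalization.AtPrime (Z.presheaf.stalk z) q := hV.isLocalization_stalk ⟨z, hzU⟩
  have hpq : q.comap φ = p := by
    have := congr($(IsAffineOpen.comap_primeIdealOf_appLE U hU (i ⁻¹ᵁ U) hV le_rfl (x := z) hzU).asIdeal)
    rw [← Scheme.Hom.app_eq_appLE] at this
    exact this
  have hIp : RingHom.ker φ ≤ p := hpq ▸ fun a ha => by
    rw [Ideal.mem_comap, RingHom.mem_ker.1 ha]; exact zero_mem _
  have hT : Submonoid.map φ p.primeCompl = q.primeCompl := by
    ext b
    constructor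
    · rintro ⟨a, ha, rfl⟩ hb
      exact ha (hpq ▸ hb)
    · intro hb
      obtain ⟨a, rfl⟩ := hsurj b
      exact ⟨a, fun ha => hb (show a ∈ q.comap φ from hpq.symm ▸ ha), rfl⟩
  have hmap : (i.stalkMap z).hom = IsLocalization.map (Z.presheaf.stalk z) φ
      (hT.symm ▸ p.primeCompl.le_comap_map) := by
    refine IsLocalization.ringHom_ext p.primeCompl ?_
    rw [IsLocalization.map_comp]
    ext a
    exact i.germ_stalkMap_apply U z hzU a
  have hk : RingHom.ker (i.stalkMap z).hom =
      (RingHom.ker φ).map (algebraMap Γ(X, U) (X.presheaf.stalk (i z))) := by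
    rw [hmap]
    exact IsLocalization.ker_map (Z.presheaf.stalk z) (g := φ) (S := X.presheaf.stalk (i z)) hT
  haveI := hX (i z)
  haveI := hZ z
  haveI : IsRegularLocalRing (X.presheaf.stalk (i z) ⧸
      (RingHom.ker φ).map (algebraMap Γ(X, U) (X.presheaf.stalk (i z)))) := hk ▸
    IsRegularLocalRing.of_ringEquiv (RingHom.quotientKerEquivOfSurjective (f := (i.stalkMap z).hom)
      (i.stalkMap_surjective z)).symm
  obtain ⟨g, hg, rs, h⟩ := exists_regular_gen_away p (RingHom.ker φ) hIp (X.presheaf.stalk (i z))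
  letI : Algebra Γ(X, U) Γ(X, X.basicOpen g) :=
    (X.presheaf.map (homOfLE (X.basicOpen_le g)).op).hom.toAlgebra
  obtain ⟨hreg, hker⟩ := h Γ(X, X.basicOpen g) (hU.isLocalization_basicOpen g)
  refine ⟨X.affineBasicOpen (U := ⟨U, hU⟩) g, ?_,
    An92.Nrm.isClosedImmersion_restrict_basicOpen i U g, _, hreg, ?_⟩
  · show i z ∈ X.basicOpen g
    rw [X.mem_basicOpen g (i z) hzU]
    have := IsLocalization.AtPrime.isUnit_to_map_iff (X.presheaf.stalk (i z)) p g
    exact this.2 hg
  · exact (An92.Nrm.ker_app_basicOpen i ⟨U, hU⟩ hV g).trans hker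

end Groth.Agent.RegImm10
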