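import Groth.Agent.Cyc90.Dev.BundleFlat
import Groth.Agent.EGA73.PBundleClosed
import Groth.Agent.Props58.LocFree.Criteria

/-!
The projective bundle of a finite locally free module is smooth.
-/

set_option autoImplicit false
set_option backward.isDefEq.respectTransparency.types false
set_option linter.style.haveILetI false

universe u

open CategoryTheory CategoryTheory.Limits AlgebraicGeometry TopologicalSpace Opposite
open scoped HomogeneousIdeal

noncomputable section

namespace Groth.Agent.RegImm10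

open EGAProj74

variable {X : Scheme.{u}} {E : X.Modules} {𝒮 : RelProj.QCGrAlg X} {j : E ⟶ 𝒮.toModule}
  {P : Scheme.{u}} {p : P ⟶ X}
  {chart : ∀ (U : X.Opens) (hU : IsAffineOpen U),
    (((p ⁻¹ᵁ U : P.Opens) : Scheme.{u}) ≅ Proj (𝒮.deg U hU))}
  {O1 : P.Modules}
  {lam : ∀ (U : X.Opens) (hU : IsAffineOpen U),
    O1 ⟶ (Scheme.Modules.pushforward (RelProj.emb p chart U hU)).obj (GrTwist.twist (𝒮.deg U hU) 1)}

/-- A projective bundle is smooth. -/
theorem smooth_projBundle (hE : FlatMod.IsFinLocFree E)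
    (hS : RelProj.IsGrSymAlg E 𝒮 j) (hP : RelProj.IsRelProj 𝒮 p chart)
    (hO1 : RelProj.IsRelTwist 𝒮 p chart 1 O1 lam) : Smooth p := by
  have hq : Coh.IsQCoh E := Props58.LocFree.isQuasicoherent_of_isFinLocFree hE
  haveI : E.IsQuasicoherent := hq
  haveI : IsZariskiLocalAtTarget @Smooth := inferInstance
  refine IsZariskiLocalAtTarget.of_forall_exists_morphismRestrict (P := @Smooth) fun x => ?_
  obtain ⟨W, m, hxW, ⟨i⟩⟩ := hE x
  obtain ⟨_, ⟨U₀, hU₀, rfl⟩, hxU, hUW⟩ := X.isBasis_affineOpens.exists_subset_of_mem_open hxW W.2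
  let U : X.Opens := U₀
  have hU : IsAffineOpen U := hU₀
  refine ⟨U, hxU, ?_⟩
  rcases m with _ | n
  · -- rank zero: the bundle is empty
    obtain ⟨lin⟩ := Var76.OmegaRegular.sections_free i hUW
    haveI : Subsingleton Γ(E, U) := lin.symm.toEquiv.subsingleton
    have h1 : ∀ z ∈ 𝒮.deg U hU 1, z = 0 := by
      intro z hz
      obtain ⟨m', rfl⟩ := EGA73.PBundleClosed.exists_gen_of_mem_one hq hS hU hz
      rw [Subsingleton.elim m' 0, map_zero]
      rfl
    haveI : IsEmpty ↥(Proj (𝒮.deg U hU)) := ⟨fun z => z.not_irrelevant_le fun a ha => by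
      have h2 := irrelevant_le_span_one_of_gen (isGenDegOne_grSym hq hS U hU) ha
      rw [Ideal.span_eq_bot.2 h1] at h2
      rw [(Submodule.mem_bot _).1 h2]
      exact zero_mem _⟩
    haveI : IsEmpty ↥((p ⁻¹ᵁ U : P.Opens) : Scheme.{u}) :=
      ⟨fun z => IsEmpty.false ((chart U hU).hom z)⟩
    infer_instance
  · let R := Γ(X, U)
    let ψ : Spec (CommRingCat.of R) ⟶ X := hU.fromSpec
    have hq' : Coh.IsQCoh ((Scheme.Modules.pullback ψ).obj E) := QCPull72.isQuasicoherent_pullback ψ E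
    have hWtop : (⊤ : (Spec (CommRingCat.of R)).Opens) ≤ ψ ⁻¹ᵁ W :=
      hU.fromSpec_preimage_self.ge.trans (ψ.preimage_mono hUW)
    let i' := ((Amp73.pullRestrictIso ψ W).app E).symm ≪≫
      (Scheme.Modules.pullback (ψ ∣_ W)).mapIso
        (((Scheme.Modules.restrictFunctorIsoPullback W.ι).app E).symm ≪≫ i) ≪≫
      FrB.pullbackFreeIso (ψ ∣_ W) (n + 1)
    obtain ⟨𝒮', j', hj', P', p', chart', hP', O1', lam', hO1'⟩ := exists_projBundle hq'
    obtain ⟨φ, hφ⟩ := exists_canonical hq hS hO1 hP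
    obtain ⟨g, hsq, -⟩ := exists_baseChange hq hS hP hO1 hφ ψ 𝒮' j' hj' p' chart' hP' O1' lam' hO1'
    obtain ⟨e, he, hep, -⟩ := Cyc90.Dev.exists_iso_projSpace_of_free hq' n hWtop i' hj' hP' hO1'
    have hp' : Smooth p' := by
      have := H98Proj.smooth_toSpec n R
      rw [show p' = inv e ≫ CohB1.ProjSpace.toSpec n R from (IsIso.eq_inv_comp e).2 hep]
      infer_instance
    have hψ : hU.isoSpec.inv ≫ U.ι = ψ := rfl
    have hR : IsPullback (p ⁻¹ᵁ U).ι (p ∣_ U) p U.ι := (isPullback_morphismRestrict p U).flip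
    rw [← hψ] at hsq
    let l := hR.lift g (p' ≫ hU.isoSpec.inv) (by rw [Category.assoc]; exact hsq.w)
    have hl : IsPullback l p' (p ∣_ U) hU.isoSpec.inv :=
      IsPullback.of_right (by rw [hR.lift_fst]; exact hsq) (hR.lift_snd _ _ _) hR
    have : IsIso l := hl.isIso_fst_of_isIso
    rw [show p ∣_ U = inv l ≫ p' ≫ hU.isoSpec.inv from (IsIso.eq_inv_comp l).2 hl.w]
    infer_instance

end Groth.Agent.RegImm10
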