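import Groth.Agent.RegImm10.ConormalSES
import Groth.Agent.FlatMor68.KoszulCancel

/-!
If the conormal sequence of `Z ⟶ Y ⟶ X` is locally split and `Z ⟶ X`, `Y ⟶ X` are Koszul regular, so is `Z ⟶ Y`.
-/

set_option autoImplicit false
set_option backward.isDefEq.respectTransparency false
set_option linter.style.haveILetI false

noncomputable section

universe u

open CategoryTheory CategoryTheory.Limits AlgebraicGeometry TopologicalSpace Opposite IsLocalRing

namespace Groth.Agent.RegImm10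

open Groth.Agent QC70 Koszul19 LCI19 FlatMor67 FlatMor68.KoszulCancel

/-- A Koszul regular sequence whose span meets `p K` only in `p (G)` cancels from the Koszul regular
ideal `K`. -/
theorem isKoszulRegularIdeal_map_of_split {R S : Type u} [CommRing R] [CommRing S]
    [Algebra R S] (hs : Function.Surjective (algebraMap R S)) (G : List R)
    (hker : RingHom.ker (algebraMap R S) = Ideal.ofList G) (hG : KR G)
    (K : Ideal R) (hGK : Ideal.ofList G ≤ K) (hK : LCI.IsKoszulRegularIdeal K)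
    (hsplit : ∀ p : Ideal R, p.IsPrime → K ≤ p → Ideal.ofList G ⊓ p * K ≤ p * Ideal.ofList G) :
    LCI.IsKoszulRegularIdeal (K.map (algebraMap R S)) := by
  classical
  have hGK' : ∀ x ∈ G, x ∈ K := fun x hx => hGK (Ideal.subset_span hx)
  have hfg : K.FG := fg_of_isKoszulRegularIdeal hK
  rw [isKoszulRegularIdeal_iff] at hK ⊢
  intro q hq
  let p : PrimeSpectrum R := PrimeSpectrum.comap (algebraMap R S) q
  have hKp : K ≤ p.asIdeal := Ideal.map_le_iff_le_comap.1 hq
  obtain ⟨s, hsp, l, hlK, hlkr, hlI⟩ := hK p hKp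
  let L := Localization.AtPrime p.asIdeal
  have hsu : IsUnit (algebraMap R L s) := IsLocalization.map_units L (⟨s, hsp⟩ : p.asIdeal.primeCompl)
  let KL : Ideal L := K.map (algebraMap R L)
  have hKL : KL ≤ Ideal.ofList (l.map (algebraMap R L)) := by
    let := (IsLocalization.Away.lift (S := Localization.Away s) s hsu).toAlgebra
    haveI : IsScalarTower R (Localization.Away s) L :=
      IsScalarTower.of_algebraMap_eq fun a => (IsLocalization.Away.lift_eq s hsu a).symm
    show K.map (algebraMap R L) ≤ _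
    rw [IsScalarTower.algebraMap_eq R (Localization.Away s) L, ← Ideal.map_map, hlI, LCI19.map_ofList,
      List.map_map, RingHom.coe_comp]
  have hmem : ∀ x ∈ G.map (algebraMap R L), x ∈ KL := by
    intro x hx
    obtain ⟨a, ha, rfl⟩ := List.mem_map.1 hx
    exact Ideal.mem_map_of_mem _ (hGK' a ha)
  have hind : ∀ pre g post, G.map (algebraMap R L) = pre ++ g :: post →
      g ∉ maximalIdeal L * KL ⊔ Ideal.ofList post := by
    intro pre g post heq hg
    have hkr : KR (pre ++ g :: post) := heq ▸ hG.map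
    refine kr_indep hkr (fun x hx => ?_) ?_
    · rw [← heq] at hx
      obtain ⟨a, ha, rfl⟩ := List.mem_map.1 hx
      exact (IsLocalization.AtPrime.to_map_mem_maximal_iff L p.asIdeal _).2 (hKp (hGK' a ha))
    · obtain ⟨y, hy, w, hw, rfl⟩ := Submodule.mem_sup.1 hg
      refine Submodule.mem_sup.2 ⟨y, ?_, w, hw, rfl⟩
      have hyG : y ∈ (Ideal.ofList G).map (algebraMap R L) := by
        rw [LCI19.map_ofList, heq]
        have h2 : w ∈ Ideal.ofList (pre ++ (y + w) :: post) :=
          Ideal.span_mono (fun x hx => List.mem_append_right pre (List.mem_cons_of_mem _ hx)) hw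
        have h1 : y + w ∈ Ideal.ofList (pre ++ (y + w) :: post) :=
          Ideal.subset_span (List.mem_append_right pre List.mem_cons_self)
        simpa using sub_mem h1 h2
      rw [← heq, ← LCI19.map_ofList, ← IsLocalization.AtPrime.map_eq_maximalIdeal p.asIdeal L, ← Ideal.map_mul]
      rw [← IsLocalization.AtPrime.map_eq_maximalIdeal p.asIdeal L, ← Ideal.map_mul] at hy
      have hy' : y ∈ (Ideal.ofList G).map (algebraMap R L) ⊓ (p.asIdeal * K).map (algebraMap R L) := ⟨hyG, hy⟩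
      rw [← IsLocalization.map_inf p.asIdeal.primeCompl L] at hy'
      exact Ideal.map_mono (hsplit p.asIdeal p.2 hKp) hy'
  obtain ⟨l', hsub, hlen, hle⟩ := exists_complete (algebraMap R L) KL l
    (fun x hx => Ideal.mem_map_of_mem _ (hlK x hx)) hKL (G.map (algebraMap R L)) hmem hind
  rw [List.length_map] at hlen
  let J : Ideal R := Ideal.ofList (l' ++ G)
  have hJK : J ≤ K := Ideal.span_le.2 fun x hx => by
    rcases List.mem_append.1 hx with h | h
    · exact hlK x (hsub h)
    · exact hGK' x h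
  have hKJ : KL ≤ J.map (algebraMap R L) := by
    refine Submodule.le_of_le_smul_of_le_jacobson_bot (hfg.map _) (IsLocalRing.maximalIdeal_le_jacobson ⊥) ?_
    rw [smul_eq_mul]
    refine hle.trans (sup_le (sup_le le_sup_right ?_) ?_) <;>
      (rw [LCI19.map_ofList, List.map_append, Ideal.ofList_append])
    · exact le_sup_of_le_left le_sup_right
    · exact le_sup_of_le_left le_sup_left
  obtain ⟨t, htp, ht⟩ : ∃ t, t ∉ p.asIdeal ∧ ∀ k ∈ K, t * k ∈ J := by
    obtain ⟨T, hT⟩ := hfg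
    have h1 : ∀ k ∈ T, ∃ m ∈ p.asIdeal.primeCompl, m * k ∈ J := fun k hk =>
      (IsLocalization.algebraMap_mem_map_algebraMap_iff p.asIdeal.primeCompl L J k).1
        (hKJ (Ideal.mem_map_of_mem _ (hT ▸ Ideal.subset_span hk)))
    choose m hm hmk using h1
    let t : R := ∏ k ∈ T.attach, m k.1 k.2
    refine ⟨t, (prod_mem fun k _ => hm k.1 k.2 : t ∈ p.asIdeal.primeCompl), fun k hk => ?_⟩
    suffices K ≤ Submodule.comap (LinearMap.mulLeft R t) J from this hk
    rw [← hT]
    refine Submodule.span_le.2 fun x hx => ?_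
    obtain ⟨c, hc⟩ := Finset.dvd_prod_of_mem (fun k : T => m k.1 k.2) (Finset.mem_attach T ⟨x, hx⟩)
    show t * x ∈ J
    rw [show t * x = c * (m x hx * x) by rw [show t = m x hx * c from hc]; ring]
    exact Ideal.mul_mem_left _ _ (hmk x hx)
  let d := s * t
  have hd : d ∉ p.asIdeal := fun h => (p.2.mem_or_mem h).elim hsp htp
  let C := Localization.Away d
  have hdu : IsUnit (algebraMap R C d) := IsLocalization.Away.algebraMap_isUnit d
  replace hdu : IsUnit (algebraMap R C s) ∧ IsUnit (algebraMap R C t) :=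
    IsUnit.mul_iff.1 (by rw [← map_mul]; exact hdu)
  let := (IsLocalization.Away.lift (S := Localization.Away s) s hdu.1).toAlgebra
  haveI : IsScalarTower R (Localization.Away s) C :=
    IsScalarTower.of_algebraMap_eq fun a => (IsLocalization.Away.lift_eq s hdu.1 a).symm
  haveI := flat_over_localization (Submonoid.powers s) (Localization.Away s) C
  have hCkr : KR (l.map (algebraMap R C)) := by
    have := KR.map (B := C) hlkr
    rwa [List.map_map, ← RingHom.coe_comp, ← IsScalarTower.algebraMap_eq] at this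
  have hCI : K.map (algebraMap R C) = Ideal.ofList (l.map (algebraMap R C)) := by
    rw [IsScalarTower.algebraMap_eq R (Localization.Away s) C, ← Ideal.map_map, hlI, LCI19.map_ofList,
      List.map_map, ← RingHom.coe_comp, ← IsScalarTower.algebraMap_eq]
  have hCJ : K.map (algebraMap R C) = J.map (algebraMap R C) := by
    refine le_antisymm (Ideal.map_le_iff_le_comap.2 fun k hk => ?_) (Ideal.map_mono hJK)
    rw [Ideal.mem_comap]
    refine (Ideal.unit_mul_mem_iff_mem _ hdu.2).1 ?_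
    rw [← map_mul]
    exact Ideal.mem_map_of_mem _ (ht k hk)
  have hJkr : KR (l'.map (algebraMap R C) ++ G.map (algebraMap R C)) := by
    refine kR_of_length_le hCkr ?_ (by simp; omega)
    rw [← List.map_append, ← LCI19.map_ofList, ← hCI, hCJ]
  refine ⟨algebraMap R S d, hd, l'.map (algebraMap R S), fun x hx => ?_, ?_⟩
  · obtain ⟨a, ha, rfl⟩ := List.mem_map.1 hx
    exact Ideal.mem_map_of_mem _ (hlK a (hsub ha))
  let P' := Localization.Away (algebraMap R S d)
  let π : C →+* P' := IsLocalization.Away.map C P' (algebraMap R S) d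
  let : Algebra C P' := π.toAlgebra
  have hsq : ∀ a : R, algebraMap C P' (algebraMap R C a) = algebraMap S P' (algebraMap R S a) :=
    fun a => by simp [π, C, P', RingHom.algebraMap_toAlgebra, IsLocalization.Away.map]
  have hcomp : (algebraMap S P').comp (algebraMap R S) = (algebraMap C P').comp (algebraMap R C) :=
    RingHom.ext fun a => (hsq a).symm
  have hloc : IsLocalization (Submonoid.map (algebraMap R S) (Submonoid.powers d)) P' := by
    rw [Submonoid.map_powers]; infer_instance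
  have hπ : Function.Surjective (algebraMap C P') :=
    IsLocalization.map_surjective_of_surjective (Submonoid.powers d) C P' hs
  have hker' : RingHom.ker (algebraMap C P') = Ideal.ofList (G.map (algebraMap R C)) := by
    rw [← LCI19.map_ofList, ← hker]
    exact IsLocalization.ker_map P' (g := algebraMap R S) (T := Submonoid.powers (algebraMap R S d))
      (by rw [Submonoid.map_powers])
  have hmap : (l'.map (algebraMap R S)).map (algebraMap S P') = (l'.map (algebraMap R C)).map (algebraMap C P') := by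
    rw [List.map_map, List.map_map, ← RingHom.coe_comp, ← RingHom.coe_comp, hcomp]
  refine ⟨hmap ▸ kR_map_of_append hπ hker' hG.map hJkr, ?_⟩
  rw [hmap, Ideal.map_map, hcomp, ← Ideal.map_map, hCJ, LCI19.map_ofList, List.map_append, LCI19.map_ofList,
    List.map_append, Ideal.ofList_append]
  refine sup_eq_left.2 (Ideal.span_le.2 fun x hx => ?_)
  obtain ⟨y, hy, rfl⟩ := List.mem_map.1 hx
  have : algebraMap C P' y = 0 := RingHom.mem_ker.1 (hker' ▸ Ideal.subset_span hy)
  rw [SetLike.mem_coe, this]; exact zero_mem _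

/-- The kernel on a basic open of a closed affine chart. -/
theorem ker_app_basicOpen {X Y : Scheme.{u}} (i : Y ⟶ X) [IsClosedImmersion i] (U : X.affineOpens)
    (g : Γ(X, U.1)) :
    RingHom.ker (i.app (X.basicOpen g)).hom =
      (RingHom.ker (i.app U.1).hom).map (X.presheaf.map (homOfLE (X.basicOpen_le g)).op).hom := by
  have h := i.ker.map_ideal_basicOpen U g
  rw [Scheme.Hom.ker_apply, Scheme.Hom.ker_apply] at h
  exact h.symm

/-- A local retraction of a map of modules gives, on sections over a smaller open, a semilinear retraction. -/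
theorem exists_retraction_app {Z : Scheme.{u}} {M N : Z.Modules} (φ : M ⟶ N) {U P : Z.Opens} (hP : P ≤ U)
    (ρ : (Scheme.Modules.restrictFunctor U.ι).obj N ⟶ (Scheme.Modules.restrictFunctor U.ι).obj M)
    (hρ : (Scheme.Modules.restrictFunctor U.ι).map φ ≫ ρ = 𝟙 _) :
    ∃ r : Γ(N, P) →ₗ[Γ(Z, P)] Γ(M, P), ∀ y, r (φ.app P y) = y := by
  let Q : U.toScheme.Opens := U.ι ⁻¹ᵁ P
  have e : U.ι ''ᵁ Q = P := by
    rw [Scheme.Hom.image_preimage_eq_opensRange_inf, Scheme.Opens.opensRange_ι, inf_eq_right]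
    exact hP
  let ρQ : Γ(N, U.ι ''ᵁ Q) →+ Γ(M, U.ι ''ᵁ Q) := (ρ.app Q).hom
  have hlin : ∀ (c : Γ(Z, U.ι ''ᵁ Q)) (y : Γ(N, U.ι ''ᵁ Q)), ρQ (c • y) = c • ρQ y := fun c y => by
    obtain ⟨c', rfl⟩ : ∃ c', (U.ι.appIso Q).inv c' = c :=
      ⟨(U.ι.appIso Q).hom c, by rw [← ConcreteCategory.comp_apply, Iso.hom_inv_id]; rfl⟩
    let y' : Γ((Scheme.Modules.restrictFunctor U.ι).obj N, Q) := y
    exact ρ.app_smul c' y'
  refine ⟨{ toFun := fun x => res M e.ge (ρQ (res N e.le x))
            map_add' := fun a b => by rw [QC70.res_add, map_add, QC70.res_add]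
            map_smul' := fun a x => ?_ }, fun y => ?_⟩
  · rw [RingHom.id_apply, res_smul, hlin, res_smul]
    congr 1
    show Z.presheaf.map _ (Z.presheaf.map _ a) = a
    rw [← ConcreteCategory.comp_apply, ← Functor.map_comp]
    exact congr($(Z.presheaf.map_id _) a)
  · show res M e.ge (ρQ (res N e.le (φ.app P y))) = y
    rw [← app_res φ]
    have h1 : ρQ (φ.app (U.ι ''ᵁ Q) (res M e.le y)) = res M e.le y :=
      congr($(congrArg (fun a => Scheme.Modules.Hom.app a Q) hρ) (res M e.le y))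
    rw [h1, res_res, res_self (M := M)]

/-- The purely algebraic consequence of a split conormal sequence on a chart. -/
theorem inf_prime_mul_le_of_retraction {X Y Z : Scheme.{u}} (i : Y ⟶ X) [IsClosedImmersion i]
    (j : Z ⟶ Y) [IsClosedImmersion j] {φ₁ : (Scheme.Modules.pullback j).obj (Omega.conormal i) ⟶ Omega.conormal (j ≫ i)}
    (hφ₁ : OmegaSh.IsConormalMap (j ≫ i) i (𝟙 X) j φ₁) {W : X.Opens} (hW : IsAffineOpen W)
    (hfW : IsAffineOpen (i ⁻¹ᵁ W)) (hfs : Function.Surjective (i.app W))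
    (hjW : IsAffineOpen (j ⁻¹ᵁ (i ⁻¹ᵁ W))) (hjs : Function.Surjective (j.app (i ⁻¹ᵁ W)))
    (r : Γ(Omega.conormal (j ≫ i), j ⁻¹ᵁ (i ⁻¹ᵁ W)) →ₗ[Γ(Z, j ⁻¹ᵁ (i ⁻¹ᵁ W))]
      Γ((Scheme.Modules.pullback j).obj (Omega.conormal i), j ⁻¹ᵁ (i ⁻¹ᵁ W)))
    (hr : ∀ y, r (φ₁.app _ y) = y)
    (p : Ideal Γ(X, W)) (hp : RingHom.ker ((j ≫ i).app W).hom ≤ p) :
    RingHom.ker (i.app W).hom ⊓ p * RingHom.ker ((j ≫ i).app W).hom ≤
      p * RingHom.ker (i.app W).hom := by
  let A := Γ(X, W)
  let I : Ideal A := RingHom.ker (i.app W).hom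
  let V := i ⁻¹ᵁ W
  let P := j ⁻¹ᵁ V
  let N := ↥I ⧸ (p • ⊤ : Submodule A ↥I)
  have hcs : Function.Surjective ((j ≫ i).app W) := by
    rw [Scheme.Hom.comp_app]; exact hjs.comp hfs
  let c : Γ(Z, P) →+* A ⧸ p := RingHom.liftOfSurjective ((j ≫ i).app W).hom hcs
    ⟨Ideal.Quotient.mk p, by rwa [Ideal.mk_ker]⟩
  have hc : ∀ a, c ((j ≫ i).app W a) = Ideal.Quotient.mk p a := fun a =>
    RingHom.liftOfSurjective_comp_apply _ hcs _ a
  letI : Module Γ(Z, P) N := Module.compHom N c
  haveI : (ClSub.idealMod i.ker).IsQuasicoherent := Omega57.isQuasicoherent_idealMod _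
  haveI : (Omega.conormal i).IsQuasicoherent := QCPull72.isQuasicoherent_pullback _ _
  have hIp : I ≤ p := fun a ha => hp (by
    show (j ≫ i).app W a = 0
    rw [Scheme.Hom.comp_app, ConcreteCategory.comp_apply, show i.app W a = 0 from ha, map_zero])
  have hI : ∀ k, OmegaSh.idealSect i.ker W k ∈ I := fun k => FlatMor67.app_idealSect i W k
  let g0 : Γ(ClSub.idealMod i.ker, W) →+ N := AddMonoidHom.mk'
    (fun k => Submodule.Quotient.mk (⟨_, hI k⟩ : ↥I)) fun a b => by
      rw [← Submodule.Quotient.mk_add]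
      exact congrArg Submodule.Quotient.mk (Subtype.ext (map_add _ a b))
  have hg0 : ∀ k, OmegaSh.conormalSect i W k = 0 → g0 k = 0 := fun k hk => by
    rw [Om3.conormalSect_eq_zero_iff i hW hfW hfs, pow_two] at hk
    refine (Submodule.Quotient.mk_eq_zero _).2 ((Submodule.mem_smul_top_iff p _ _).2 ?_)
    exact Ideal.mul_mono_left hIp hk
  have hcsurj := Om3.conormalSect_surjective i hW hfW hfs
  let g : Γ(Omega.conormal i, V) →+ N :=
    (OmegaSh.conormalSect i W).hom.liftOfRightInverse (Function.surjInv hcsurj)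
      (Function.rightInverse_surjInv hcsurj) ⟨g0, hg0⟩
  have hg : ∀ k, g (OmegaSh.conormalSect i W k) = g0 k := fun k =>
    AddMonoidHom.liftOfRightInverse_comp_apply _ _ _ ⟨g0, hg0⟩ k
  have hg0s : ∀ (a : A) k, g0 (a • k) = Ideal.Quotient.mk p a • g0 k := fun a k => by
    show (Submodule.Quotient.mk (⟨_, hI (a • k)⟩ : ↥I) : N) =
      a • (Submodule.Quotient.mk (⟨_, hI k⟩ : ↥I) : N)
    rw [← Submodule.Quotient.mk_smul]
    exact congrArg Submodule.Quotient.mk (Subtype.ext (Omega57.idealSect_smul _ _ _ _))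
  obtain ⟨l, hl⟩ := SchBasics.exists_linear_pullSect_module j (Omega.conormal i) hjW hfW le_rfl N g fun b m => by
    obtain ⟨k, rfl⟩ := hcsurj m
    obtain ⟨a, rfl⟩ := hfs b
    rw [← Om3.conormalSect_smul, hg, hg, hg0s, ← Scheme.Hom.app_eq_appLE, ← hc]
    rfl
  have hlr : ∀ (b : Γ(Z, P)) (v : Γ(Omega.conormal (j ≫ i), P)), l (r (b • v)) = c b • l (r v) :=
    fun b v => by rw [r.map_smul, l.map_smul]; rfl
  rintro x ⟨hxI, hxp⟩
  obtain ⟨k, hk⟩ := Om3.exists_sect_of_app_eq_zero i x hxI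
  obtain ⟨t, ht, ht0⟩ : ∃ t : Γ(ClSub.idealMod (j ≫ i).ker, W),
      OmegaSh.idealSect (j ≫ i).ker W t = x ∧ l (r (OmegaSh.conormalSect (j ≫ i) W t)) = 0 := by
    clear hxI hk
    induction hxp using Submodule.mul_induction_on' with
    | mem_mul_mem a ha d hd =>
      obtain ⟨t, ht⟩ := Om3.exists_sect_of_app_eq_zero (j ≫ i) d hd
      refine ⟨a • t, by rw [Omega57.idealSect_smul, ht], ?_⟩
      rw [Om3.conormalSect_smul]
      refine (hlr _ _).trans ?_
      rw [hc, Ideal.Quotient.eq_zero_iff_mem.2 ha, zero_smul]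
    | add a _ b _ ha hb =>
      obtain ⟨t₁, e₁, z₁⟩ := ha
      obtain ⟨t₂, e₂, z₂⟩ := hb
      exact ⟨t₁ + t₂, by rw [map_add, e₁, e₂], by rw [map_add, map_add, map_add, z₁, z₂, add_zero]⟩
  let G := (Scheme.Modules.pullback j).obj (Omega.conormal i)
  let y := OmegaSh.pullSect j (Omega.conormal i) V (OmegaSh.conormalSect i W k)
  have hv : φ₁.app P y = OmegaSh.conormalSect (j ≫ i) W t := by
    have := Om3.conormalMap_val hφ₁ (U' := W) (U := W) le_rfl (P := P) le_rfl le_rfl k t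
      (by
        rw [ht, ← hk, Scheme.Hom.appLE, Scheme.Hom.id_app, ConcreteCategory.comp_apply]
        show _ = X.presheaf.map (𝟙 _) _
        rw [CategoryTheory.Functor.map_id]
        rfl)
    rw [res_self (M := G), res_self (M := Omega.conormal (j ≫ i))] at this
    exact this
  have h0 : g0 k = 0 := by
    rw [← hg, ← hl, res_self (M := G)]
    show l y = 0
    rw [← hr y]
    exact (congrArg (fun v => l (r v)) hv).trans ht0
  have h1 := (Submodule.mem_smul_top_iff p _ _).1 ((Submodule.Quotient.mk_eq_zero _).1 h0)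
  rw [← hk]
  exact h1

/-- If the conormal sequence is locally split and `i`, `j ≫ i` are Koszul regular, so is `j`. -/
theorem isRegularImmersion_of_split {X Y Z : Scheme.{u}}
    (i : Y ⟶ X) [IsClosedImmersion i] (j : Z ⟶ Y) [IsClosedImmersion j]
    (hi : RegImm.IsRegularImmersion .koszul i) (hij : RegImm.IsRegularImmersion .koszul (j ≫ i))
    {φ₁ : (Scheme.Modules.pullback j).obj (Omega.conormal i) ⟶ Omega.conormal (j ≫ i)}
    (hφ₁ : OmegaSh.IsConormalMap (j ≫ i) i (𝟙 X) j φ₁)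
    (hsplit : ∀ z : Z, ∃ (U : Z.Opens) (ρ : (Scheme.Modules.restrictFunctor U.ι).obj (Omega.conormal (j ≫ i)) ⟶
        (Scheme.Modules.restrictFunctor U.ι).obj ((Scheme.Modules.pullback j).obj (Omega.conormal i))),
        z ∈ U ∧ (Scheme.Modules.restrictFunctor U.ι).map φ₁ ≫ ρ = 𝟙 _) :
    RegImm.IsRegularImmersion .koszul j := by
  refine FlatMor68.KoszulCalc.isRegularImmersion_of_lciProp j ?_
  rw [HasRingHomProperty.iff_exists_appLE (P := FlatMor68.KoszulCalc.lciProp.{u})
    FlatMor68.LCICalc.lciHom_source]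
  intro z
  obtain ⟨U, hzU, -, rs, hrs, hker⟩ := hi.2 (j z)
  obtain ⟨Us, ρ, hzUs, hρ⟩ := hsplit z
  obtain ⟨T, hT, hTU⟩ := (j ≫ i).isClosedEmbedding.isEmbedding.isInducing.isOpen_iff.1 Us.2
  obtain ⟨g, hg, hzg⟩ := U.2.exists_basicOpen_le (V := ⟨T, hT⟩) ⟨i (j z), hTU.ge hzUs⟩ hzU
  let W := X.basicOpen g
  have hW : IsAffineOpen W := U.2.basicOpen g
  have hfW : IsAffineOpen (i ⁻¹ᵁ W) := hW.preimage i
  have hfs : Function.Surjective (i.app W) := i.app_surjective W hW
  have hjW : IsAffineOpen (j ⁻¹ᵁ (i ⁻¹ᵁ W)) := hfW.preimage j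
  have hjs : Function.Surjective (j.app (i ⁻¹ᵁ W)) := j.app_surjective _ hfW
  have hcs : Function.Surjective ((j ≫ i).app W) := by
    rw [Scheme.Hom.comp_app]; exact hjs.comp hfs
  have hPU : (j ≫ i) ⁻¹ᵁ W ≤ Us := fun y hy => hTU.le (hg hy)
  obtain ⟨r, hr⟩ := exists_retraction_app φ₁ hPU ρ hρ
  -- the generators on the basic open
  letI b1 : Algebra Γ(X, U.1) Γ(X, W) := (X.presheaf.map (homOfLE (X.basicOpen_le g)).op).hom.toAlgebra
  haveI := U.2.isLocalization_basicOpen g
  haveI : Module.Flat Γ(X, U.1) Γ(X, W) := IsLocalization.flat Γ(X, W) (Submonoid.powers g)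
  let G : List Γ(X, W) := rs.map (algebraMap Γ(X, U.1) Γ(X, W))
  have hG : KR G := ((kR_iff rs).2 hrs).map
  have hGker : RingHom.ker (i.app W).hom = Ideal.ofList G := by
    rw [ker_app_basicOpen i U g, hker, LCI19.map_ofList]
    rfl
  have hK : LCI.IsKoszulRegularIdeal (RingHom.ker ((j ≫ i).app W).hom) :=
    isKoszulRegularIdeal_ker_app (j ≫ i)
      (FlatMor68.KoszulCalc.lciProp_of_isRegularImmersion _ hij) hW hjW hcs
  letI a0 : Algebra Γ(X, W) Γ(Y, i ⁻¹ᵁ W) := (i.app W).hom.toAlgebra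
  have hKle : RingHom.ker (i.app W).hom ≤ RingHom.ker ((j ≫ i).app W).hom := fun a ha => by
    show (j ≫ i).app W a = 0
    rw [Scheme.Hom.comp_app, ConcreteCategory.comp_apply, show i.app W a = 0 from ha, map_zero]
  have hJ := isKoszulRegularIdeal_map_of_split (S := Γ(Y, i ⁻¹ᵁ W)) hfs G hGker hG _ (hGker ▸ hKle) hK
    fun p _ hp => hGker ▸ inf_prime_mul_le_of_retraction i j hφ₁ hW hfW hfs hjW hjs r hr p hp
  have hmap : (RingHom.ker ((j ≫ i).app W).hom).map (algebraMap Γ(X, W) Γ(Y, i ⁻¹ᵁ W)) =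
      RingHom.ker (j.app (i ⁻¹ᵁ W)).hom := by
    rw [Scheme.Hom.comp_app, CommRingCat.hom_comp, ← RingHom.comap_ker]
    exact Ideal.map_comap_of_surjective _ hfs _
  rw [hmap] at hJ
  refine ⟨⟨i ⁻¹ᵁ W, hfW⟩, ⟨j ⁻¹ᵁ (i ⁻¹ᵁ W), hjW⟩, hzg, le_rfl, ?_⟩
  rw [← Scheme.Hom.app_eq_appLE]
  show FlatMor68.LCICalc.LCIHom (j.app (i ⁻¹ᵁ W)).hom
  letI a1 : Algebra Γ(Y, i ⁻¹ᵁ W) Γ(Z, j ⁻¹ᵁ (i ⁻¹ᵁ W)) := (j.app (i ⁻¹ᵁ W)).hom.toAlgebra
  show LCI.IsLCI Γ(Y, i ⁻¹ᵁ W) Γ(Z, j ⁻¹ᵁ (i ⁻¹ᵁ W))
  let e := MvPolynomial.isEmptyAlgEquiv Γ(Y, i ⁻¹ᵁ W) (Fin 0)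
  refine ⟨Algebra.FiniteType.of_surjective (Algebra.ofId _ _) hjs, 0,
    (Algebra.ofId _ _).comp e.toAlgHom, hjs.comp e.surjective, ?_⟩
  exact (LCI19.isKoszulRegularIdeal_comap_equiv e.toRingEquiv).2 hJ

end Groth.Agent.RegImm10
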