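import Groth.Agent.CAlg9.RegSeq.Minimal
import Groth.Agent.An92.Nrm.QuasiRegular
import Groth.Agent.RegImm10.KoszulBlow
import Mathlib

/-!
Adapted generators of two regular ideals with regular intersection, and the ideal of the strict
transform in a chart.
-/

set_option autoImplicit false
set_option linter.style.haveILetI false

noncomputable section

universe u

open IsLocalRing RingTheory.Sequence

namespace Groth.Agent.RegImm10.StrictAlg

open CAlg9.RegSeq

section Local

variable {L : Type u} [CommRing L] [IsLocalRing L] [IsNoetherianRing L]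

omit [IsLocalRing L] [IsNoetherianRing L] in
theorem span_append {r q : ℕ} (a : Fin r → L) (b : Fin q → L) :
    Ideal.span (Set.range (Fin.append a b)) =
      Ideal.span (Set.range a) ⊔ Ideal.span (Set.range b) := by
  rw [← Ideal.span_union]
  congr 1
  ext z
  constructor
  · rintro ⟨i, rfl⟩
    induction i using Fin.addCases with
    | left i => exact Or.inl ⟨i, (Fin.append_left a b i).symm⟩
    | right i => exact Or.inr ⟨i, (Fin.append_right a b i).symm⟩
  · rintro (⟨i, rfl⟩ | ⟨i, rfl⟩)
    · exact ⟨_, Fin.append_left a b i⟩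
    · exact ⟨_, Fin.append_right a b i⟩

/-- If `I` and `J/I` are regular then `m J ∩ I = m I`. -/
theorem mem_maximal_mul {I J : Ideal L} (hIJ : I ≤ J) (hJm : J ≤ maximalIdeal L)
    (hI : CInt.IsRegularIdeal I) (hJI : CInt.IsRegularIdeal (J.map (Ideal.Quotient.mk I)))
    {f : L} (hf : f ∈ I) (hfJ : f ∈ maximalIdeal L * J) : f ∈ maximalIdeal L * I := by
  obtain ⟨rs, hrs, rfl⟩ := hI
  obtain ⟨ss, hss, hssJ⟩ := hJI
  choose g hg hgJ using fun j : Fin ss.length => (Ideal.mem_map_iff_of_surjective _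
    Ideal.Quotient.mk_surjective).1 (hssJ ▸ Ideal.subset_span (ss.get_mem j) :
      ss.get j ∈ J.map (Ideal.Quotient.mk (Ideal.ofList rs)))
  have hx : Ideal.span (Set.range rs.get) = Ideal.ofList rs := by rw [← ofList_ofFn, List.ofFn_get]
  have hgens : Ideal.span (Set.range (Fin.append rs.get g)) = J := by
    refine le_antisymm (Ideal.span_le.2 ?_) ?_
    · rintro _ ⟨i, rfl⟩
      induction i using Fin.addCases with
      | left i => rw [Fin.append_left]; exact hIJ (Ideal.subset_span (rs.get_mem i))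
      | right i => rw [Fin.append_right]; exact hg i
    · have h1 : (Ideal.span (Set.range g)).map (Ideal.Quotient.mk (Ideal.ofList rs)) =
          J.map (Ideal.Quotient.mk (Ideal.ofList rs)) := by
        rw [← hssJ, Ideal.map_span, ← Set.range_comp,
          show (Ideal.Quotient.mk (Ideal.ofList rs)) ∘ g = ss.get from funext hgJ, ← ofList_ofFn,
          List.ofFn_get]
      intro a ha
      have h2 := h1.ge (Ideal.mem_map_of_mem _ ha)
      rw [Ideal.mem_quotient_iff_mem_sup] at h2
      rw [span_append, hx, sup_comm]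
      exact h2
  have hw : IsWeaklyRegular L (List.ofFn (Fin.append rs.get g)) := by
    rw [List.ofFn_fin_append, List.ofFn_get, isWeaklyRegular_append_iff]
    refine ⟨hrs.1, (LinearEquiv.isWeaklyRegular_congr (Submodule.quotEquivOfEq _ _ (show
      Ideal.ofList rs = Ideal.ofList rs • (⊤ : Submodule L L) by
        rw [smul_eq_mul, Ideal.mul_top])) _).1 ?_⟩
    rw [← isWeaklyRegular_map_algebraMap_iff (L ⧸ Ideal.ofList rs), List.map_ofFn,
      show (algebraMap L (L ⧸ Ideal.ofList rs)) ∘ g = ss.get from funext hgJ, List.ofFn_get]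
    exact hss.1
  have hreg : IsRegular L (List.ofFn (Fin.append rs.get g)) := by
    refine ⟨hw, ?_⟩
    rw [ofList_ofFn, hgens, smul_eq_mul, Ideal.mul_top]
    exact (ne_top_of_le_maximal hJm).symm
  have hrank := spanFinrank_eq _ hreg
  rw [hgens] at hrank
  rw [← hx, Ideal.mem_span_range_iff_exists_fun] at hf
  obtain ⟨a, rfl⟩ := hf
  have ha : ∀ i, a i ∈ maximalIdeal L := fun i => by
    have := coeff_mem_of_minimal (Fin.append rs.get g) hgens hrank.ge (Fin.append a 0) (by
      simpa [Fin.sum_univ_add] using hfJ) (Fin.castAdd _ i)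
    rwa [Fin.append_left] at this
  exact sum_mem fun i _ => Ideal.mul_mem_mul (ha i) (Ideal.subset_span (rs.get_mem i))

/-- The extra generators of `K` generate `(I ⊔ K) / I` minimally. -/
theorem minimal_quotient (I K : Ideal L) (hIm : I ≤ maximalIdeal L) {c s : ℕ} (h : Fin c → L)
    (w : Fin s → L) (hh : ∀ i, h i ∈ I ⊓ K) (hwK : ∀ i, w i ∈ K)
    (hw : Ideal.span (Set.range (Fin.append w h)) = K) (hs : s + c = K.spanFinrank)
    (hspan : I ⊓ K ≤ Ideal.span (Set.range h) ⊔ maximalIdeal L * (I ⊔ K))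
    (hmK : ∀ {f : L}, f ∈ K → f ∈ maximalIdeal L * (I ⊔ K) → f ∈ maximalIdeal L * K) :
    s = ((I ⊔ K).map (Ideal.Quotient.mk I)).spanFinrank := by
  haveI : Nontrivial (L ⧸ I) := Ideal.Quotient.nontrivial_iff.2 (ne_top_of_le_maximal hIm)
  haveI : IsLocalRing (L ⧸ I) := IsLocalRing.of_surjective' _ Ideal.Quotient.mk_surjective
  let q := Ideal.Quotient.mk I
  let J := I ⊔ K
  let m := maximalIdeal L
  have hgen : Ideal.span (Set.range (q ∘ w)) = J.map q := by
    rw [Set.range_comp, ← Ideal.map_span, Ideal.map_sup, Ideal.map_quotient_self, bot_sup_eq]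
    refine le_antisymm (Ideal.map_mono (Ideal.span_le.2 (Set.range_subset_iff.2 hwK))) ?_
    rw [← hw, span_append, Ideal.map_sup]
    refine sup_le le_rfl ?_
    rw [Ideal.map_le_iff_le_comap, Ideal.span_le]
    rintro _ ⟨i, rfl⟩
    rw [SetLike.mem_coe, Ideal.mem_comap, Ideal.Quotient.eq_zero_iff_mem.2 (hh i).1]
    exact zero_mem _
  have hmap : (maximalIdeal L).map q = maximalIdeal (L ⧸ I) :=
    IsLocalRing.map_maximalIdeal_of_surjective q Ideal.Quotient.mk_surjective
  have hind : ∀ e : Fin s → L ⧸ I, ∑ i, e i * (q ∘ w) i ∈ maximalIdeal (L ⧸ I) * J.map q →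
      ∀ i, e i ∈ maximalIdeal (L ⧸ I) := by
      intro e he i
      choose e' he' using fun i => Ideal.Quotient.mk_surjective (I := I) (e i)
      have hsum0 : ∑ i, e i * (q ∘ w) i = q (∑ i, e' i * w i) := by
        rw [map_sum]
        exact Finset.sum_congr rfl fun i _ => by rw [map_mul, ← he' i]; rfl
      rw [← hmap, ← Ideal.map_mul, hsum0] at he
      replace he : ∑ i, e' i * w i ∈ m * J ⊔ I := Ideal.mem_quotient_iff_mem_sup.1 he
      have he2 : ∑ i, e' i * w i ∈ I ⊔ m * K := by
        have hle : maximalIdeal L * (I ⊔ K) ⊔ I ≤ I ⊔ maximalIdeal L * K := by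
          rw [Ideal.mul_sup]
          exact sup_le (sup_le (le_sup_of_le_left Ideal.mul_le_right) le_sup_right) le_sup_left
        exact hle he
      obtain ⟨i₀, hi₀, k', hk', hsum⟩ := Submodule.mem_sup.1 he2
      have hi₀K : i₀ ∈ K := by
        have : i₀ = ∑ i, e' i * w i - k' := eq_sub_of_add_eq hsum
        rw [this]
        exact sub_mem (sum_mem fun i _ => K.mul_mem_left _ (hwK i)) (Ideal.mul_le_right hk')
      obtain ⟨z, hz, j, hj, hzj⟩ := Submodule.mem_sup.1 (hspan ⟨hi₀, hi₀K⟩)
      obtain ⟨a, rfl⟩ := Ideal.mem_span_range_iff_exists_fun.1 hz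
      have hjK : j ∈ m * K := hmK (by
        rw [show j = i₀ - ∑ i, a i * h i from eq_sub_of_add_eq' hzj]
        exact sub_mem hi₀K (sum_mem fun i _ => K.mul_mem_left _ (hh i).2)) hj
      have hmem : ∑ l, Fin.append e' (fun l => -a l) l * Fin.append w h l ∈ m * K := by
        rw [show ∑ l, Fin.append e' (fun l => -a l) l * Fin.append w h l = k' + j by
          simp only [Fin.sum_univ_add, Fin.append_left, Fin.append_right, neg_mul,
            Finset.sum_neg_distrib]
          linear_combination -hsum - hzj]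
        exact add_mem hk' hjK
      have hi := coeff_mem_of_minimal (Fin.append w h) hw hs.le _ hmem (Fin.castAdd c i)
      rw [Fin.append_left] at hi
      rw [← he', ← hmap]
      exact Ideal.mem_map_of_mem _ hi
  obtain ⟨t, _, -, -, ht⟩ := extend_minimal (J.map q) (J.map q) le_rfl (q ∘ w)
    (fun i => hgen ▸ Ideal.subset_span ⟨i, rfl⟩) le_sup_left hind
  have hle : (J.map q).spanFinrank ≤ s := by
    rw [← hgen]
    refine (Submodule.spanFinrank_span_le_ncard_of_finite (Set.finite_range _)).trans ?_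
    rw [← Nat.card_coe_set_eq]
    exact (Finite.card_range_le _).trans_eq (Nat.card_fin s)
  change s = (J.map q).spanFinrank
  omega

/-- Regular ideals `I`, `K` whose sum is regular over both have adapted generators. -/
theorem exists_adapted (I K : Ideal L) (hIm : I ≤ maximalIdeal L) (hKm : K ≤ maximalIdeal L)
    (hI : CInt.IsRegularIdeal I) (hK : CInt.IsRegularIdeal K)
    (hJI : CInt.IsRegularIdeal ((I ⊔ K).map (Ideal.Quotient.mk I)))
    (hJK : CInt.IsRegularIdeal ((I ⊔ K).map (Ideal.Quotient.mk K))) :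
    ∃ (r c s : ℕ) (u : Fin r → L) (h : Fin c → L) (w : Fin s → L),
      (∀ i, h i ∈ I ⊓ K) ∧ Ideal.span (Set.range (Fin.append u h)) = I ∧
      Ideal.span (Set.range (Fin.append w h)) = K ∧
      r + c = I.spanFinrank ∧ s = ((I ⊔ K).map (Ideal.Quotient.mk I)).spanFinrank := by
  classical
  set m := maximalIdeal L
  set J := I ⊔ K
  have hJm : J ≤ m := sup_le hIm hKm
  have hmI : ∀ {f : L}, f ∈ I → f ∈ m * J → f ∈ m * I :=
    fun hf hfJ => mem_maximal_mul le_sup_left hJm hI hJI hf hfJ
  have hmK : ∀ {f : L}, f ∈ K → f ∈ m * J → f ∈ m * K :=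
    fun hf hfJ => mem_maximal_mul le_sup_right hJm hK hJK hf hfJ
  let P : ℕ → Prop := fun n => ∃ h : Fin n → L, (∀ i, h i ∈ I ⊓ K) ∧
    ∀ c : Fin n → L, ∑ i, c i * h i ∈ m * J → ∀ i, c i ∈ m
  have hbound : ∀ n, P n → n ≤ J.spanFinrank := by
    rintro n ⟨h, hh, hind⟩
    obtain ⟨r, _, -, -, hr⟩ := extend_minimal J J le_rfl h (fun i => le_sup_left (b := K) (hh i).1)
      le_sup_left hind
    omega
  have hP0 : P 0 := ⟨Fin.elim0, fun i => i.elim0, fun _ _ i => i.elim0⟩
  obtain ⟨c, ⟨h, hh, hind⟩, hmax⟩ : ∃ c, P c ∧ ¬ P (c + 1) := by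
    by_contra hne
    push Not at hne
    have hall : ∀ n, P n := fun n => Nat.rec hP0 (fun k hk => hne k hk) n
    have := hbound _ (hall (J.spanFinrank + 1))
    omega
  have hspan : I ⊓ K ≤ Ideal.span (Set.range h) ⊔ m * J := by
    intro d hd
    by_contra hnot
    refine hmax ⟨Fin.snoc h d, fun i => ?_, fun e he => ?_⟩
    · induction i using Fin.lastCases with
      | last => simpa using hd
      | cast i => simpa using hh i
    simp only [Fin.sum_univ_castSucc, Fin.snoc_castSucc, Fin.snoc_last] at he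
    have hlast : e (Fin.last c) ∈ m := by
      by_contra hu
      obtain ⟨v, hv⟩ := notMem_maximalIdeal.1 hu
      refine hnot ?_
      have h1 : e (Fin.last c) * d ∈ Ideal.span (Set.range h) ⊔ m * J := by
        rw [show e (Fin.last c) * d = -(∑ i : Fin c, e i.castSucc * h i) +
          ((∑ i : Fin c, e i.castSucc * h i) + e (Fin.last c) * d) by ring]
        exact add_mem (Submodule.mem_sup_left (neg_mem (sum_mem fun i _ =>
          Ideal.mul_mem_left _ _ (Ideal.subset_span ⟨i, rfl⟩)))) (Submodule.mem_sup_right he)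
      rwa [← hv, Ideal.unit_mul_mem_iff_mem _ v.isUnit] at h1
    have h2 : ∑ i : Fin c, e i.castSucc * h i ∈ m * J := by
      have := sub_mem he (Ideal.mul_mem_mul hlast (le_sup_left (b := K) hd.1))
      rwa [add_sub_cancel_right] at this
    intro i
    induction i using Fin.lastCases with
    | last => exact hlast
    | cast i => exact hind (fun i => e i.castSucc) h2 i
  obtain ⟨r, u, -, hu, hr⟩ := extend_minimal I I le_rfl h (fun i => (hh i).1) le_sup_left
    fun e he => hind e (Ideal.mul_mono le_rfl le_sup_left he)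
  obtain ⟨s, w, hwK, hw, hs⟩ := extend_minimal K K le_rfl h (fun i => (hh i).2) le_sup_left
    fun e he => hind e (Ideal.mul_mono le_rfl le_sup_right he)
  refine ⟨r, c, s, u, h, w, hh, hu, hw, hr, ?_⟩
  exact minimal_quotient I K hIm h w hh hwK hw hs hspan hmK

omit [IsLocalRing L] [IsNoetherianRing L] in
/-- Replacing generators by unit multiples does not change the span. -/
theorem span_unit_mul {n : ℕ} (a b : Fin n → L) (h : ∀ i, ∃ v : Lˣ, a i = v * b i) :
    Ideal.span (Set.range a) = Ideal.span (Set.range b) := by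
  apply le_antisymm <;> rw [Ideal.span_le] <;> rintro _ ⟨j, rfl⟩ <;> obtain ⟨v, hv⟩ := h j
  · rw [SetLike.mem_coe, hv]
    exact Ideal.mul_mem_left _ _ (Ideal.subset_span ⟨j, rfl⟩)
  · rw [SetLike.mem_coe, show b j = ↑v⁻¹ * a j by rw [hv, Units.inv_mul_cancel_left]]
    exact Ideal.mul_mem_left _ _ (Ideal.subset_span ⟨j, rfl⟩)

end Local

section Spread

variable {A : Type u} [CommRing A] [IsNoetherianRing A] (p : Ideal A) [p.IsPrime]
  (L : Type u) [CommRing L] [Algebra A L] [IsLocalization.AtPrime L p]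

/-- A finitely generated ideal that equals a smaller one at `p` does so near `p`. -/
theorem exists_notMem_mul_le {I I' : Ideal A} (h : I.map (algebraMap A L) ≤ I'.map (algebraMap A L)) :
    ∃ t, t ∉ p ∧ ∀ r ∈ I, t * r ∈ I' := by
  classical
  obtain ⟨G, hG⟩ := IsNoetherian.noetherian I
  have hex : ∀ r ∈ G, ∃ t, t ∉ p ∧ t * r ∈ I' := by
    intro r hr
    obtain ⟨t, ht, htr⟩ := (IsLocalization.algebraMap_mem_map_algebraMap_iff p.primeCompl L _ _).1
      (h (Ideal.mem_map_of_mem _ (hG ▸ Submodule.subset_span hr)))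
    exact ⟨t, ht, htr⟩
  choose! t ht htr using hex
  refine ⟨∏ r ∈ G, t r, fun hp => ?_, fun r hr => ?_⟩
  · obtain ⟨r, hr, hr'⟩ := (Ideal.IsPrime.prod_mem_iff (p := p)).1 hp
    exact ht r hr hr'
  · rw [← hG] at hr
    induction hr using Submodule.span_induction with
    | mem x hx =>
      obtain ⟨d, hd⟩ := Finset.dvd_prod_of_mem t hx
      rw [hd, mul_right_comm]
      exact I'.mul_mem_right _ (htr x hx)
    | zero => simp
    | add x y _ _ hx hy => rw [mul_add]; exact add_mem hx hy
    | smul a x _ hx => rw [smul_eq_mul, mul_left_comm]; exact I'.mul_mem_left _ hx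

omit [IsNoetherianRing A] in
theorem map_eq_of_mul_le {I I' : Ideal A} (hle : I' ≤ I) {t : A} (h : ∀ r ∈ I, t * r ∈ I')
    {B : Type u} [CommRing B] [Algebra A B] (ht : IsUnit (algebraMap A B t)) :
    I.map (algebraMap A B) = I'.map (algebraMap A B) := by
  refine le_antisymm (Ideal.map_le_iff_le_comap.2 fun r hr => ?_) (Ideal.map_mono hle)
  rw [Ideal.mem_comap, ← Ideal.unit_mul_mem_iff_mem _ ht, ← map_mul]
  exact Ideal.mem_map_of_mem _ (h r hr)

/-- A weakly regular sequence at `p` on a cyclic module stays so near `p`. -/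
theorem exists_weaklyRegular_quotient (I : Ideal A) (xs : List A)
    (h : IsWeaklyRegular (L ⧸ I.map (algebraMap A L)) xs) :
    ∃ g, g ∉ p ∧ ∀ (g' : A), g ∣ g' → ∀ (B : Type u) [CommRing B] [Algebra A B],
      IsLocalization.Away g' B → IsWeaklyRegular (B ⧸ I.map (algebraMap A B)) xs := by
  have key : ∀ (S : Submonoid A) (B : Type u) [CommRing B] [Algebra A B] [IsLocalization S B],
      Nonempty (LocalizedModule S (A ⧸ I) ≃ₗ[A] (B ⧸ I.map (algebraMap A B))) := by
    intro S B _ _ _
    haveI : IsLocalizedModule S (Algebra.linearMap A B) :=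
      (isLocalizedModule_iff_isLocalization' _ _).2 ‹_›
    let f : (A ⧸ I) →ₗ[A] (B ⧸ I.map (algebraMap A B)) :=
      (Ideal.quotientMapₐ (I.map (algebraMap A B)) (Algebra.ofId A B) Ideal.le_comap_map).toLinearMap
    have hf : ∀ a, f (Ideal.Quotient.mk I a) = Ideal.Quotient.mk _ (algebraMap A B a) := fun a => rfl
    haveI : IsLocalizedModule S f := by
      refine ⟨fun s => ?_, fun y => ?_, fun {x₁ x₂} hx => ?_⟩
      · obtain ⟨v, hv⟩ := IsLocalization.map_units B s
        refine (Module.End.isUnit_iff _).2 ⟨fun y y' hyy' => ?_, fun y => ?_⟩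
        · simp only [Module.algebraMap_end_apply, Algebra.smul_def] at hyy'
          exact ((IsLocalization.map_units B s).map (Ideal.Quotient.mk _)).mul_left_cancel hyy'
        · refine ⟨Ideal.Quotient.mk _ (↑v⁻¹ : B) * y, ?_⟩
          simp only [Module.algebraMap_end_apply, Algebra.smul_def,
            ← Ideal.Quotient.mk_algebraMap, ← mul_assoc, ← map_mul]
          rw [← hv, v.mul_inv, map_one, one_mul]
      · obtain ⟨y, rfl⟩ := Ideal.Quotient.mk_surjective y
        obtain ⟨⟨a, s⟩, hs⟩ := IsLocalization.surj S y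
        exact ⟨⟨Ideal.Quotient.mk I a, s⟩, by
          rw [hf, ← hs, Submonoid.smul_def, Algebra.smul_def, ← Ideal.Quotient.mk_algebraMap, ← map_mul,
            mul_comm]⟩
      · obtain ⟨a₁, rfl⟩ := Ideal.Quotient.mk_surjective x₁
        obtain ⟨a₂, rfl⟩ := Ideal.Quotient.mk_surjective x₂
        rw [hf, hf, Ideal.Quotient.eq, ← map_sub] at hx
        obtain ⟨s, hs, hsI⟩ := (IsLocalization.algebraMap_mem_map_algebraMap_iff S B _ _).1 hx
        refine ⟨⟨s, hs⟩, ?_⟩
        show Ideal.Quotient.mk I (s * a₁) = Ideal.Quotient.mk I (s * a₂)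
        rw [Ideal.Quotient.eq, ← mul_sub]
        exact hsI
    exact ⟨IsLocalizedModule.iso S f⟩
  obtain ⟨eL⟩ := key p.primeCompl L
  obtain ⟨g, hg, hW⟩ := An92.Nrm.exists_W p xs (A ⧸ I) ((eL.isWeaklyRegular_congr xs).2 h)
  refine ⟨g, hg, fun g' hgg' B _ _ hB => ?_⟩
  have h1 := Ega11.RegSeqSk.W.isWeaklyRegular xs _ (Ega11.RegSeqSk.W.mono hgg' xs _ hW)
  rw [isWeaklyRegular_map_algebraMap_iff] at h1
  haveI : IsLocalization (Submonoid.powers g') B := hB
  obtain ⟨eB⟩ := key (Submonoid.powers g') B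
  exact (eB.isWeaklyRegular_congr xs).1 h1

/-- Adapted generators near `p`. -/
theorem exists_adapted_away [IsLocalRing L] [IsNoetherianRing L] (I K : Ideal A) (hIp : I ≤ p)
    (hKp : K ≤ p) (hI : CInt.IsRegularIdeal (I.map (algebraMap A L)))
    (hK : CInt.IsRegularIdeal (K.map (algebraMap A L)))
    (hJI : CInt.IsRegularIdeal ((I.map (algebraMap A L) ⊔ K.map (algebraMap A L)).map
      (Ideal.Quotient.mk (I.map (algebraMap A L)))))
    (hJK : CInt.IsRegularIdeal ((I.map (algebraMap A L) ⊔ K.map (algebraMap A L)).map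
      (Ideal.Quotient.mk (K.map (algebraMap A L))))) :
    ∃ g, g ∉ p ∧ ∃ (r c s : ℕ) (u : Fin r → A) (h : Fin c → A) (w : Fin s → A),
      ∀ (B : Type u) [CommRing B] [Algebra A B], IsLocalization.Away g B →
        (∀ i, algebraMap A B (h i) ∈ K.map (algebraMap A B)) ∧
        (∀ i, algebraMap A B (w i) ∈ K.map (algebraMap A B)) ∧
        Ideal.span (Set.range (algebraMap A B ∘ Fin.append u h)) = I.map (algebraMap A B) ∧
        K.map (algebraMap A B) ≤ Ideal.span (Set.range (algebraMap A B ∘ Fin.append w h)) ∧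
        IsWeaklyRegular B (List.ofFn (algebraMap A B ∘ Fin.append u h)) ∧
        IsWeaklyRegular (B ⧸ I.map (algebraMap A B)) (List.ofFn w) := by
  classical
  set IL := I.map (algebraMap A L)
  set KL := K.map (algebraMap A L)
  have hIm : IL ≤ maximalIdeal L := by
    rw [← IsLocalization.AtPrime.map_eq_maximalIdeal p L]; exact Ideal.map_mono hIp
  have hKm : KL ≤ maximalIdeal L := by
    rw [← IsLocalization.AtPrime.map_eq_maximalIdeal p L]; exact Ideal.map_mono hKp
  obtain ⟨r, c, s, u, h, w, hh, hu, hw, hr, hs⟩ := exists_adapted IL KL hIm hKm hI hK hJI hJK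
  have hnum : ∀ {M : Ideal A} {x : L}, x ∈ M.map (algebraMap A L) →
      ∃ (a : A) (v : Lˣ), a ∈ M ∧ algebraMap A L a = v * x := by
    intro M x hx
    obtain ⟨⟨⟨a, ha⟩, t⟩, hat⟩ := (IsLocalization.mem_map_algebraMap_iff p.primeCompl L).1 hx
    obtain ⟨v, hv⟩ := IsLocalization.map_units L t
    exact ⟨a, v, ha, by rw [hv, mul_comm]; exact hat.symm⟩
  have huI : ∀ i, u i ∈ IL := fun i => hu ▸ Ideal.subset_span ⟨_, Fin.append_left u h i⟩
  have hwK : ∀ i, w i ∈ KL := fun i => hw ▸ Ideal.subset_span ⟨_, Fin.append_left w h i⟩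
  choose a₁ v₁ ha₁ hav₁ using fun i => hnum (huI i)
  have hhIK : ∀ i, h i ∈ (I ⊓ K).map (algebraMap A L) := fun i => by
    have hfl : Module.Flat A L := IsLocalization.flat L p.primeCompl
    obtain ⟨a, v, ha, hav⟩ := hnum (hh i).1
    obtain ⟨b, v', hb, hbv⟩ := hnum (hh i).2
    -- both numerators differ by a unit
    have h1 : algebraMap A L a ∈ KL := by
      rw [hav]; exact Ideal.mul_mem_left _ _ (hh i).2
    obtain ⟨t, ht, htK⟩ := (IsLocalization.algebraMap_mem_map_algebraMap_iff p.primeCompl L _ _).1 h1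
    obtain ⟨vt, hvt⟩ := IsLocalization.map_units L (⟨t, ht⟩ : p.primeCompl)
    rw [show h i = ↑(vt * v)⁻¹ * algebraMap A L (t * a) by
      rw [map_mul, hav, ← show (vt : L) = algebraMap A L t from hvt, ← mul_assoc, ← mul_assoc,
        mul_assoc (↑(vt * v)⁻¹ : L), ← Units.val_mul, ← Units.val_mul, inv_mul_cancel,
        Units.val_one, one_mul]]
    exact Ideal.mul_mem_left _ _ (Ideal.mem_map_of_mem _ ⟨I.mul_mem_left _ ha, htK⟩)
  choose a₂ v₂ ha₂ hav₂ using fun i => hnum (hhIK i)
  choose a₃ v₃ ha₃ hav₃ using fun i => hnum (hwK i)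
  have hspanI : (Ideal.span (Set.range (Fin.append a₁ a₂))).map (algebraMap A L) = IL := by
    rw [Ideal.map_span, ← Set.range_comp, ← hu]
    refine span_unit_mul _ _ fun i => ?_
    induction i using Fin.addCases with
    | left i => exact ⟨v₁ i, by simp [hav₁]⟩
    | right i => exact ⟨v₂ i, by simp [hav₂]⟩
  have hspanK : (Ideal.span (Set.range (Fin.append a₃ a₂))).map (algebraMap A L) = KL := by
    rw [Ideal.map_span, ← Set.range_comp, ← hw]
    refine span_unit_mul _ _ fun i => ?_
    induction i using Fin.addCases with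
    | left i => exact ⟨v₃ i, by simp [hav₃]⟩
    | right i => exact ⟨v₂ i, by simp [hav₂]⟩
  have hregI : IsWeaklyRegular L (List.ofFn (Fin.append a₁ a₂)) := by
    rw [← isWeaklyRegular_map_algebraMap_iff L, List.map_ofFn]
    refine (isRegular_of_minimal hI _ ?_ hr).1
    rw [Set.range_comp, ← Ideal.map_span]
    exact hspanI
  have hregW : IsWeaklyRegular (L ⧸ IL) (List.ofFn a₃) := by
    haveI : Nontrivial (L ⧸ IL) := Ideal.Quotient.nontrivial_iff.2 (ne_top_of_le_maximal hIm)
    haveI : IsLocalRing (L ⧸ IL) := IsLocalRing.of_surjective' _ Ideal.Quotient.mk_surjective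
    rw [← isWeaklyRegular_map_algebraMap_iff (L ⧸ IL), List.map_ofFn]
    refine (isRegular_of_minimal hJI _ ?_ hs).1
    have e : Set.range (algebraMap A (L ⧸ IL) ∘ a₃) =
        Ideal.Quotient.mk IL '' Set.range (algebraMap A L ∘ a₃) := by
      rw [← Set.range_comp]; rfl
    rw [e, ← Ideal.map_span, Ideal.map_sup (f := Ideal.Quotient.mk IL), Ideal.map_quotient_self,
      bot_sup_eq]
    have hh0 : (Ideal.span (Set.range (algebraMap A L ∘ a₂))).map (Ideal.Quotient.mk IL) = ⊥ := by
      rw [Ideal.map_eq_bot_iff_le_ker, Ideal.mk_ker, Ideal.span_le]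
      rintro _ ⟨i, rfl⟩
      exact Ideal.mem_map_of_mem _ (ha₂ i).1
    rw [← hspanK, Ideal.map_span (algebraMap A L), ← Set.range_comp,
      show algebraMap A L ∘ Fin.append a₃ a₂ = Fin.append (algebraMap A L ∘ a₃) (algebraMap A L ∘ a₂)
        from funext fun i => by induction i using Fin.addCases <;> simp, span_append, Ideal.map_sup (f := Ideal.Quotient.mk IL), hh0,
      sup_bot_eq]
  obtain ⟨g₁, hg₁, hW₁⟩ := exists_weaklyRegular_quotient p L ⊥ (List.ofFn (Fin.append a₁ a₂)) (by
    rw [Ideal.map_bot]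
    exact ((Submodule.quotEquivOfEqBot (⊥ : Ideal L) rfl).restrictScalars A
      |>.isWeaklyRegular_congr _).2 hregI)
  obtain ⟨g₂, hg₂, hW₂⟩ := exists_weaklyRegular_quotient p L I (List.ofFn a₃) hregW
  obtain ⟨g₃, hg₃, ht₃⟩ := exists_notMem_mul_le p L hspanI.ge
  obtain ⟨g₄, hg₄, ht₄⟩ := exists_notMem_mul_le p L hspanK.ge
  refine ⟨g₁ * g₂ * g₃ * g₄, fun hp => ?_, r, c, s, a₁, a₂, a₃, fun B _ _ hB => ?_⟩
  · rcases Ideal.IsPrime.mem_or_mem ‹_› hp with hp | hp
    · rcases Ideal.IsPrime.mem_or_mem ‹_› hp with hp | hp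
      · rcases Ideal.IsPrime.mem_or_mem ‹_› hp with hp | hp
        · exact hg₁ hp
        · exact hg₂ hp
      · exact hg₃ hp
    · exact hg₄ hp
  have hu3 : IsUnit (algebraMap A B g₃) := isUnit_of_dvd_unit
    (map_dvd _ ((dvd_mul_left g₃ (g₁ * g₂)).trans (dvd_mul_right _ g₄)))
    (IsLocalization.Away.algebraMap_isUnit (g₁ * g₂ * g₃ * g₄))
  have hu4 : IsUnit (algebraMap A B g₄) := isUnit_of_dvd_unit
    (map_dvd _ (dvd_mul_left g₄ (g₁ * g₂ * g₃)))
    (IsLocalization.Away.algebraMap_isUnit (g₁ * g₂ * g₃ * g₄))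
  refine ⟨fun i => Ideal.mem_map_of_mem _ (ha₂ i).2, fun i => Ideal.mem_map_of_mem _ (ha₃ i),
    ?_, ?_, ?_, ?_⟩
  · rw [Set.range_comp, ← Ideal.map_span]
    refine (map_eq_of_mul_le ?_ ht₃ hu3).symm
    rw [Ideal.span_le]
    rintro _ ⟨i, rfl⟩
    induction i using Fin.addCases with
    | left i => simpa using ha₁ i
    | right i => simpa using (ha₂ i).1
  · rw [Set.range_comp, ← Ideal.map_span]
    exact (map_eq_of_mul_le (by
      rw [Ideal.span_le]
      rintro _ ⟨i, rfl⟩
      induction i using Fin.addCases with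
      | left i => simpa using ha₃ i
      | right i => simpa using (ha₂ i).2) ht₄ hu4).le
  · have h1 := hW₁ _ (((dvd_mul_right g₁ g₂).trans (dvd_mul_right _ g₃)).trans (dvd_mul_right _ g₄)) B hB
    rw [Ideal.map_bot] at h1
    rw [← List.map_ofFn, isWeaklyRegular_map_algebraMap_iff]
    exact ((Submodule.quotEquivOfEqBot (⊥ : Ideal B) rfl).restrictScalars A
      |>.isWeaklyRegular_congr _).1 h1
  · exact hW₂ _ (((dvd_mul_left g₂ g₁).trans (dvd_mul_right _ g₃)).trans (dvd_mul_right _ g₄)) B hB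

end Spread

section Chart

variable {A R : Type u} [CommRing A] [CommRing R]

/-- Regular sequences along a surjection. -/
theorem weaklyRegular_append_of_surjective (f : R →+* A) (hf : Function.Surjective f) (rs ss : List R)
    (hker : RingHom.ker f = Ideal.ofList rs) (h1 : IsWeaklyRegular R rs)
    (h2 : IsWeaklyRegular A (ss.map f)) : IsWeaklyRegular R (rs ++ ss) := by
  rw [isWeaklyRegular_append_iff]
  refine ⟨h1, ?_⟩
  letI := f.toAlgebra
  have h3 : IsWeaklyRegular A ss := (isWeaklyRegular_map_algebraMap_iff A A ss).1 h2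
  let e : (R ⧸ (Ideal.ofList rs • ⊤ : Submodule R R)) ≃ₗ[R] A :=
    (Submodule.quotEquivOfEq _ _ (show (Ideal.ofList rs • ⊤ : Submodule R R) =
      LinearMap.ker (Algebra.linearMap R A) by
        rw [smul_eq_mul, Ideal.mul_top, ← hker]; rfl)).trans
      (LinearMap.quotKerEquivOfSurjective (Algebra.linearMap R A) hf)
  exact (e.isWeaklyRegular_congr ss).2 h3

/-- Distinct variables form a weakly regular sequence. -/
theorem weaklyRegular_X {t : ℕ} : ∀ S : List (Fin t), S.Nodup →
    IsWeaklyRegular (MvPolynomial (Fin t) A) (S.map (MvPolynomial.X (R := A) (σ := Fin t))) := by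
  intro S
  induction S using List.reverseRecOn with
  | nil => exact fun _ => by simp
  | append_singleton S j ih =>
    intro hnd
    rw [List.map_append, List.map_singleton, isWeaklyRegular_append_iff]
    have hjS : j ∉ S := fun hj => (List.nodup_append.1 hnd).2.2 j hj j (List.mem_singleton_self j) rfl
    refine ⟨ih (List.nodup_append.1 hnd).1, ?_⟩
    rw [isWeaklyRegular_cons_iff, and_iff_left (IsWeaklyRegular.nil _ _)]
    have hid : (Ideal.ofList (S.map (MvPolynomial.X (R := A))) • ⊤ :
        Submodule (MvPolynomial (Fin t) A) (MvPolynomial (Fin t) A)) =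
        Ideal.span (MvPolynomial.X '' {i | i ∈ S}) := by
      rw [smul_eq_mul, Ideal.mul_top, Ideal.ofList]
      congr 1
      ext z
      simp [List.mem_map]
    rw [isSMulRegular_quotient_iff_mem_of_smul_mem]
    intro z hz
    rw [hid, MvPolynomial.mem_ideal_span_X_image] at hz ⊢
    intro m hm
    obtain ⟨i, hi, him⟩ := hz (Finsupp.single j 1 + m) (by
      rw [smul_eq_mul, MvPolynomial.mem_support_iff, MvPolynomial.coeff_X_mul]
      exact MvPolynomial.mem_support_iff.1 hm)
    refine ⟨i, hi, ?_⟩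
    have hij : j ≠ i := fun e => hjS (e ▸ hi)
    simpa [Finsupp.single_apply, hij] using him

variable [Algebra A R] {t : ℕ} (a : Fin (t + 1) → A) (μ : MvPolynomial (Fin t) A →ₐ[A] R)
  (hsurj : Function.Surjective μ) (hker : RingHom.ker μ = Ideal.ofList (KoszulBlow.rels a))
  (hnzd : algebraMap A R (a 0) ∈ nonZeroDivisors R)

include hsurj hker hnzd in
/-- In the chart the exceptional divisor, elements regular on the centre and some of the coordinates
form a weakly regular sequence. -/
theorem weaklyRegular_chart (ws : List A)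
    (hws : IsWeaklyRegular (A ⧸ Ideal.span (Set.range a)) ws) (S : List (Fin t)) (hS : S.Nodup) :
    IsWeaklyRegular R (algebraMap A R (a 0) ::
      (ws.map (algebraMap A R) ++ S.map (fun j => μ (MvPolynomial.X j)))) := by
  classical
  set I := Ideal.span (Set.range a)
  let F : MvPolynomial (Fin t) A →+* MvPolynomial (Fin t) (A ⧸ I) :=
    MvPolynomial.map (Ideal.Quotient.mk I)
  have hF : Function.Surjective F := MvPolynomial.map_surjective _ Ideal.Quotient.mk_surjective
  have hkF : RingHom.ker F = I.map MvPolynomial.C := by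
    rw [MvPolynomial.ker_map, Ideal.mk_ker]
  have hI : I.map (MvPolynomial.C (σ := Fin t)) =
      Ideal.ofList (MvPolynomial.C (a 0) :: KoszulBlow.rels a) := by
    rw [KoszulBlow.ofList_cons_rels, ← Ideal.map_ofList, CAlg9.RegSeq.ofList_ofFn]
  have hle : RingHom.ker μ.toRingHom ≤ RingHom.ker F := by
    rw [show RingHom.ker μ.toRingHom = Ideal.ofList (KoszulBlow.rels a) from hker, hkF, hI,
      Ideal.ofList_cons]
    exact le_sup_right
  let ψ : R →+* MvPolynomial (Fin t) (A ⧸ I) := μ.toRingHom.liftOfSurjective hsurj ⟨F, hle⟩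
  have hψ : ∀ z, ψ (μ z) = F z := fun z =>
    RingHom.liftOfRightInverse_comp_apply _ _ _ ⟨F, hle⟩ z
  have hψsurj : Function.Surjective ψ := fun z => by
    obtain ⟨z', rfl⟩ := hF z
    exact ⟨μ z', hψ z'⟩
  have hψker : RingHom.ker ψ = Ideal.ofList [algebraMap A R (a 0)] := by
    have hmem : ψ (algebraMap A R (a 0)) = 0 := by
      rw [← μ.commutes, hψ, ← RingHom.mem_ker, hkF, hI]
      exact Ideal.subset_span List.mem_cons_self
    refine le_antisymm (fun z hz => ?_) ?_
    · obtain ⟨z', rfl⟩ := hsurj z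
      have h1 : z' ∈ RingHom.ker F := by rw [RingHom.mem_ker, ← hψ]; exact hz
      rw [hkF, hI, Ideal.ofList_cons] at h1
      obtain ⟨x, hx, y, hy, rfl⟩ := Submodule.mem_sup.1 h1
      rw [map_add, show μ y = 0 from (hker ▸ hy : y ∈ RingHom.ker μ), add_zero]
      obtain ⟨d, rfl⟩ := Ideal.mem_span_singleton'.1 hx
      rw [map_mul]
      refine Ideal.mul_mem_left _ _ (Ideal.subset_span ?_)
      simp [← MvPolynomial.algebraMap_eq]
    · rw [Ideal.ofList, Ideal.span_le]
      intro z hz
      rw [List.mem_singleton.1 hz]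
      exact hmem
  refine weaklyRegular_append_of_surjective ψ hψsurj [algebraMap A R (a 0)] _ hψker ?_ ?_
  · rw [isWeaklyRegular_cons_iff]
    refine ⟨fun x y hxy => ?_, IsWeaklyRegular.nil _ _⟩
    simp only [smul_eq_mul] at hxy
    exact mul_cancel_left_mem_nonZeroDivisors hnzd |>.1 hxy
  let W := Ideal.ofList (ws.map (Ideal.Quotient.mk I))
  let G : MvPolynomial (Fin t) (A ⧸ I) →+* MvPolynomial (Fin t) ((A ⧸ I) ⧸ W) :=
    MvPolynomial.map (Ideal.Quotient.mk W)
  have h1 : (ws.map (algebraMap A R) ++ S.map (fun j => μ (MvPolynomial.X j))).map ψ =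
      (ws.map (Ideal.Quotient.mk I)).map MvPolynomial.C ++ S.map MvPolynomial.X := by
    rw [List.map_append, List.map_map, List.map_map, List.map_map]
    congr 1
    · refine List.map_congr_left fun x _ => ?_
      show ψ (algebraMap A R x) = _
      rw [← μ.commutes, hψ]
      simp [F, MvPolynomial.algebraMap_eq]
    · refine List.map_congr_left fun j _ => ?_
      show ψ (μ _) = _
      rw [hψ]
      simp [F]
  change IsWeaklyRegular _ ((ws.map (algebraMap A R) ++ S.map (fun j => μ (MvPolynomial.X j))).map ψ)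
  rw [h1]
  have hG : Function.Surjective G := MvPolynomial.map_surjective _ Ideal.Quotient.mk_surjective
  refine weaklyRegular_append_of_surjective (A := MvPolynomial (Fin t) ((A ⧸ I) ⧸ W))
    (R := MvPolynomial (Fin t) (A ⧸ I)) G hG
    ((ws.map (Ideal.Quotient.mk I)).map MvPolynomial.C) (S.map MvPolynomial.X) ?_ ?_ ?_
  · rw [MvPolynomial.ker_map, Ideal.mk_ker, ← Ideal.map_ofList]
  · have := ((isWeaklyRegular_map_algebraMap_iff (A ⧸ I) (A ⧸ I) ws).2 hws).of_flat
      (S := MvPolynomial (Fin t) (A ⧸ I))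
    rw [Ideal.Quotient.algebraMap_eq, MvPolynomial.algebraMap_eq] at this
    exact this
  · rw [List.map_map]
    simpa [Function.comp_def, G] using weaklyRegular_X (A := (A ⧸ I) ⧸ W) S hS

end Chart

end Groth.Agent.RegImm10.StrictAlg
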